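import Cfsg.Agent.Lib.UniqueSylow82.RankTwo
import Cfsg.Agent.S2756
import Cfsg.Agent.Lib.BenderOne.LocalTools
import Cfsg.Agent.Lib.Signalizer.Complete
import Cfsg.Agent.Lib.Goldschmidt53.Main
import Cfsg.Agent.Lib.Goldschmidt53.RankTwoMin.StructureMain
import Cfsg.Agent.Lib.Goldschmidt53.RankTwoMin.Main
import Cfsg.Agent.Lib.Goldschmidt53.RankTwoMin.Case1
import Cfsg.Agent.Lib.PGroups.Omega

/-!
# The minimal situation is impossible (helper82)

Rank one: a normal Sylow `2`-subgroup in every `N(Z(J(T)))` (S2756).  Rank at least three: the solvable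
signalizer functor theorem.  Rank two: either `P` lies in one line, giving a strongly closed elementary
abelian `2`-subgroup while the single class of involutions has no `A`-fixed member (Goldschmidt), or
`RankTwo` applies.
-/

set_option autoImplicit false
set_option linter.style.haveILetI false
set_option linter.unusedSectionVars false

open scoped commutatorElement

namespace Cfsg.Agent.Lib.UniqueSylow82

open Subgroup
open Cfsg.Agent.Lib.Signalizer (qc qc_le le_normalizer_qc normalizer_le_normalizer_qc le_qc qc_isPGroup)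
open scoped Pointwise

universe u

variable {Γ : Type u} [Group Γ] [Finite Γ]

/-- Goldschmidt's theorem on strongly closed elementary abelian subgroups, for simple groups. -/
theorem propSimple : Goldschmidt53.PropSimple.{u} :=
  Goldschmidt53.simple_of_sections (Goldschmidt53.sections_of
    (Goldschmidt53.RankTwoMin.rankTwoMin Goldschmidt53.RankTwoMin.structure_
      Goldschmidt53.RankTwoMin.propCase1))

namespace Min

variable {r : ℕ} {G A : Subgroup Γ} (h : Min r G A)
include h

theorem isSimple : IsSimpleGroup G := by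
  haveI : Nontrivial G := (nontrivial_iff_ne_bot G).mpr h.ne_bot
  refine ⟨fun N hN => ?_⟩
  rcases h.simple (N.map G.subtype) (map_subtype_le N) (le_normalizer_iff.mpr (by
    rintro g hg _ ⟨n, hn, rfl⟩
    exact ⟨⟨g, hg⟩ * n * ⟨g, hg⟩⁻¹, hN.conj_mem n hn ⟨g, hg⟩, rfl⟩)) with h1 | h1
  · exact Or.inl (map_injective G.subtype_injective (h1.trans (Subgroup.map_bot _).symm))
  · refine Or.inr (map_injective G.subtype_injective (h1.trans ?_))
    rw [← MonoidHom.range_eq_map, range_subtype]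

theorem not_comm : ¬ IsMulCommutative G := fun hc =>
  haveI := hc
  h.nsol (Coprime.isSolvable_of_isMulCommutative G)

/-- No strongly closed elementary abelian `2`-subgroup. -/
theorem no_closed (S : Sylow 2 G) (E : Subgroup G) (hE : E ≠ ⊥)
    (hel : Cfsg.IsElementaryAbelian 2 E) (hcl : Cfsg.IsStronglyClosed E (S : Subgroup G)) : False := by
  haveI := Fact.mk h.hr
  haveI : Fact (Nat.Prime 2) := ⟨Nat.prime_two⟩
  obtain ⟨hk, -⟩ := propSimple (Nat.card G + 1) G (Nat.lt_succ_self _) h.isSimple h.not_comm S E hE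
    hel hcl
  have hconj := (Goldschmidt53.facts G hk).conj
  obtain ⟨t, ht, ht1⟩ := E.bot_or_exists_ne_one.resolve_left hE
  have htord : orderOf t = 2 := orderOf_eq_prime (hel.2 t ht) ht1
  let I := {g : G // orderOf g = 2}
  have hnor : ∀ (a : A) (g : G), (a : Γ) * g * (a : Γ)⁻¹ ∈ G := fun a g => conj_mem h.nor a.2 g.2
  let φ : A →* MulAut G := G.normalizerMonoidHom.comp (inclusion h.nor)
  letI : MulAction A I :=
    { smul := fun a g => ⟨φ a g.1, (MulEquiv.orderOf_eq (φ a) g.1).trans g.2⟩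
      one_smul := fun g => Subtype.ext (by
        show φ 1 g.1 = g.1
        rw [map_one]; rfl)
      mul_smul := fun a b g => Subtype.ext (by
        show φ (a * b) g.1 = φ a (φ b g.1)
        rw [map_mul]; rfl) }
  have hmod := h.isP_A.card_modEq_card_fixedPoints I
  have hfix : IsEmpty (MulAction.fixedPoints A I) := by
    refine ⟨fun x => ?_⟩
    obtain ⟨⟨g, hg⟩, hfix⟩ := x
    have hgA : (g : Γ) ∈ zpowers (g : Γ) ⊓ centralizer (A : Set Γ) := by
      refine ⟨mem_zpowers _, mem_centralizer_iff.mpr fun a ha => ?_⟩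
      have h1 := congrArg (fun y : I => ((y.1 : G) : Γ)) (hfix ⟨a, ha⟩)
      exact mul_inv_eq_iff_eq_mul.mp h1
    have h2 : IsPGroup 2 (zpowers (g : Γ)) :=
      IsPGroup.of_card (n := 1) (by rw [Nat.card_zpowers, Subgroup.orderOf_coe, hg, pow_one])
    rw [h.two_inf_fixed (zpowers_le.mpr g.2) h2, mem_bot] at hgA
    rw [show g = 1 from Subtype.ext hgA, orderOf_one] at hg
    exact absurd hg (by norm_num)
  rw [Nat.card_of_isEmpty (α := MulAction.fixedPoints A I), Nat.modEq_zero_iff_dvd] at hmod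
  have hI : Nat.card I ∣ Nat.card G := by
    have horb : Set.ncard (MulAction.orbit (ConjAct G) t) = Nat.card I := by
      rw [← Nat.card_coe_set_eq]
      refine Nat.card_congr (Equiv.subtypeEquivRight fun g => ?_)
      rw [ConjAct.mem_orbit_conjAct]
      refine ⟨fun hc => ?_, fun hg => hconj g t hg htord⟩
      obtain ⟨c, hc⟩ := isConj_iff.mp hc
      rw [← htord, ← hc]
      exact (MulEquiv.orderOf_eq (MulAut.conj c) g).symm
    rw [← horb, ← MulAction.index_stabilizer, ← Nat.card_congr (ConjAct.ofConjAct (G := G)).toEquiv]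
    exact index_dvd_card _
  exact h.hr.not_dvd_one (h.cop ▸ Nat.dvd_gcd dvd_rfl (hmod.trans hI))

/-- An inverted element in an invariant `N(Z(J(T)))`. -/
theorem exists_inverted :
    ∃ q : ℕ, q.Prime ∧ q ≠ 2 ∧ ∃ X : Subgroup Γ, Inv G A X ∧ X ≠ G ∧ syl A q G ≤ X ∧
      ∃ x ∈ syl A q G, x ≠ 1 ∧ ∃ g ∈ X, g * x * g⁻¹ = x⁻¹ := by
  haveI : Fact (Nat.Prime 2) := ⟨Nat.prime_two⟩
  have hnot : ¬ ∀ P : Sylow 2 G, (P : Subgroup G).Normal := fun hall => by
    obtain ⟨P, hP⟩ := h.exists_sylow h.inv_self 2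
    haveI := h.isSimple
    rcases (hall P).eq_bot_or_eq_top with h1 | h1
    · exact h.syl_two_ne_bot (by rw [← hP, h1, Subgroup.map_bot])
    · refine h.ne_of_pGroup Nat.prime_two (h.syl_isP h.inv_self Nat.prime_two) ?_
      rw [← hP, h1, ← MonoidHom.range_eq_map, range_subtype]
  rw [(S2756.result (G := G)).2] at hnot
  push Not at hnot
  obtain ⟨q, hqF, hq2, T', x, hx, hx1, g, hg, hgx⟩ := hnot
  haveI := hqF
  set T := syl A q G with hT
  have hTi : Inv G A T := h.inv_self.syl_inv q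
  have hTp : IsPGroup q T := h.syl_isP h.inv_self hqF.out
  obtain ⟨T₀, hT₀⟩ := h.exists_sylow h.inv_self q
  obtain ⟨k, hk, hkT⟩ := Coprime.exists_conj_sylow_map T' T₀
  rw [hT₀] at hkT
  set c : Γ →* Γ := (MulAut.conj k).toMonoidHom with hc
  have hmapT : ((T' : Subgroup G).map G.subtype).map c = T := by
    rw [hT, ← hkT, Coprime.conj_smul_eq_map]
  set Z := Cfsg.centerThompsonAOf T with hZ
  have hZeq : (Cfsg.centerThompsonAOf (T' : Subgroup G)).map (c.comp G.subtype) = Z := by
    rw [hZ, ← hmapT, ← map_map, ZJ.map_centerThompsonAOf _ G.subtype_injective,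
      ZJ.map_centerThompsonAOf c (MulAut.conj k).injective]
  have hnorZ : normalizer (T : Set Γ) ≤ normalizer (Z : Set Γ) := fun y hy => by
    refine Coprime.mem_normalizer_of_conj_smul_eq ?_
    rw [hZ, Coprime.conj_smul_eq_map, ZJ.map_centerThompsonAOf _ (MulAut.conj y).injective,
      ← Coprime.conj_smul_eq_map, Coprime.conj_smul_eq_self_of_mem_normalizer hy]
  have hZT : Z ≤ T := ZJ.centerThompsonAOf_le T
  have hxT : c (x : Γ) ∈ T := hmapT ▸ mem_map_of_mem c (mem_map_of_mem G.subtype hx)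
  have hx1' : c (x : Γ) ≠ 1 := fun e => hx1 (Subtype.ext ((MulAut.conj k).injective (by
    rw [Subgroup.coe_one, map_one]; exact e)))
  have hTne : T ≠ ⊥ := fun e => hx1' (by rwa [e, mem_bot] at hxT)
  have hiX : Inv G A (G ⊓ normalizer (Z : Set Γ)) := h.inv_normalizer (hTi.nor.trans hnorZ)
  refine ⟨q, hqF.out, hq2, G ⊓ normalizer (Z : Set Γ), hiX,
    h.normalizer_ne (hZT.trans hTi.le) (BenderOne.LocalTools.zj_ne_bot hTp hTne)
      (h.ne_of_pGroup hqF.out (hTp.to_le hZT)),
    le_inf hTi.le (le_normalizer.trans hnorZ), c (x : Γ), hxT, hx1', c (g : Γ),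
    ⟨conj_mem le_normalizer hk g.2, ?_⟩, ?_⟩
  · rw [← hZeq]
    exact le_normalizer_map (c.comp G.subtype) (mem_map_of_mem (c.comp G.subtype) hg)
  · rw [← map_inv, ← map_mul, ← map_mul, ← map_inv]
    exact congrArg c (congrArg Subtype.val hgx)

theorem false_rank_one (hA : Nat.card A = r) : False := by
  haveI := Fact.mk h.hr
  obtain ⟨q, hq, hq2, X, hX, hXne, hTX, x, hx, hx1, g, hg, hinv⟩ := h.exists_inverted
  obtain ⟨b, hb, hb1⟩ := A.bot_or_exists_ne_one.resolve_left fun e => by
    rw [e, card_bot] at hA; exact h.hr.one_lt.ne hA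
  have hAb : A ≤ zpowers b := (eq_of_le_of_card_ge (zpowers_le.mpr hb) (by
    rw [hA, Nat.card_zpowers, orderOf_eq_prime (h.pow b hb) hb1])).ge
  refine h.false_of_inverted_qc hX (h.syl_two_le_qc hX (h.proper X hX hXne) hb ?_) hq hq2
    (h.syl_isP h.inv_self hq) hTX hx hx1 hg hinv
  intro y hy
  rw [mem_centralizer_iff]
  intro a ha
  obtain ⟨j, rfl⟩ := hAb ha
  exact ((show Commute y b from mem_centralizer_singleton_iff.mp hy.2).zpow_right j).eq.symm

theorem false_rank_ge_three (hA : r ^ 3 ≤ Nat.card A) : False := by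
  haveI := Fact.mk h.hr
  haveI := h.commA
  set θ : Γ → Subgroup Γ := fun a => G ⊓ centralizer ({a} : Set Γ) with hθ
  have hθs : Cfsg.IsSolvableSignalizerFunctor r A θ := by
    refine ⟨⟨fun a _ _ => inf_le_right, fun a _ _ => ?_, fun a ha _ b hb x hx =>
      conj_mem (h.inv_fixed h.inv_self ha).nor hb hx, fun a _ _ b _ _ =>
        le_inf (inf_le_left.trans inf_le_left) inf_le_right⟩, fun a ha ha1 => ?_⟩
    · exact h.hr.coprime_iff_not_dvd.mp (h.coprime_r inf_le_left)
    · exact h.proper _ (h.inv_fixed h.inv_self ha) fun e => h.moves a ha ha1 (inf_eq_left.mp e)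
  have hel : Cfsg.IsElementaryAbelian r A := ⟨h.commA, h.pow⟩
  obtain ⟨hm, -⟩ := Signalizer.Completes.closure hel hA hθs.1 (Signalizer.completes hel hA hθs)
  obtain ⟨k, hk⟩ := IsPGroup.iff_card.mp h.isP_A
  have hk2 : 2 ≤ k := by
    have := hk ▸ hA
    have := (Nat.pow_le_pow_iff_right h.hr.one_lt).mp this
    omega
  have hgen := Coprime.iSup_centralizer_eq (PGroups.not_isCyclic_of_elemAb_card hk2 hel hk) h.nor
    (h.coprime_A le_rfl)
  have hGle : G ≤ Cfsg.signalizerClosure A θ := by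
    rw [← hgen]
    exact iSup₂_le fun a ha =>
      le_iSup (fun a : {a : Γ // a ∈ A ∧ a ≠ 1} => θ (a : Γ)) ⟨a, ha⟩
  haveI := hm.1
  exact h.nsol (Coprime.isSolvable_of_le hGle)

theorem false_rank_two (hA : Nat.card A = r ^ 2) (hr2 : r ≠ 2) : False := by
  haveI : Fact (Nat.Prime 2) := ⟨Nat.prime_two⟩
  have h' : Two r G A := { toMin := h, cardA := hA, rne := hr2 }
  obtain ⟨q, hq, hq2, X, hX, hXne, hTX, x, hx, hx1, g, hg, hinv⟩ := h.exists_inverted
  by_cases h2l : TwoLines A (syl A 2 G)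
  · exact h'.false_of_twoLines h2l hq hq2 hX hXne hTX hx hx1 hg hinv
  unfold TwoLines at h2l
  push Not at h2l
  obtain ⟨a, ha, ha1, hPa⟩ := h2l
  set P := syl A 2 G with hP
  have iP : Inv G A P := h.inv_self.syl_inv 2
  have hP2 : IsPGroup 2 P := h.syl_isP h.inv_self Nat.prime_two
  set D := G ⊓ centralizer ({a} : Set Γ) with hD
  have iD : Inv G A D := h.inv_fixed h.inv_self ha
  have hPD : qc 2 D = P := le_antisymm
    ((le_syl (qc_le D) (iD.qc 2).nor (qc_isPGroup D)).trans (syl_mono iD.le))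
    (h'.ctx.two_le ha ha1 iP hP2 hPa)
  have hDP : D ≤ normalizer (P : Set Γ) := hPD ▸ le_normalizer_qc D
  set E := Cfsg.omegaOne 2 (P ⊓ centralizer (P : Set Γ)) with hE
  have hZc : IsMulCommutative ↥(P ⊓ centralizer (P : Set Γ)) :=
    ⟨⟨fun x y => Subtype.ext (mem_centralizer_iff.mp y.2.2 x x.2.1)⟩⟩
  have hEP : E ≤ P := (PGroups.omegaOne_le 2 _).trans inf_le_left
  have hEne : E ≠ ⊥ := PGroups.omegaOne_ne_bot (hP2.to_le inf_le_left)
    (inf_centralizer_ne_bot Nat.prime_two hP2 h.syl_two_ne_bot)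
  have hclosed : ∀ x ∈ E, ∀ g ∈ G, g * x * g⁻¹ ∈ P → g * x * g⁻¹ ∈ E := by
    intro y hy w hw hwy
    have hya : ∀ b ∈ zpowers a, ∀ z ∈ P, b * z * b⁻¹ = z := by
      rintro b ⟨j, rfl⟩ z hz
      rw [mul_inv_eq_iff_eq_mul]
      exact ((show Commute z a from mem_centralizer_singleton_iff.mp (hPa hz)).zpow_right j).eq.symm
    obtain ⟨n, hn, hfix⟩ := Coprime.exists_mul_fixed (A := zpowers a)
      (N := G ⊓ centralizer ({y} : Set Γ))
      (by
        rw [le_normalizer_iff]
        intro b hb z hz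
        refine ⟨conj_mem ((zpowers_le.mpr ha).trans h.nor) hb hz.1,
          mem_centralizer_singleton_iff.mpr ?_⟩
        have h1 := hya b hb y (hEP hy)
        have h2 : z * y = y * z := mem_centralizer_singleton_iff.mp hz.2
        calc b * z * b⁻¹ * y = b * z * b⁻¹ * (b * y * b⁻¹) := by rw [h1]
          _ = b * (z * y) * b⁻¹ := by group
          _ = b * (y * z) * b⁻¹ := by rw [h2]
          _ = (b * y * b⁻¹) * (b * z * b⁻¹) := by group
          _ = _ := by rw [h1])
      (h.coprime_zpowers inf_le_left ha) (Or.inl (Coprime.isSolvable_zpowers a)) (k := w)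
      (fun b hb => by
        have hbw : b * w * b⁻¹ ∈ G := conj_mem ((zpowers_le.mpr ha).trans h.nor) hb hw
        refine ⟨G.mul_mem (G.inv_mem hw) hbw, mem_centralizer_singleton_iff.mpr ?_⟩
        have h1 := hya b hb y (hEP hy)
        have h2 := hya b hb _ hwy
        have h3 : (b * w * b⁻¹) * y = (w * y * w⁻¹) * (b * w * b⁻¹) := by
          calc (b * w * b⁻¹) * y = (b * w * b⁻¹) * (b * y * b⁻¹) := by rw [h1]
            _ = b * (w * y * w⁻¹) * b⁻¹ * (b * w * b⁻¹) := by group
            _ = _ := by rw [h2]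
        calc w⁻¹ * (b * w * b⁻¹) * y = w⁻¹ * ((b * w * b⁻¹) * y) := by group
          _ = _ := by rw [h3]; group)
    have hwn : w * n ∈ normalizer (P : Set Γ) := hDP ⟨mul_mem hw hn.1,
      centralizer_le (Set.singleton_subset_iff.mpr (mem_zpowers a)) hfix⟩
    have hyn : n * y * n⁻¹ = y := mul_inv_eq_iff_eq_mul.mpr (mem_centralizer_singleton_iff.mp hn.2)
    have heq : w * y * w⁻¹ = (w * n) * y * (w * n)⁻¹ := by
      conv_lhs => rw [← hyn]
      group
    rw [heq, hE]
    rw [hE, PGroups.mem_omegaOne_iff_of_comm hZc] at hy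
    rw [PGroups.mem_omegaOne_iff_of_comm hZc]
    refine ⟨⟨conj_mem le_rfl hwn hy.1.1, ?_⟩, ?_⟩
    · exact conj_mem (nor_centralizer le_rfl) hwn hy.1.2
    · rw [conj_pow, hy.2, mul_one, mul_inv_cancel]
  obtain ⟨S, hS⟩ := h.exists_sylow h.inv_self 2
  refine h.no_closed S (E.subgroupOf G) ?_ ?_ ⟨?_, ?_⟩
  · intro e
    rw [subgroupOf_eq_bot, disjoint_iff, inf_eq_left.mpr (hEP.trans iP.le)] at e
    exact hEne e
  · exact PGroups.elemAb_subgroupOf (PGroups.elemAb_omegaOne hZc) G
  · intro z hz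
    have h1 : (z : Γ) ∈ P := hEP hz
    rw [hP, ← hS] at h1
    exact (mem_map_iff_mem G.subtype_injective).mp h1
  · intro z hz w hwz
    refine hclosed z hz w w.2 ?_
    rw [hP, ← hS]
    exact mem_map_of_mem G.subtype hwz

end Min

end Cfsg.Agent.Lib.UniqueSylow82
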