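import Cfsg.Agent.Lib.UniqueSylow82.RankOne

/-!
# The chain lemma (helper82)

`chain` : a `2`-group `Q` normalises the `q`-group `U`, `q` odd, and both normalise the abelian
`s`-group `V`, `s ≠ q`, all invariant: then `⁅U, Q⁆` centralises `V`.

In a minimal configuration `Q` centralises some `x ∈ A`, `Φ(U) = C_U(A) = 1` and `U` is abelian; a minimal
`U`-invariant `V₀` has `⁅U, e⁆ ≤ C(V₀)` for some `e ∉ ⟨x⟩`, and comparing `V₀` with its `Q`-conjugates
forces `⁅Q, e⁆ = Q` to act trivially on `U / C_U(V₀)`.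
-/

set_option autoImplicit false
set_option linter.style.haveILetI false
set_option linter.unusedSectionVars false

open scoped commutatorElement

namespace Cfsg.Agent.Lib.UniqueSylow82

open Subgroup
open Cfsg.Agent.Lib.Signalizer (qc qc_le le_normalizer_qc normalizer_le_normalizer_qc le_qc qc_isPGroup)

universe u

variable {Γ : Type u} [Group Γ] [Finite Γ]

/-- An odd `q`-group centralising `C_V(d)`: its commutator with `d` centralises `V`. -/
theorem comm_fix {r q s : ℕ} (hr : r.Prime) (hq : q.Prime) (hs : s.Prime) (hq2 : q ≠ 2)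
    (hqs : q ≠ s) (hrs : r ≠ s) (hrq : r ≠ q) {U V : Subgroup Γ} (hU : IsPGroup q U)
    (hV : IsPGroup s V) (hUV : U ≤ normalizer (V : Set Γ)) {d : Γ} (hd : d ^ r = 1)
    (hdU : d ∈ normalizer (U : Set Γ)) (hdV : d ∈ normalizer (V : Set Γ))
    (hfix : U ≤ centralizer ((V ⊓ centralizer {d} : Subgroup Γ) : Set Γ)) :
    ⁅U, zpowers d⁆ ≤ centralizer (V : Set Γ) := by
  haveI := Fact.mk hr
  haveI := Fact.mk hq
  haveI := Fact.mk hs
  set φ := V.normalizerMonoidHom with hφ
  set σ := φ ⟨d, hdV⟩ with hσ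
  have hdU' : (⟨d, hdV⟩ : ↥(normalizer (V : Set Γ))) ∈
      normalizer ((U.subgroupOf (normalizer (V : Set Γ)) : Subgroup _) : Set _) :=
    mem_normalizer_iff.mpr fun y => mem_normalizer_iff.mp hdU (y : Γ)
  have hc := Signalizer.commute_of_fix (p := r) (q := q) (t := s) hqs hrs hrq hV
    (P := (U.subgroupOf (normalizer (V : Set Γ))).map φ) (hU.comap_subtype.map _) (Or.inl hq2)
    (σ := σ) (by rw [hσ, ← map_pow, show (⟨d, hdV⟩ : ↥(normalizer (V : Set Γ))) ^ r = 1 from
      Subtype.ext (by simpa using hd), map_one])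
    (le_normalizer_map φ (mem_map_of_mem φ hdU')) (by
      rintro v hv _ ⟨u, hu, rfl⟩
      have h1 : d * (v : Γ) * d⁻¹ = v := congrArg Subtype.val hv
      have h2 : (v : Γ) ∈ V ⊓ centralizer {d} :=
        ⟨v.2, mem_centralizer_singleton_iff.mpr (mul_inv_eq_iff_eq_mul.mp h1).symm⟩
      refine Subtype.ext ?_
      show (u : Γ) * v * (u : Γ)⁻¹ = v
      rw [mul_inv_eq_iff_eq_mul]
      exact (mem_centralizer_iff.mp (hfix hu) _ h2).symm)
  rw [commutator_le]
  rintro u hu _ ⟨j, rfl⟩
  set u' : ↥(normalizer (V : Set Γ)) := ⟨u, hUV hu⟩ with hu'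
  have h1 : Commute σ (φ u') := hc _ (mem_map_of_mem φ hu)
  have h2 : ⁅u', (⟨d, hdV⟩ : ↥(normalizer (V : Set Γ))) ^ j⁆ ∈ φ.ker := by
    rw [MonoidHom.mem_ker, map_commutatorElement, map_zpow]
    exact commutatorElement_eq_one_iff_mul_comm.mpr (h1.zpow_left j).eq.symm
  rw [hφ, normalizerMonoidHom_ker, mem_subgroupOf] at h2
  simpa [commutatorElement_def, hu'] using h2

/-- On a line the centralisers agree. -/
theorem Ctx.cent_le {r : ℕ} {G A : Subgroup Γ} (h : Ctx r G A) {x a : Γ} (hx : x ∈ A) (ha1 : a ≠ 1)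
    (hax : a ∈ zpowers x) : centralizer ({a} : Set Γ) ≤ centralizer {x} := by
  have hxa : x ∈ zpowers a := by
    by_cases hx1 : x = 1
    · subst hx1; exact one_mem _
    haveI := Fact.mk h.hr
    refine (eq_of_le_of_card_ge (zpowers_le.mpr hax) ?_).symm ▸ mem_zpowers x
    rw [Nat.card_zpowers, Nat.card_zpowers, orderOf_eq_prime (h.pow x hx) hx1,
      orderOf_eq_prime (h.pow a (zpowers_le.mpr hx hax)) ha1]
  intro y hy
  obtain ⟨i, rfl⟩ := hxa
  exact mem_centralizer_singleton_iff.mpr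
    ((show Commute y a from mem_centralizer_singleton_iff.mp hy).zpow_right i).eq

/-- The data of the chain lemma. -/
structure Cfg (r : ℕ) (G A U V Q : Subgroup Γ) (q s : ℕ) : Prop where
  ctx : Ctx r G A
  hq : q.Prime
  hs : s.Prime
  q2 : q ≠ 2
  qs : q ≠ s
  iU : Inv G A U
  iV : Inv G A V
  iQ : Inv G A Q
  pU : IsPGroup q U
  pV : IsPGroup s V
  pQ : IsPGroup 2 Q
  cV : IsMulCommutative V
  QU : Q ≤ normalizer (U : Set Γ)
  QV : Q ≤ normalizer (V : Set Γ)
  UV : U ≤ normalizer (V : Set Γ)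

/-- The induction hypothesis. -/
def Below (n : ℕ) : Prop :=
  ∀ (Γ' : Type u) [Group Γ'] [Finite Γ'] (r : ℕ) (G A U V Q : Subgroup Γ') (q s : ℕ),
    Nat.card U + Nat.card Q + Nat.card V < n → Cfg r G A U V Q q s →
    ⁅U, Q⁆ ≤ centralizer (V : Set Γ')

namespace Cfg

variable {r : ℕ} {G A U V Q : Subgroup Γ} {q s : ℕ} (c : Cfg r G A U V Q q s)
include c

theorem r_ne_q : U ≠ ⊥ → r ≠ q := fun hU e => by
  haveI := Fact.mk c.hq
  obtain ⟨n, hn⟩ := IsPGroup.iff_card.mp c.pU
  have hco := c.ctx.coprime_r c.iU.le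
  rw [hn, e] at hco
  rcases Nat.eq_zero_or_pos n with rfl | hpos
  · exact hU (card_eq_one.mp (by simpa using hn))
  · exact c.hq.one_lt.ne' ((Nat.coprime_self q).mp ((Nat.coprime_pow_right_iff hpos q q).mp hco))

theorem comm_le_U : ⁅U, Q⁆ ≤ U := Coprime.commutator_le_of_le_normalizer c.QU

theorem coprime_UQ : (Nat.card Q).Coprime (Nat.card U) :=
  card_coprime_pGroups Nat.prime_two c.hq c.q2.symm c.pQ c.pU

theorem coprime_QV (hs2 : s ≠ 2) : (Nat.card Q).Coprime (Nat.card V) :=
  card_coprime_pGroups Nat.prime_two c.hs hs2.symm c.pQ c.pV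

theorem img_cfg {N : Subgroup Γ} (hA : A ≤ normalizer (N : Set Γ)) (hN : N ≤ G) :
    Cfg r (img N G) (img N A) (img N U) (img N V) (img N Q) q s where
  ctx := c.ctx.quot hA hN
  hq := c.hq
  hs := c.hs
  q2 := c.q2
  qs := c.qs
  iU := c.ctx.inv_img hA c.iU
  iV := c.ctx.inv_img hA c.iV
  iQ := c.ctx.inv_img hA c.iQ
  pU := img_isP c.pU
  pV := img_isP c.pV
  pQ := img_isP c.pQ
  cV := by
    haveI := c.cV
    exact inferInstanceAs (IsMulCommutative ↥((V.subgroupOf _).map (qmk N)))
  QU := img_nor c.QU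
  QV := img_nor c.QV
  UV := img_nor c.UV

/-- Step: the conclusion for smaller configurations and its failure give a contradiction. -/
theorem false_of_min (IH : Below.{u} (Nat.card U + Nat.card Q + Nat.card V))
    (hgoal : ¬ ⁅U, Q⁆ ≤ centralizer (V : Set Γ)) : False := by
  have h := c.ctx
  haveI := Fact.mk c.hq
  haveI := Fact.mk c.hs
  haveI := Fact.mk h.hr
  haveI := c.cV
  have hVself : V ≤ centralizer (V : Set Γ) := le_centralizer_iff_isMulCommutative.mpr c.cV
  have hsolU : Group.IsSolvable U := Coprime.isSolvable_of_isPGroup c.pU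
  have hUne : U ≠ ⊥ := fun e => hgoal (by rw [e, commutator_bot_left]; exact bot_le)
  have hrq := c.r_ne_q hUne
  have hKU := c.comm_le_U
  have hKV : ⁅U, Q⁆ ≤ normalizer (V : Set Γ) := hKU.trans c.UV
  -- faithful
  have faith : ∀ S : Subgroup Γ, S ≤ U → S ≤ centralizer (V : Set Γ) → S = ⊥ := by
    intro S hSU hSV
    by_contra hS
    set U1 := U ⊓ centralizer (V : Set Γ) with hU1
    have hU1ne : U ⊓ U1 ≠ ⊥ := fun e => hS (le_bot_iff.mp (e ▸ le_inf hSU (le_inf hSU hSV)))
    have hA1 : A ≤ normalizer (U1 : Set Γ) := Coprime.le_normalizer_inf c.iU.nor (nor_centralizer c.iV.nor)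
    have hU1' : U ≤ normalizer (U1 : Set Γ) := Coprime.le_normalizer_inf le_normalizer (nor_centralizer c.UV)
    have hQ1 : Q ≤ normalizer (U1 : Set Γ) := Coprime.le_normalizer_inf c.QU (nor_centralizer c.QV)
    have hV1 : V ≤ normalizer (U1 : Set Γ) :=
      (le_centralizer_iff.mp (inf_le_right : U1 ≤ centralizer (V : Set Γ))).trans
        (centralizer_le_normalizer _)
    have hlt := card_img_lt hU1' hU1ne
    have hres := IH (NQ U1) r _ _ (img U1 U) (img U1 V) (img U1 Q) q s (by
      have h2 := Nat.le_of_dvd Nat.card_pos (card_img_dvd (N := U1) Q)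
      have h3 := Nat.le_of_dvd Nat.card_pos (card_img_dvd (N := U1) V)
      omega) (c.img_cfg hA1 (inf_le_left.trans c.iU.le))
    rw [← img_commutator hU1' hQ1] at hres
    have h4 : ⁅⁅U, Q⁆, V⁆ ≤ U1 := commutator_le_of_img (hKU.trans hU1') hV1 hres
    have h5 : ⁅⁅U, Q⁆, V⁆ ≤ V := by
      rw [commutator_comm]; exact le_normalizer_iff_commutator_le_left.mp hKV
    refine hgoal (commutator_eq_bot_iff_le_centralizer.mp ?_)
    exact eq_bot_of_pGroups c.hq c.hs c.qs c.pU c.pV (h4.trans inf_le_left) h5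
  -- irreducible
  have irred : ∀ V1 : Subgroup Γ, V1 ≤ V → A ≤ normalizer (V1 : Set Γ) →
      U ≤ normalizer (V1 : Set Γ) → Q ≤ normalizer (V1 : Set Γ) → V1 = ⊥ ∨ V1 = V := by
    intro V1 hV1 hA1 hU1 hQ1
    by_contra hcon
    push Not at hcon
    have hV1n : V ≤ normalizer (V1 : Set Γ) :=
      (hVself.trans (centralizer_le (SetLike.coe_subset_coe.mpr hV1))).trans
        (centralizer_le_normalizer _)
    have hne : V ⊓ V1 ≠ ⊥ := by rw [inf_eq_right.mpr hV1]; exact hcon.1
    have hlt := card_img_lt hV1n hne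
    have hres := IH (NQ V1) r _ _ (img V1 U) (img V1 V) (img V1 Q) q s (by
      have h2 := Nat.le_of_dvd Nat.card_pos (card_img_dvd (N := V1) U)
      have h3 := Nat.le_of_dvd Nat.card_pos (card_img_dvd (N := V1) Q)
      omega) (c.img_cfg hA1 (hV1.trans c.iV.le))
    rw [← img_commutator hU1 hQ1] at hres
    have h4 : ⁅⁅U, Q⁆, V⁆ ≤ V1 := commutator_le_of_img (hKU.trans hU1) hV1n hres
    have hsub := IH Γ r G A U V1 Q q s (by
      have := Nat.lt_of_le_of_ne (Nat.le_of_dvd Nat.card_pos (card_dvd_of_le hV1))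
        fun e => hcon.2 (eq_of_le_of_card_ge hV1 e.ge)
      omega)
      { c with
        iV := ⟨hV1.trans c.iV.le, hA1⟩
        pV := c.pV.to_le hV1
        cV := le_centralizer_iff_isMulCommutative.mp
          (hV1.trans (hVself.trans (centralizer_le (SetLike.coe_subset_coe.mpr hV1))))
        QV := hQ1
        UV := hU1 }
    refine hgoal (Coprime.le_centralizer_of_series (N := V1) ?_ ?_ ?_)
    · exact card_coprime_pGroups c.hq c.hs c.qs (c.pU.to_le hKU) (c.pV.to_le hV1)
    · rwa [commutator_comm]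
    · rw [commutator_comm, commutator_eq_bot_iff_le_centralizer]; exact hsub
  -- `⁅U, Q⁆ = U`, smaller subgroups are centralised
  have hsmallQ : ∀ U1 : Subgroup Γ, U1 ≤ U → A ≤ normalizer (U1 : Set Γ) →
      Q ≤ normalizer (U1 : Set Γ) → U1 ≠ U → Q ≤ centralizer (U1 : Set Γ) := by
    intro U1 hU1 hA1 hQ1 hne
    rw [le_centralizer_iff, ← commutator_eq_bot_iff_le_centralizer]
    refine faith _ ((le_normalizer_iff_commutator_le_left.mp hQ1).trans hU1) ?_
    refine IH Γ r G A U1 V Q q s ?_ { c with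
      iU := ⟨hU1.trans c.iU.le, hA1⟩
      pU := c.pU.to_le hU1
      QU := hQ1
      UV := hU1.trans c.UV }
    have := Nat.lt_of_le_of_ne (Nat.le_of_dvd Nat.card_pos (card_dvd_of_le hU1))
      fun e => hne (eq_of_le_of_card_ge hU1 e.ge)
    omega
  have hUQ : ⁅U, Q⁆ = U := by
    by_contra hne
    have h1 := hsmallQ _ hKU (c.iU.comm_le c.iQ.nor c.QU).nor
      (Coprime.right_le_normalizer_commutator U Q) hne
    rw [le_centralizer_iff, ← commutator_eq_bot_iff_le_centralizer,
      Coprime.commutator_commutator_eq c.QU c.coprime_UQ (Or.inr hsolU)] at h1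
    exact hgoal (by rw [h1]; exact bot_le)
  have hnotQU : ¬ Q ≤ centralizer (U : Set Γ) := fun hh => hgoal (by
    rw [commutator_eq_bot_iff_le_centralizer.mpr (le_centralizer_iff.mp hh)]; exact bot_le)
  -- `Q` centralises some `x`
  obtain ⟨x, hx, hx1, hQx⟩ : ∃ x ∈ A, x ≠ 1 ∧ Q ≤ centralizer ({x} : Set Γ) := by
    by_contra hno
    push Not at hno
    refine hnotQU (h.le_of_fixed c.iQ fun a ha ha1 => ?_)
    have hi := h.inv_fixed c.iQ ha
    rw [le_centralizer_iff, ← commutator_eq_bot_iff_le_centralizer]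
    refine faith _ (Coprime.commutator_le_of_le_normalizer (inf_le_left.trans c.QU)) ?_
    refine IH Γ r G A U V _ q s ?_ { c with
      iQ := hi
      pQ := c.pQ.to_le inf_le_left
      QU := inf_le_left.trans c.QU
      QV := inf_le_left.trans c.QV }
    have := Nat.lt_of_le_of_ne
      (Nat.le_of_dvd Nat.card_pos (card_dvd_of_le (inf_le_left : Q ⊓ centralizer {a} ≤ Q)))
      fun e => hno a ha ha1 (inf_eq_left.mp (eq_of_le_of_card_ge inf_le_left e.ge))
    omega
  have hQh : ∀ g ∈ A, g ∉ zpowers x → Q ⊓ centralizer ({g} : Set Γ) = ⊥ := fun g hg hgx =>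
    le_bot_iff.mp (((le_inf inf_le_left ((inf_le_inf_right _ hQx).trans
      (h.fixed_of_two hx hx1 hg hgx)))).trans (h.two_inf_fixed c.iQ.le c.pQ).le)
  -- the Frattini subgroup
  set Φ := fr U with hΦ
  have hΦU : Φ ≤ U := fr_le U
  have hQΦ : Q ≤ centralizer (Φ : Set Γ) :=
    hsmallQ _ hΦU c.iU.fr.nor (c.QU.trans (normalizer_le_fr U)) (fr_ne hUne)
  have hUΦ : U ≤ centralizer (Φ : Set Γ) := by
    rw [← commutator_eq_bot_iff_le_centralizer, ← hUQ]
    refine commutator_commutator_eq_bot_of_rotate ?_ ?_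
    · rw [commutator_eq_bot_iff_le_centralizer.mpr hQΦ, commutator_bot_left]
    · refine le_bot_iff.mp ((commutator_mono ?_ le_rfl).trans
        (commutator_eq_bot_iff_le_centralizer.mpr (le_centralizer_iff.mp hQΦ)).le)
      exact Coprime.commutator_le_of_le_normalizer (le_normalizer_fr U)
  have hcentQ : U ⊓ centralizer (Q : Set Γ) ≤ Φ := by
    have hUn : U ≤ normalizer (Φ : Set Γ) := le_normalizer_fr U
    have hQn : Q ≤ normalizer (Φ : Set Γ) := c.QU.trans (normalizer_le_fr U)
    haveI : IsMulCommutative ↥(img Φ U) := le_centralizer_iff_isMulCommutative.mp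
      (img_centralizes hUn hUn (commutator_le_fr c.pU))
    rw [← img_eq_bot (inf_le_left.trans hUn), ← le_bot_iff,
      ← Coprime.centralizer_inf_commutator_eq_bot (img_nor c.QU)
        ((c.coprime_UQ.coprime_dvd_left (card_img_dvd Q)).coprime_dvd_right (card_img_dvd U)),
      ← img_commutator hUn hQn, hUQ]
    refine le_inf (le_inf (img_mono inf_le_left) ?_) (img_mono inf_le_left)
    exact img_centralizes (inf_le_left.trans hUn) hQn
      ((commutator_eq_bot_iff_le_centralizer.mpr inf_le_right).le.trans bot_le)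
  have hsmallΦ : ∀ U1 : Subgroup Γ, U1 ≤ U → A ≤ normalizer (U1 : Set Γ) →
      Q ≤ normalizer (U1 : Set Γ) → U1 ≠ U → U1 ≤ Φ := fun U1 h1 h2 h3 h4 =>
    (le_inf h1 (le_centralizer_iff.mp (hsmallQ U1 h1 h2 h3 h4))).trans hcentQ
  have hfixQ : U ⊓ centralizer (A : Set Γ) ≤ centralizer (Q : Set Γ) :=
    h.comm_fixed c.hq Nat.prime_two c.q2 c.iU c.iQ c.pU c.pQ c.QU
  have hfixΦ : U ⊓ centralizer (A : Set Γ) ≤ Φ := (le_inf inf_le_left hfixQ).trans hcentQ
  have hUxΦ : U ⊓ centralizer {x} ≤ Φ := by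
    refine (le_inf inf_le_left ?_).trans hcentQ
    rw [← commutator_eq_bot_iff_le_centralizer]
    refine eq_bot_of_pGroups c.hq Nat.prime_two c.q2 c.pU (qc_isPGroup (G ⊓ centralizer {x}))
      ((commutator_mono inf_le_left le_rfl).trans hKU) ?_
    refine (commutator_mono le_rfl (h.two_le hx hx1 c.iQ c.pQ hQx)).trans ?_
    rw [commutator_comm]
    exact le_normalizer_iff_commutator_le_left.mp
      ((inf_le_inf_right _ c.iU.le).trans (le_normalizer_qc _))
  -- the moved part off the line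
  have hMU : ∀ g : Γ, g ∈ A → ⁅U ⊓ centralizer {g}, A⁆ ≤ U := fun g hg =>
    (Coprime.commutator_le_of_le_normalizer (h.inv_fixed c.iU hg).nor).trans inf_le_left
  have hMV : ∀ g ∈ A, g ≠ 1 → ⁅U ⊓ centralizer {g}, A⁆ ≤
      centralizer ((V ⊓ centralizer {g} : Subgroup Γ) : Set Γ) := fun g hg hg1 =>
    h.mov_cent hg hg1 c.hq c.hs c.qs c.iU c.pU c.iV c.pV c.UV
  have hUg : ∀ g ∈ A, U ⊓ centralizer {g} ≤ ⁅U ⊓ centralizer {g}, A⁆ ⊔ Φ := fun g hg =>
    (h.mov_sup_fixed (h.inv_fixed c.iU hg)).ge.trans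
      (sup_le_sup_left ((inf_le_inf_right _ inf_le_left).trans hfixΦ) _)
  have hne1 : ∀ g : Γ, g ∉ zpowers x → g ≠ 1 := fun g hgx e => hgx (e ▸ one_mem _)
  have hMΦ : ∀ g ∈ A, g ∉ zpowers x → ¬ ⁅U ⊓ centralizer {g}, A⁆ ≤ Φ := by
    intro g hg hgx hle
    refine hnotQU (LAEven57.AbelianCent.centralizes_of_fixed g Q (h.pow g hg) (c.iQ.nor hg)
      (hQh g hg hgx) U c.pU.isNilpotent (c.iU.nor hg) c.QU (h.coprime_r c.iU.le) c.coprime_UQ ?_)
    intro w hw u hu
    exact (mem_centralizer_iff.mp (hQΦ hw) u (sup_le hle le_rfl (hUg g hg hu))).symm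
  have hVg : ∀ g ∈ A, g ∉ zpowers x → V ⊓ centralizer ({g} : Set Γ) ≠ ⊥ := by
    intro g hg hgx he
    have h1 : ⁅U, zpowers g⁆ = ⊥ := by
      refine faith _ (Coprime.commutator_le_of_le_normalizer (zpowers_le.mpr (c.iU.nor hg))) ?_
      by_cases hV : V = ⊥
      · subst hV; intro y _; rw [mem_centralizer_iff]; intro z hz
        rw [SetLike.mem_coe, mem_bot] at hz; subst hz; simp
      refine comm_fix h.hr c.hq c.hs c.q2 c.qs ?_ hrq c.pU c.pV c.UV (h.pow g hg) (c.iU.nor hg)
        (c.iV.nor hg) ?_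
      · intro e
        obtain ⟨n, hn⟩ := IsPGroup.iff_card.mp c.pV
        have hco := h.coprime_r c.iV.le
        rw [hn, e] at hco
        rcases Nat.eq_zero_or_pos n with rfl | hpos
        · exact hV (card_eq_one.mp (by simpa using hn))
        · exact c.hs.one_lt.ne' ((Nat.coprime_self s).mp ((Nat.coprime_pow_right_iff hpos s s).mp hco))
      · rw [he]; intro y _; rw [mem_centralizer_iff]; intro z hz
        rw [SetLike.mem_coe, mem_bot] at hz; subst hz; simp
    have hQg : ⁅Q, zpowers g⁆ = Q := by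
      have := Coprime.commutator_sup_centralizer (zpowers_le.mpr (c.iQ.nor hg))
        (h.coprime_zpowers c.iQ.le hg) (Or.inl (Coprime.isSolvable_zpowers g))
      rwa [le_bot_iff.mp (le_trans (inf_le_inf_left _ (centralizer_le
        (Set.singleton_subset_iff.mpr (mem_zpowers g)))) (hQh g hg hgx).le), sup_bot_eq] at this
    refine hnotQU ?_
    rw [← commutator_eq_bot_iff_le_centralizer, ← hQg]
    refine commutator_commutator_eq_bot_of_rotate ?_ ?_
    · rw [commutator_comm (zpowers g) U, h1, commutator_bot_left]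
    · rw [hUQ, h1]
  -- central subgroups of `U` centralised by `Q` act without fixed points
  have key : ∀ S : Subgroup Γ, S ≤ Φ → A ≤ normalizer (S : Set Γ) → S ≠ ⊥ →
      V ⊓ centralizer (S : Set Γ) = ⊥ := by
    intro S hS hSA hne
    have hcn : ∀ L : Subgroup Γ, L ≤ centralizer (Φ : Set Γ) →
        L ≤ normalizer ((centralizer (S : Set Γ) : Subgroup Γ) : Set Γ) := fun L hL =>
      nor_centralizer ((hL.trans (centralizer_le (SetLike.coe_subset_coe.mpr hS))).trans
        (centralizer_le_normalizer _))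
    refine (irred _ inf_le_left (Coprime.le_normalizer_inf c.iV.nor (nor_centralizer hSA))
      (Coprime.le_normalizer_inf c.UV (hcn U hUΦ))
      (Coprime.le_normalizer_inf c.QV (hcn Q hQΦ))).resolve_right fun e => hne ?_
    exact faith S (hS.trans hΦU) (le_centralizer_iff.mp (inf_eq_left.mp e))
  -- `Φ` is fixed by `A`
  have hΦh : ∀ g ∈ A, g ∉ zpowers x → Φ ≤ centralizer ({g} : Set Γ) := by
    intro g hg hgx
    set Z := ⁅Φ, zpowers g⁆ with hZ
    have hgΦ : zpowers g ≤ normalizer (Φ : Set Γ) := zpowers_le.mpr (c.iU.fr.nor hg)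
    have hZΦ : Z ≤ Φ := Coprime.commutator_le_of_le_normalizer hgΦ
    by_contra hnc
    have hZne : Z ≠ ⊥ := fun e => hnc ((commutator_eq_bot_iff_le_centralizer.mp e).trans
      (centralizer_le (Set.singleton_subset_iff.mpr (mem_zpowers g))))
    have hZA : A ≤ normalizer (Z : Set Γ) := (h.inv_comm_zpowers c.iU.fr hg).nor
    have hVZ : ⁅V, Z⁆ = V := by
      have := Coprime.commutator_sup_centralizer (K := V) (A := Z) ((hZΦ.trans hΦU).trans c.UV)
        (card_coprime_pGroups c.hq c.hs c.qs (c.pU.to_le (hZΦ.trans hΦU)) c.pV)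
        (Or.inr (Coprime.isSolvable_of_isMulCommutative V))
      rwa [key Z hZΦ hZA hZne, sup_bot_eq] at this
    set M := ⁅U ⊓ centralizer {g}, A⁆ with hM
    set K := V ⊓ centralizer (M : Set Γ) with hK
    haveI : IsMulCommutative Φ := le_centralizer_iff_isMulCommutative.mp (hΦU.trans hUΦ)
    have hfix : Z ⊓ centralizer {g} = ⊥ := by
      rw [← le_bot_iff, ← Coprime.centralizer_inf_commutator_eq_bot (A := zpowers g) hgΦ
        (h.coprime_zpowers c.iU.fr.le hg)]
      refine le_inf (le_inf (inf_le_left.trans hZΦ) ?_) inf_le_left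
      intro y hy
      rw [mem_centralizer_iff]
      rintro _ ⟨j, rfl⟩
      exact ((show Commute y g from mem_centralizer_singleton_iff.mp hy.2).zpow_right j).eq.symm
    have hZK : Z ≤ normalizer (K : Set Γ) := by
      refine Coprime.le_normalizer_inf ((hZΦ.trans hΦU).trans c.UV) (nor_centralizer ?_)
      exact (le_centralizer_iff.mp ((hMU g hg).trans
        (hUΦ.trans (centralizer_le (SetLike.coe_subset_coe.mpr hZΦ))))).trans
        (centralizer_le_normalizer _)
    have h2 := fixed_quot g Z K V (h.pow g hg) (hZA hg) hfix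
      (c.pV.isNilpotent) (c.iV.nor hg) ((hZΦ.trans hΦU).trans c.UV)
      (Coprime.le_normalizer_inf c.iV.nor (nor_centralizer (h.inv_fixed c.iU hg).mov.nor) hg)
      hZK ((hVself.trans (centralizer_le (SetLike.coe_subset_coe.mpr
        (inf_le_left : K ≤ V)))).trans (centralizer_le_normalizer _))
      (h.coprime_r c.iV.le) (h.coprime_r ((hZΦ.trans hΦU).trans c.iU.le))
      (card_coprime_pGroups c.hq c.hs c.qs (c.pU.to_le (hZΦ.trans hΦU)) c.pV)
      (fun y hy v hv => by
        have hvK : v ∈ K := ⟨hv.1, le_centralizer_iff.mp (hMV g hg (hne1 g hgx)) hv⟩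
        rw [commutatorElement_def]
        exact mul_mem (conj_mem hZK hy hvK) (inv_mem hvK))
    rw [commutator_comm, hVZ] at h2
    refine hMΦ g hg hgx ?_
    exact (faith M (hMU g hg) (le_centralizer_iff.mp (h2.trans inf_le_right))).le.trans bot_le
  have hΦA : Φ ≤ centralizer (A : Set Γ) := by
    obtain ⟨g, hg, -, hgx⟩ := h.exists_off hx
    have hgx' : g * x ∉ zpowers x := fun e => hgx (by simpa using mul_mem e (inv_mem (mem_zpowers x)))
    intro y hy
    have h1 : g ∈ centralizer ({y} : Set Γ) := mem_centralizer_singleton_iff.mpr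
      (mem_centralizer_singleton_iff.mp (hΦh g hg hgx hy)).symm
    have h2 : g * x ∈ centralizer ({y} : Set Γ) := mem_centralizer_singleton_iff.mpr
      (mem_centralizer_singleton_iff.mp (hΦh _ (mul_mem hg hx) hgx' hy)).symm
    have hx' : x ∈ centralizer ({y} : Set Γ) := by
      simpa using mul_mem (inv_mem h1) h2
    exact mem_centralizer_iff.mpr fun a ha => mem_centralizer_singleton_iff.mp
      (h.le_of_two hx hx1 hg hgx hx' h1 ha)
  have hΦnor : ∀ S : Subgroup Γ, S ≤ Φ → A ≤ normalizer (S : Set Γ) := fun S hS =>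
    (le_centralizer_iff.mp (hS.trans hΦA)).trans (centralizer_le_normalizer _)
  -- `U` is abelian
  have habel : U ≤ centralizer (U : Set Γ) := by
    have hUh : ∀ g ∈ A, g ∉ zpowers x →
        U ⊓ centralizer {g} ≤ centralizer ((U ⊓ centralizer {g} : Subgroup Γ) : Set Γ) := by
      intro g hg hgx
      set M := ⁅U ⊓ centralizer {g}, A⁆ with hM
      have hMM : M ≤ centralizer (M : Set Γ) := by
        rw [← commutator_eq_bot_iff_le_centralizer]
        by_contra hne
        have hle : ⁅M, M⁆ ≤ Φ :=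
          (commutator_mono (hMU g hg) (hMU g hg)).trans (commutator_le_fr c.pU)
        refine hVg g hg hgx (le_bot_iff.mp ((le_inf inf_le_left ?_).trans
          (key _ hle (hΦnor _ hle) hne).le))
        have hcomm : ⁅M, M⁆ ≤ centralizer ((V ⊓ centralizer {g} : Subgroup Γ) : Set Γ) :=
          (commutator_mono (hMV g hg (hne1 g hgx)) (hMV g hg (hne1 g hgx))).trans
            (le_normalizer_iff_commutator_le_left.mp le_normalizer)
        exact le_centralizer_iff.mp hcomm
      have hΦc : Φ ≤ centralizer ((M ⊔ Φ : Subgroup Γ) : Set Γ) :=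
        (le_centralizer_iff.mp hUΦ).trans
          (centralizer_le (SetLike.coe_subset_coe.mpr (sup_le (hMU g hg) hΦU)))
      refine (hUg g hg).trans (le_trans ?_ (centralizer_le (SetLike.coe_subset_coe.mpr (hUg g hg))))
      refine sup_le ?_ hΦc
      rw [le_centralizer_iff]
      exact sup_le hMM (le_centralizer_iff.mp ((hMU g hg).trans hUΦ))
    have hcross : ∀ g ∈ A, g ∉ zpowers x → U ≤ centralizer ((U ⊓ centralizer {g} : Subgroup Γ) : Set Γ) := by
      intro g hg hgx
      refine h.le_of_fixed c.iU fun a ha ha1 => ?_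
      by_cases hax : a ∈ zpowers x
      · exact ((inf_le_inf_left _ (h.cent_le hx ha1 hax)).trans hUxΦ).trans
          ((le_centralizer_iff.mp hUΦ).trans (centralizer_le (SetLike.coe_subset_coe.mpr inf_le_left)))
      by_cases hag : a ∈ zpowers g
      · exact (inf_le_inf_left _ (h.cent_le hg ha1 hag)).trans (hUh g hg hgx)
      refine (hUg a ha).trans (sup_le ?_ ((le_centralizer_iff.mp hUΦ).trans
        (centralizer_le (SetLike.coe_subset_coe.mpr inf_le_left))))
      set Ua := U ⊓ centralizer ({a} : Set Γ) with hUa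
      have hA : A ≤ zpowers a ⊔ zpowers g := h.le_of_two ha ha1 hg
        (h.off_symm hg (hne1 g hgx) ha hag) (mem_sup_left (mem_zpowers a)) (mem_sup_right (mem_zpowers g))
      have hnor : A ≤ normalizer ((centralizer ((U ⊓ centralizer {g} : Subgroup Γ) : Set Γ) :
          Subgroup Γ) : Set Γ) := nor_centralizer (h.inv_fixed c.iU hg).nor
      rw [commutator_comm]
      refine (commutator_mono hA le_rfl).trans (commutator_sup_le ((zpowers_le.mpr ha).trans hnor)
        ((zpowers_le.mpr hg).trans hnor) ?_ ?_)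
      · refine le_trans (le_of_eq ?_) bot_le
        rw [commutator_eq_bot_iff_le_centralizer, zpowers_le, mem_centralizer_iff]
        exact fun v hv => mem_centralizer_singleton_iff.mp hv.2
      · rw [commutator_le]
        intro b hb v hv
        rw [mem_centralizer_iff]
        intro u hu
        have hub : b * u * b⁻¹ = u := by
          obtain ⟨j, rfl⟩ := hb
          rw [mul_inv_eq_iff_eq_mul]
          exact ((show Commute u g from mem_centralizer_singleton_iff.mp hu.2).zpow_right j).eq.symm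
        have hbA : b ∈ A := zpowers_le.mpr hg hb
        set v' := b * v * b⁻¹ with hv'
        have hv'U : v' ∈ U := conj_mem c.iU.nor hbA hv.1
        have hcΦ : ⁅u, v⁆ ∈ Φ := commutator_le_fr c.pU (commutator_mem_commutator hu.1 hv.1)
        set z := ⁅u, v⁆ with hz
        have hzb : b * z * b⁻¹ = z := by
          rw [mul_inv_eq_iff_eq_mul]
          exact mem_centralizer_iff.mp (hΦA hcΦ) b hbA
        have hz' : ⁅u, v'⁆ = z := by
          conv_rhs => rw [← hzb, hz]
          rw [hv', commutatorElement_def, commutatorElement_def]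
          have : b * (u * v * u⁻¹ * v⁻¹) * b⁻¹ =
              (b * u * b⁻¹) * (b * v * b⁻¹) * (b * u * b⁻¹)⁻¹ * (b * v * b⁻¹)⁻¹ := by group
          rw [this, hub]
        have hw : v' * v⁻¹ ∈ U := mul_mem hv'U (inv_mem hv.1)
        have hzc : z * (v' * v⁻¹) = v' * v⁻¹ * z :=
          (mem_centralizer_iff.mp (hUΦ hw) z hcΦ)
        have e1 : u * v' * u⁻¹ = z * v' := by rw [← hz', commutatorElement_def]; group
        have e2 : u * v * u⁻¹ = z * v := by rw [hz, commutatorElement_def]; group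
        have e3 : u * (v' * v⁻¹) * u⁻¹ = v' * v⁻¹ := by
          calc u * (v' * v⁻¹) * u⁻¹ = (u * v' * u⁻¹) * (u * v * u⁻¹)⁻¹ := by group
            _ = z * (v' * v⁻¹) * z⁻¹ := by rw [e1, e2]; group
            _ = _ := by rw [hzc, mul_inv_cancel_right]
        have : ⁅b, v⁆ = v' * v⁻¹ := by rw [commutatorElement_def, hv']
        rw [this]
        exact mul_inv_eq_iff_eq_mul.mp e3
    refine h.le_of_fixed c.iU fun a ha _ => ?_
    by_cases hax : a ∈ zpowers x
    · rename_i ha1
      exact ((inf_le_inf_left _ (h.cent_le hx ha1 hax)).trans hUxΦ).trans (le_centralizer_iff.mp hUΦ)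
    · exact le_centralizer_iff.mp (hcross a ha hax)
  -- no fixed points
  haveI hUc : IsMulCommutative U := le_centralizer_iff_isMulCommutative.mp habel
  have hUQbot : U ⊓ centralizer (Q : Set Γ) = ⊥ := by
    rw [← le_bot_iff, ← Coprime.centralizer_inf_commutator_eq_bot c.QU c.coprime_UQ, hUQ]
    exact le_inf le_rfl inf_le_left
  have hΦbot : Φ = ⊥ := le_bot_iff.mp ((le_inf hΦU (le_centralizer_iff.mp hQΦ)).trans hUQbot.le)
  have hUxbot : U ⊓ centralizer {x} = ⊥ := le_bot_iff.mp (hUxΦ.trans hΦbot.le)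
  have hUM : ∀ g ∈ A, U ⊓ centralizer {g} ≤ ⁅U ⊓ centralizer {g}, A⁆ := fun g hg => by
    simpa [hΦbot] using hUg g hg
  have hVU : V ⊓ centralizer (U : Set Γ) = ⊥ := by
    refine (irred _ inf_le_left (Coprime.le_normalizer_inf c.iV.nor (nor_centralizer c.iU.nor))
      (Coprime.le_normalizer_inf c.UV (nor_centralizer le_normalizer))
      (Coprime.le_normalizer_inf c.QV (nor_centralizer c.QU))).resolve_right fun e => hUne ?_
    exact faith U le_rfl (le_centralizer_iff.mp (inf_eq_left.mp e))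
  -- minimal invariant subgroups of `V`
  let Min0 : Subgroup Γ → Prop := fun V0 => V0 ≤ V ∧ V0 ≠ ⊥ ∧ U ≤ normalizer (V0 : Set Γ) ∧
    ∀ V1 : Subgroup Γ, V1 ≤ V0 → U ≤ normalizer (V1 : Set Γ) → V1 = ⊥ ∨ V1 = V0
  have hUnc : ∀ V0, Min0 V0 → ¬ U ≤ centralizer (V0 : Set Γ) := fun V0 h0 hh =>
    h0.2.1 (le_bot_iff.mp ((le_inf h0.1 (le_centralizer_iff.mp hh)).trans hVU.le))
  have exE : ∀ V0, Min0 V0 → ∃ e ∈ A, e ∉ zpowers x ∧
      ⁅U, zpowers e⁆ ≤ centralizer (V0 : Set Γ) := by
    intro V0 h0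
    by_contra hno
    push Not at hno
    refine hUnc V0 h0 (h.le_of_fixed c.iU fun a ha ha1 => ?_)
    by_cases hax : a ∈ zpowers x
    · exact ((inf_le_inf_left _ (h.cent_le hx ha1 hax)).trans hUxbot.le).trans bot_le
    set Z := ⁅U, zpowers a⁆ with hZ
    have hZi := h.inv_comm_zpowers c.iU ha
    have hZU : Z ≤ U := Coprime.commutator_le_of_le_normalizer (zpowers_le.mpr (c.iU.nor ha))
    set W := ⁅V, Z⁆ with hW
    have hWV : W ≤ V := Coprime.commutator_le_of_le_normalizer (hZU.trans c.UV)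
    have hUW : U ≤ normalizer (W : Set Γ) :=
      nor_commutator c.UV ((habel.trans (centralizer_le (SetLike.coe_subset_coe.mpr hZU))).trans
        (centralizer_le_normalizer _))
    have hAW : A ≤ normalizer (W : Set Γ) := nor_commutator c.iV.nor hZi.nor
    have hcopZV : (Nat.card Z).Coprime (Nat.card V) :=
      card_coprime_pGroups c.hq c.hs c.qs (c.pU.to_le hZU) c.pV
    set K := W ⊓ centralizer ((U ⊓ centralizer {a} : Subgroup Γ) : Set Γ) with hK
    have hZK : Z ≤ normalizer (K : Set Γ) := by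
      refine Coprime.le_normalizer_inf (hZU.trans hUW) (nor_centralizer ?_)
      exact ((hZU.trans habel).trans (centralizer_le (SetLike.coe_subset_coe.mpr inf_le_left))).trans
        (centralizer_le_normalizer _)
    have hfix : Z ⊓ centralizer {a} = ⊥ := by
      rw [← le_bot_iff, ← Coprime.centralizer_inf_commutator_eq_bot (A := zpowers a)
        (zpowers_le.mpr (c.iU.nor ha)) (h.coprime_zpowers c.iU.le ha)]
      refine le_inf (le_inf (inf_le_left.trans hZU) ?_) inf_le_left
      intro y hy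
      rw [mem_centralizer_iff]
      rintro _ ⟨j, rfl⟩
      exact ((show Commute y a from mem_centralizer_singleton_iff.mp hy.2).zpow_right j).eq.symm
    have h2 := fixed_quot a Z K W (h.pow a ha) (hZi.nor ha) hfix
      (c.pV.to_le hWV).isNilpotent (hAW ha) (hZU.trans hUW)
      (Coprime.le_normalizer_inf hAW (nor_centralizer (h.inv_fixed c.iU ha).nor) ha)
      hZK ((hWV.trans (hVself.trans (centralizer_le (SetLike.coe_subset_coe.mpr
        ((inf_le_left.trans hWV) : K ≤ V))))).trans (centralizer_le_normalizer _))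
      (h.coprime_r (hWV.trans c.iV.le)) (h.coprime_r (hZU.trans c.iU.le))
      (hcopZV.coprime_dvd_right (card_dvd_of_le hWV))
      (fun y hy v hv => by
        have hvK : v ∈ K := ⟨hv.1, le_centralizer_iff.mp ((hUM a ha).trans (hMV a ha ha1))
          ⟨hWV hv.1, hv.2⟩⟩
        rw [commutatorElement_def]
        exact mul_mem (conj_mem hZK hy hvK) (inv_mem hvK))
    rw [commutator_comm, Coprime.commutator_commutator_eq (hZU.trans c.UV) hcopZV
      (Or.inr (Coprime.isSolvable_of_isMulCommutative V))] at h2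
    have hZV0 : Z ≤ normalizer (V0 : Set Γ) := hZU.trans h0.2.2.1
    rcases h0.2.2.2 (V0 ⊓ centralizer (Z : Set Γ)) inf_le_left
        (Coprime.le_normalizer_inf h0.2.2.1 (nor_centralizer
          ((habel.trans (centralizer_le (SetLike.coe_subset_coe.mpr hZU))).trans
            (centralizer_le_normalizer _)))) with h1 | h1
    · haveI : IsMulCommutative V0 := le_centralizer_iff_isMulCommutative.mp
        (h0.1.trans (hVself.trans (centralizer_le (SetLike.coe_subset_coe.mpr h0.1))))
      have h3 := Coprime.commutator_sup_centralizer (K := V0) hZV0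
        (hcopZV.coprime_dvd_right (card_dvd_of_le h0.1))
        (Or.inr (Coprime.isSolvable_of_isMulCommutative V0))
      rw [h1, sup_bot_eq] at h3
      refine le_centralizer_iff.mp ?_
      exact (h3.ge.trans ((commutator_mono h0.1 le_rfl).trans h2)).trans inf_le_right
    · exact absurd (le_centralizer_iff.mp (inf_eq_left.mp h1)) (hno a ha hax)
  obtain ⟨V0, hV0⟩ : ∃ V0, Min0 V0 := by
    have hVne : V ≠ ⊥ := fun e => hgoal (by
      rw [e]; intro y _; rw [mem_centralizer_iff]; intro z hz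
      rw [SetLike.mem_coe, mem_bot] at hz; subst hz; simp)
    obtain ⟨V0, hle, hmin⟩ := exists_minimal_le_of_wellFoundedLT
      (fun W : Subgroup Γ => W ≠ ⊥ ∧ U ≤ normalizer (W : Set Γ)) V ⟨hVne, c.UV⟩
    exact ⟨V0, hle, hmin.1.1, hmin.1.2, fun V1 h1 h2 => or_iff_not_imp_left.mpr fun h3 =>
      le_antisymm h1 (hmin.2 ⟨h3, h2⟩ h1)⟩
  obtain ⟨e, he, hex, heV⟩ := exE V0 hV0
  set N0 := U ⊓ centralizer (V0 : Set Γ) with hN0
  -- elements acting trivially on `U / N0`
  let T : Subgroup Γ :=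
    { carrier := {g | g ∈ normalizer (U : Set Γ) ∧ ∀ u ∈ U, ⁅g, u⁆ ∈ N0}
      mul_mem' := fun {a b} ha hb => ⟨mul_mem ha.1 hb.1, fun u hu => by
        have hu' : b * u * b⁻¹ ∈ U := (mem_normalizer_iff.mp hb.1 u).mp hu
        have : ⁅a * b, u⁆ = ⁅a, b * u * b⁻¹⁆ * ⁅b, u⁆ := by
          simp only [commutatorElement_def]; group
        rw [this]
        exact mul_mem (ha.2 _ hu') (hb.2 u hu)⟩
      one_mem' := ⟨one_mem _, fun u _ => by simp [commutatorElement_def]⟩
      inv_mem' := fun {a} ha => ⟨inv_mem ha.1, fun u hu => by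
        have hu' : a⁻¹ * u * a ∈ U := (mem_normalizer_iff''.mp ha.1 u).mp hu
        have : ⁅a⁻¹, u⁆ = ⁅a, a⁻¹ * u * a⁆⁻¹ := by simp only [commutatorElement_def]; group
        rw [this]
        exact inv_mem (ha.2 _ hu')⟩ }
  have hT : ∀ g ∈ A, ⁅U, zpowers g⁆ ≤ centralizer (V0 : Set Γ) → g ∈ T := fun g hg hgc =>
    ⟨c.iU.nor hg, fun u hu => by
      rw [← commutatorElement_inv]
      refine inv_mem ⟨?_, hgc (commutator_mem_commutator hu (mem_zpowers g))⟩
      exact Coprime.commutator_le_of_le_normalizer (zpowers_le.mpr (c.iU.nor hg))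
        (commutator_mem_commutator hu (mem_zpowers g))⟩
  have heT : e ∈ T := hT e he heV
  have hxT : x ∉ T := fun hxT => hUnc V0 hV0 (by
    have h3 : ⁅U, zpowers x⁆ = U := by
      have h3 := Coprime.commutator_sup_centralizer (zpowers_le.mpr (c.iU.nor hx))
        (h.coprime_zpowers c.iU.le hx) (Or.inl (Coprime.isSolvable_zpowers x))
      rwa [le_bot_iff.mp (le_trans (inf_le_inf_left _ (centralizer_le
        (Set.singleton_subset_iff.mpr (mem_zpowers x)))) hUxbot.le), sup_bot_eq] at h3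
    refine h3.ge.trans (le_trans ?_ (inf_le_right : N0 ≤ _))
    rw [commutator_comm, commutator_le]
    exact fun g hg u hu => ((zpowers_le.mpr hxT : zpowers x ≤ T) hg).2 u hu)
  have hconj : ∀ w ∈ Q, ∀ g ∈ A,
      ⁅U, zpowers g⁆ ≤ centralizer ((V0.map (MulAut.conj w).toMonoidHom : Subgroup Γ) : Set Γ) →
      w⁻¹ * g * w ∈ T := by
    intro w hw g hg hgc
    refine ⟨mul_mem (mul_mem (inv_mem (c.QU hw)) (c.iU.nor hg)) (c.QU hw), fun u hu => ?_⟩
    have hu' : w * u * w⁻¹ ∈ U := conj_mem c.QU hw hu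
    set y := ⁅g, w * u * w⁻¹⁆ with hy
    have hyU : y ∈ U := by
      rw [hy, commutatorElement_def]
      exact mul_mem (conj_mem c.iU.nor hg hu') (inv_mem hu')
    have hyc : y ∈ centralizer ((V0.map (MulAut.conj w).toMonoidHom : Subgroup Γ) : Set Γ) := by
      rw [hy, ← commutatorElement_inv]
      exact inv_mem (hgc (commutator_mem_commutator hu' (mem_zpowers g)))
    have e1 : ⁅w⁻¹ * g * w, u⁆ = w⁻¹ * y * w := by
      rw [hy, commutatorElement_def, commutatorElement_def]; group
    rw [e1]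
    refine ⟨(mem_normalizer_iff''.mp (c.QU hw) y).mp hyU, mem_centralizer_iff.mpr fun v hv => ?_⟩
    have h4 := mem_centralizer_iff.mp hyc (w * v * w⁻¹) ⟨v, hv, rfl⟩
    calc v * (w⁻¹ * y * w) = w⁻¹ * ((w * v * w⁻¹) * y) * w := by group
      _ = w⁻¹ * (y * (w * v * w⁻¹)) * w := by rw [h4]
      _ = _ := by group
  have hQT : Q ≤ T := by
    have hwe : ∀ w ∈ Q, w⁻¹ * e * w ∈ T := by
      intro w hw
      have hwU : ∀ V1 : Subgroup Γ, U ≤ normalizer (V1 : Set Γ) → ∀ z ∈ normalizer (U : Set Γ),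
          U ≤ normalizer ((V1.map (MulAut.conj z).toMonoidHom : Subgroup Γ) : Set Γ) := by
        intro V1 h1 z hz
        rw [le_normalizer_iff]
        rintro u hu _ ⟨v, hv, rfl⟩
        refine ⟨(z⁻¹ * u * z) * v * (z⁻¹ * u * z)⁻¹, conj_mem h1
          ((mem_normalizer_iff''.mp hz u).mp hu) hv, ?_⟩
        show z * _ * z⁻¹ = u * (z * v * z⁻¹) * u⁻¹
        group
      have hback : ∀ V1 : Subgroup Γ, ∀ z : Γ,
          (V1.map (MulAut.conj z).toMonoidHom).map (MulAut.conj z⁻¹).toMonoidHom = V1 := fun V1 z => by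
        rw [map_map]
        refine Eq.trans ?_ (map_id V1)
        congr 1
        ext y
        show z⁻¹ * (z * y * z⁻¹) * z⁻¹⁻¹ = y
        group
      set V0' := V0.map (MulAut.conj w).toMonoidHom with hV0'
      have hV0'V : V0' ≤ V := by
        rintro _ ⟨v, hv, rfl⟩
        exact conj_mem c.QV hw (hV0.1 hv)
      have hm : Min0 V0' := by
        refine ⟨hV0'V, fun e0 => hV0.2.1 ?_, hwU _ hV0.2.2.1 w (c.QU hw), fun V1 h1 h2 => ?_⟩
        · rw [← hback V0 w, ← hV0', e0, Subgroup.map_bot]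
        · have h4 := Subgroup.map_mono (f := (MulAut.conj w⁻¹).toMonoidHom) h1
          rw [hV0', hback] at h4
          have h5 := hback V1 w⁻¹
          rw [inv_inv] at h5
          rcases hV0.2.2.2 _ h4 (hwU _ h2 _ (inv_mem (c.QU hw))) with h3 | h3
          · left; rw [← h5, h3, Subgroup.map_bot]
          · right; rw [← h5, h3]
      obtain ⟨e', he', hex', heV'⟩ := exE V0' hm
      suffices e ∈ zpowers e' by
        refine hconj w hw e he ((commutator_mono le_rfl ?_).trans heV')
        exact zpowers_le.mpr this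
      obtain ⟨a₁, ha₁, b₁, hb₁, heq⟩ := Coprime.exists_mul_of_mem_sup
        ((zpowers_le.mpr he).trans (h.nor_zpowers hx))
        (h.le_of_two (K := zpowers e ⊔ zpowers x) hx hx1 he hex (mem_sup_right (mem_zpowers x))
          (mem_sup_left (mem_zpowers e)) he')
      by_cases hb1 : b₁ = 1
      · rw [hb1, mul_one] at heq
        subst heq
        haveI := Fact.mk h.hr
        refine (eq_of_le_of_card_ge (zpowers_le.mpr ha₁) ?_).symm ▸ mem_zpowers e
        rw [Nat.card_zpowers, Nat.card_zpowers, orderOf_eq_prime (h.pow e' he') (hne1 e' hex'),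
          orderOf_eq_prime (h.pow e he) (hne1 e hex)]
      exfalso
      have hbA : b₁ ∈ A := zpowers_le.mpr hx hb₁
      have haA : a₁ ∈ A := zpowers_le.mpr he ha₁
      have h6 := hconj w hw e' he' heV'
      have hwb : Commute w b₁ := by
        obtain ⟨j, rfl⟩ := hb₁
        exact (show Commute w x from mem_centralizer_singleton_iff.mp (hQx hw)).zpow_right j
      set t := a₁⁻¹ * (w⁻¹ * a₁ * w) with ht
      have htT : t * b₁ ∈ T := by
        have : t * b₁ = a₁⁻¹ * (w⁻¹ * e' * w) := by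
          rw [ht, heq]
          calc a₁⁻¹ * (w⁻¹ * a₁ * w) * b₁ = a₁⁻¹ * w⁻¹ * a₁ * (w * b₁) := by group
            _ = a₁⁻¹ * w⁻¹ * a₁ * (b₁ * w) := by rw [hwb.eq]
            _ = _ := by group
        rw [this]
        exact mul_mem (inv_mem ((zpowers_le.mpr heT : zpowers e ≤ T) ha₁)) h6
      have htQ : t ∈ Q := by
        have := conj_mem c.iQ.nor (inv_mem haA) (inv_mem hw)
        rw [inv_inv] at this
        have := mul_mem this hw
        simpa [ht, mul_assoc] using this
      have htb : Commute t b₁ := by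
        obtain ⟨j, rfl⟩ := hb₁
        exact (show Commute t x from mem_centralizer_singleton_iff.mp (hQx htQ)).zpow_right j
      obtain ⟨m, hm2⟩ := c.pQ ⟨t, htQ⟩
      have hm2' : t ^ 2 ^ m = 1 := by simpa using congrArg Subtype.val hm2
      have hbT : b₁ ^ 2 ^ m ∈ T := by
        have := T.pow_mem htT (2 ^ m)
        rwa [htb.mul_pow, hm2', one_mul] at this
      haveI := Fact.mk h.hr
      have hb2 : b₁ ^ 2 ^ m ≠ 1 := fun e0 => by
        have h7 := orderOf_dvd_of_pow_eq_one e0
        rw [orderOf_eq_prime (h.pow b₁ hbA) hb1] at h7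
        exact h.rne ((Nat.prime_dvd_prime_iff_eq h.hr Nat.prime_two).mp (h.hr.dvd_of_dvd_pow h7))
      refine hxT ((zpowers_le.mpr hbT : zpowers (b₁ ^ 2 ^ m) ≤ T) ?_)
      refine (eq_of_le_of_card_ge (zpowers_le.mpr (pow_mem hb₁ _)) ?_).symm ▸ mem_zpowers x
      rw [Nat.card_zpowers, Nat.card_zpowers, orderOf_eq_prime (h.pow x hx) hx1,
        orderOf_eq_prime (h.pow _ (pow_mem hbA _)) hb2]
    have hQe : ⁅Q, zpowers e⁆ = Q := by
      have := Coprime.commutator_sup_centralizer (zpowers_le.mpr (c.iQ.nor he))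
        (h.coprime_zpowers c.iQ.le he) (Or.inl (Coprime.isSolvable_zpowers e))
      rwa [le_bot_iff.mp (le_trans (inf_le_inf_left _ (centralizer_le
        (Set.singleton_subset_iff.mpr (mem_zpowers e)))) (hQh e he hex).le), sup_bot_eq] at this
    refine hQe.ge.trans ?_
    rw [commutator_le]
    rintro w hw _ ⟨j, rfl⟩
    have h1 : w⁻¹⁻¹ * e * w⁻¹ ∈ T := hwe _ (inv_mem hw)
    have h2 : ⁅w, e ^ j⁆ = (w⁻¹⁻¹ * e * w⁻¹) ^ j * (e ^ j)⁻¹ := by
      rw [inv_inv, conj_zpow, commutatorElement_def]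
    rw [h2]
    exact mul_mem (T.zpow_mem h1 j) (inv_mem (T.zpow_mem heT j))
  refine hUnc V0 hV0 (hUQ.ge.trans (le_trans ?_ (inf_le_right : N0 ≤ _)))
  rw [commutator_comm, commutator_le]
  exact fun w hw u hu => (hQT hw).2 u hu

end Cfg

theorem below_all : ∀ n : ℕ, Below.{u} n := by
  intro n
  induction n with
  | zero => intro Γ' _ _ r G A U V Q q s hlt _; omega
  | succ n ih =>
    intro Γ' _ _ r G A U V Q q s hlt c
    rcases Nat.lt_succ_iff_lt_or_eq.mp hlt with h | h
    · exact ih Γ' r G A U V Q q s h c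
    · by_contra hg
      exact c.false_of_min (h.symm ▸ ih) hg

/-- **The chain lemma.** -/
theorem chain {r : ℕ} {G A U V Q : Subgroup Γ} {q s : ℕ} (c : Cfg r G A U V Q q s) :
    ⁅U, Q⁆ ≤ centralizer (V : Set Γ) :=
  below_all _ Γ r G A U V Q q s (Nat.lt_succ_self _) c

end Cfsg.Agent.Lib.UniqueSylow82
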