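import Cfsg.Agent.Lib.UniqueSylow82.Chain

/-!
# Consequences of the chain lemma in solvable invariant subgroups (helper82)

* `cor` : `⁅U, Q⁆ ≤ O_q(Y)` for a `2`-group `Q` and a `q`-group `U` of the solvable `Y`;
* `le_odd_sup_normalizer` : `X = O(X) N_X(Q)`, `Q` the invariant Sylow `2`-subgroup;
* `line`, `mov_span`, `rad_gen` : generation of `⁅R, Q⁆ = R`.
-/

set_option autoImplicit false
set_option linter.style.haveILetI false
set_option linter.unusedSectionVars false

open scoped commutatorElement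

namespace Cfsg.Agent.Lib.UniqueSylow82

open Subgroup
open Cfsg.Agent.Lib.Signalizer (qc qc_le le_normalizer_qc normalizer_le_normalizer_qc le_qc qc_isPGroup)
open Cfsg.Agent.Lib.LAEven57.AbelianCent.Tools (normalizer_le_map_char)
open scoped Pointwise

universe u

variable {Γ : Type u} [Group Γ] [Finite Γ]

theorem card_dvd_img_mul {N X : Subgroup Γ} (hX : X ≤ normalizer (N : Set Γ)) :
    Nat.card X ∣ Nat.card (img N X) * Nat.card N := by
  set f : X →* NQ N := (qmk N).comp (inclusion hX) with hf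
  have h1 := card_mul_index f.ker
  rw [index_ker, mul_comm] at h1
  rw [← h1]
  refine mul_dvd_mul (card_dvd_of_le ?_) ?_
  · rintro _ ⟨x, rfl⟩
    exact qmk_mem x.2
  · have h2 : f.ker.map X.subtype ≤ N := by
      rintro _ ⟨x, hx, rfl⟩
      exact qmk_eq_one.mp (hx : f x = 1)
    exact (Nat.card_congr (f.ker.equivMapOfInjective _ X.subtype_injective).toEquiv).dvd.trans
      (card_dvd_of_le h2)

/-- A `q`-subgroup centralising the cores for the other primes is trivial when `O_q = 1`. -/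
theorem eq_bot_of_centralizes_qc {H K : Subgroup Γ} (hs : Group.IsSolvable H) {q : ℕ} (hq : q.Prime)
    (hbot : qc q H = ⊥) (hKH : K ≤ H) (hK : IsPGroup q K)
    (hc : ∀ t : ℕ, t.Prime → t ≠ q → K ≤ centralizer (qc t H : Set Γ)) : K = ⊥ := by
  haveI := hs
  haveI := Fact.mk hq
  have hb : Cfsg.pCore q H = ⊥ :=
    map_injective H.subtype_injective (hbot.trans (Subgroup.map_bot _).symm)
  set K' := K.subgroupOf H with hK'
  have h1 : K' ≤ Cfsg.fittingSubgroup H := by
    refine le_trans ?_ (Cores.centralizer_fittingSubgroup_le (G := H))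
    rw [Cores.fittingSubgroup_eq_iSup_pCore]
    intro k hk
    refine mem_centralizer_iff.mpr fun w hw => ?_
    refine mem_centralizer_singleton_iff.mp ((iSup_le fun t => ?_ :
      (⨆ t : Nat.Primes, Cfsg.pCore (t : ℕ) H) ≤ centralizer {k}) hw)
    intro v hv
    rw [mem_centralizer_singleton_iff]
    by_cases htq : (t : ℕ) = q
    · rw [htq, hb, mem_bot] at hv
      simp [hv]
    · exact Subtype.ext (mem_centralizer_iff.mp (hc t t.2 htq hk) (v : Γ) ⟨v, hv, rfl⟩)
  haveI : Group.IsNilpotent ↥(Cfsg.fittingSubgroup H) := Cores.fittingSubgroup_isNilpotent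
  have h2 : K' ≤ Cfsg.pCore q H :=
    Cores.IsSubnormal.le_pCore (IsSubnormal.trans h1 (SubnormSet.isSubnormal_of_isNilpotent _)
      (Normal.isSubnormal inferInstance)) hK.comap_subtype
  rw [hb, le_bot_iff, hK', subgroupOf_eq_bot, disjoint_iff, inf_eq_left.mpr hKH] at h2
  exact h2

/-- The Frattini argument inside `Γ`. -/
theorem frattini_arg {X L T : Subgroup Γ} {p : ℕ} [Fact p.Prime] (hXL : X ≤ normalizer (L : Set Γ))
    (hLX : L ≤ X) (hTL : T ≤ L) (hT : Nat.card T = p ^ (Nat.card L).factorization p) :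
    X ≤ L ⊔ (X ⊓ normalizer (T : Set Γ)) := by
  intro g hg
  have hg1 : MulAut.conj g • T ≤ L := by
    intro y hy
    rw [Coprime.mem_conj_smul] at hy
    simpa [mul_assoc] using conj_mem hXL hg (hTL hy)
  obtain ⟨P, hP⟩ := Coprime.exists_sylow_of_card hg1 ((Coprime.card_conj_smul g T).trans hT)
  obtain ⟨P', hP'⟩ := Coprime.exists_sylow_of_card hTL hT
  obtain ⟨k, hk, hkP⟩ := Coprime.exists_conj_sylow_map P P'
  rw [hP, hP', ← Coprime.conj_smul_mul] at hkP
  rw [show g = k⁻¹ * (k * g) by group]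
  exact mul_mem (mem_sup_left (inv_mem hk))
    (mem_sup_right ⟨mul_mem (hLX hk) hg, Coprime.mem_normalizer_of_conj_smul_eq hkP⟩)

/-- The odd core inside `Γ`. -/
def odd2 (X : Subgroup Γ) : Subgroup Γ := (Cfsg.pPrimeCore 2 X).map X.subtype

theorem odd2_le (X : Subgroup Γ) : odd2 X ≤ X := map_subtype_le _

theorem normalizer_le_odd2 (X : Subgroup Γ) : normalizer (X : Set Γ) ≤ normalizer (odd2 X : Set Γ) :=
  haveI : (Cfsg.pPrimeCore 2 X).Characteristic :=
    characteristic_iff_map_eq.mpr fun e => Cores.map_pPrimeCore_equiv e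
  normalizer_le_map_char _

theorem odd2_coprime (X : Subgroup Γ) : (Nat.card (odd2 X)).Coprime 2 := by
  rw [odd2, card_subtype]
  exact Cores.pPrimeCore_coprime 2

theorem le_odd2 {X N : Subgroup Γ} (hNX : N ≤ X) (hn : X ≤ normalizer (N : Set Γ))
    (hN : (Nat.card N).Coprime 2) : N ≤ odd2 X := by
  haveI : (N.subgroupOf X).Normal := normal_subgroupOf_of_le_normalizer hn
  rw [← map_subgroupOf_eq_of_le hNX]
  refine Subgroup.map_mono (Cores.le_pPrimeCore ?_)
  rwa [Nat.card_congr (subgroupOfEquivOfLe hNX).toEquiv]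

namespace Hyp

variable {r : ℕ} {G A : Subgroup Γ} (h : Hyp r G A)
include h

/-- `O_q(X / O_q(X)) = 1`. -/
theorem qc_img_qc {X : Subgroup Γ} (hX : Inv G A X) {q : ℕ} (hq : q.Prime) :
    qc q (img (qc q X) X) = ⊥ := by
  set N := qc q X with hN
  have hA : A ≤ normalizer (N : Set Γ) := (hX.qc q).nor
  have hXN : X ≤ normalizer (N : Set Γ) := le_normalizer_qc X
  set K := qc q (img N X) with hK
  set Y := X ⊓ pre N K with hY
  have hYimg : img N Y = K := by
    refine le_antisymm ((img_mono inf_le_right).trans (img_pre _).le) fun z hz => ?_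
    obtain ⟨x, hx, rfl⟩ := qc_le _ hz
    exact qmk_mem ⟨hx, mem_pre.mpr hz⟩
  have hYP : Y ≤ syl A q X := by
    refine (le_sup_of_img_le (inf_le_left.trans hXN) ?_).trans
      (sup_le le_rfl (le_syl (qc_le X) hA (qc_isPGroup X)))
    rw [hYimg, ← h.syl_img hA hq hX]
    exact le_syl (qc_le _) ((h.inv_img hA hX).qc q).nor (qc_isPGroup _)
  have hYN : Y ≤ N := le_qc inf_le_left ((le_inf (le_normalizer (H := X)) (nor_pre hXN
    ((img_nor le_normalizer).trans (normalizer_le_normalizer_qc _)))).trans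
      (Subgroup.inf_normalizer_le_normalizer_inf (H := X))) ((h.syl_isP hX hq).to_le hYP)
  rw [← hYimg, img_eq_bot (hYN.trans le_normalizer)]
  exact hYN

theorem inv_odd2 {X : Subgroup Γ} (hX : Inv G A X) : Inv G A (odd2 X) :=
  ⟨(odd2_le X).trans hX.le, hX.nor.trans (normalizer_le_odd2 X)⟩

/-- A `2`-group normalising the solvable odd `O` normalises its invariant Sylow subgroups. -/
theorem two_nor_syl {O Q : Subgroup Γ} (hO : Inv G A O) (hs : Group.IsSolvable O)
    (hodd : (Nat.card O).Coprime 2) (hQ : Inv G A Q) (hQ2 : IsPGroup 2 Q)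
    (hQO : Q ≤ normalizer (O : Set Γ)) (q : ℕ) [Fact q.Prime] :
    Q ≤ normalizer (syl A q O : Set Γ) := by
  haveI : Fact (Nat.Prime 2) := ⟨Nat.prime_two⟩
  obtain ⟨n, hn⟩ := IsPGroup.iff_card.mp hQ2
  have hcop : (Nat.card ↥(A ⊔ Q)).Coprime (Nat.card O) := by
    rw [Coprime.card_sup_of_disjoint hQ.nor
      (disjoint_of_coprime_natCard (h.coprime_A hQ.le))]
    refine Nat.Coprime.mul_left (h.coprime_A hO.le) ?_
    rw [hn]
    exact hodd.symm.pow_left n
  obtain ⟨T, hT⟩ := Coprime.exists_invariant_sylow (sup_le hO.nor hQO) hcop (Or.inr hs) q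
  rw [← h.syl_max hO (map_subtype_le _) (T.2.map _) (le_of_eq ?_)]
  · exact le_sup_right.trans hT
  refine (eq_of_le_of_card_ge (le_syl (map_subtype_le _) (le_sup_left.trans hT) (T.2.map _)) ?_).symm
  rw [Coprime.card_sylow_map, h.card_syl hO q]

end Hyp

namespace Ctx

variable {r : ℕ} {G A : Subgroup Γ} (h : Ctx r G A)
include h

/-- A `q`-group and a `2`-group normalising it in solvable `Y`: `⁅U, Q⁆ ≤ O_q(Y)`. -/
theorem cor {Y U Q : Subgroup Γ} (hY : Inv G A Y) (hs : Group.IsSolvable Y) (hU : Inv G A U)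
    (hUY : U ≤ Y) (hQ : Inv G A Q) (hQY : Q ≤ Y) {q : ℕ} (hq : q.Prime) (hq2 : q ≠ 2)
    (hUq : IsPGroup q U) (hQ2 : IsPGroup 2 Q) (hQU : Q ≤ normalizer (U : Set Γ)) :
    ⁅U, Q⁆ ≤ qc q Y := by
  set N := qc q Y with hN
  have hA : A ≤ normalizer (N : Set Γ) := (hY.qc q).nor
  have hYN : Y ≤ normalizer (N : Set Γ) := le_normalizer_qc Y
  have hUn := hUY.trans hYN
  have hQn := hQY.trans hYN
  have h' := h.quot hA (hY.qc q).le
  have hKY : ⁅U, Q⁆ ≤ Y := (commutator_mono hUY hQY).trans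
    (le_normalizer_iff_commutator_le_left.mp le_normalizer)
  rw [← img_eq_bot (hKY.trans hYN)]
  refine eq_bot_of_centralizes_qc (isSolvable_img N hs) hq (h.qc_img_qc hY hq) (img_mono hKY) ?_ ?_
  · exact img_isP (hUq.to_le (le_normalizer_iff_commutator_le_left.mp hQU))
  intro t ht htq
  haveI := Fact.mk ht
  rw [img_commutator hUn hQn]
  set U' := img N U
  set Q' := img N Q
  set V := qc t (img N Y) with hV
  have iY := h.inv_img hA hY
  have iV : Inv (img N G) (img N A) V := iY.qc t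
  have hVt : IsPGroup t V := qc_isPGroup _
  have hUV : U' ≤ normalizer (V : Set (NQ N)) := (img_mono hUY).trans (le_normalizer_qc _)
  have hQV : Q' ≤ normalizer (V : Set (NQ N)) := (img_mono hQY).trans (le_normalizer_qc _)
  have hU'Q' : Q' ≤ normalizer (U' : Set (NQ N)) := img_nor hQU
  have hKn : ⁅U', Q'⁆ ≤ normalizer (V : Set (NQ N)) :=
    (le_normalizer_iff_commutator_le_left.mp hU'Q').trans hUV
  set F := fr V with hF
  have hAF : img N A ≤ normalizer (F : Set (NQ N)) := iV.fr.nor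
  have hUF := hUV.trans (normalizer_le_fr V)
  have hQF := hQV.trans (normalizer_le_fr V)
  have hres := chain (r := r) (G := img F (img N G)) (A := img F (img N A)) (U := img F U')
    (V := img F V) (Q := img F Q') (q := q) (s := t)
    { ctx := h'.quot hAF iV.fr.le
      hq := hq
      hs := ht
      q2 := hq2
      qs := htq.symm
      iU := h'.inv_img hAF (h.inv_img hA hU)
      iV := h'.inv_img hAF iV
      iQ := h'.inv_img hAF (h.inv_img hA hQ)
      pU := img_isP (img_isP hUq)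
      pV := img_isP hVt
      pQ := img_isP (img_isP hQ2)
      cV := le_centralizer_iff_isMulCommutative.mp
        (img_centralizes (le_normalizer_fr V) (le_normalizer_fr V) (commutator_le_fr hVt))
      QU := img_nor hU'Q'
      QV := img_nor hQV
      UV := img_nor hUV }
  rw [← img_commutator hUF hQF] at hres
  have h4 : ⁅⁅U', Q'⁆, V⁆ ≤ F := commutator_le_of_img
    ((le_normalizer_iff_commutator_le_left.mp hU'Q').trans hUF) (le_normalizer_fr V) hres
  refine Coprime.le_centralizer_of_frattini hKn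
    (haveI := Fact.mk hq;
      Signalizer.coprime_card_pGroups htq.symm
      ((img_isP hUq).to_le (le_normalizer_iff_commutator_le_left.mp hU'Q'))
      (hVt.to_subgroup _)) fun a ha k hk => ?_
  exact h4 (commutator_mem_commutator ha hk)

/-- `X = O(X) N_X(Q)` for the invariant Sylow `2`-subgroup `Q`. -/
theorem le_odd_sup_normalizer {X : Subgroup Γ} (hX : Inv G A X) (hs : Group.IsSolvable X) :
    X ≤ odd2 X ⊔ (X ⊓ normalizer (syl A 2 X : Set Γ)) := by
  haveI : Fact (Nat.Prime 2) := ⟨Nat.prime_two⟩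
  set N := odd2 X with hN
  have iN := h.inv_odd2 hX
  have hA : A ≤ normalizer (N : Set Γ) := iN.nor
  have hXN : X ≤ normalizer (N : Set Γ) := le_normalizer.trans (normalizer_le_odd2 X)
  have h' := h.quot hA iN.le
  set A' := img N A
  set X' := img N X with hX'
  have iX : Inv (img N G) A' X' := h.inv_img hA hX
  have hsX : Group.IsSolvable X' := isSolvable_img N hs
  -- no odd normal subgroups in the quotient
  have hodd : odd2 X' = ⊥ := by
    set Y := X ⊓ pre N (odd2 X') with hY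
    have hYimg : img N Y = odd2 X' := by
      refine le_antisymm ((img_mono inf_le_right).trans (img_pre _).le) fun z hz => ?_
      obtain ⟨x, hx, rfl⟩ := odd2_le _ hz
      exact qmk_mem ⟨hx, mem_pre.mpr hz⟩
    have hYN : Y ≤ N := le_odd2 inf_le_left ((le_inf (le_normalizer (H := X)) (nor_pre hXN
      ((img_nor le_normalizer).trans (normalizer_le_odd2 _)))).trans
        (Subgroup.inf_normalizer_le_normalizer_inf (H := X))) (by
      refine Nat.Coprime.coprime_dvd_left (card_dvd_img_mul (inf_le_left.trans hXN)) ?_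
      rw [hYimg]
      exact (odd2_coprime X').mul_left (odd2_coprime X))
    rw [← hYimg, img_eq_bot (hYN.trans le_normalizer)]
    exact hYN
  set Q' := syl A' 2 X' with hQ'
  have hQ'2 : IsPGroup 2 Q' := h'.syl_isP iX Nat.prime_two
  have iQ' : Inv (img N G) A' Q' := iX.syl_inv 2
  set F := qc 2 X' with hF
  have hFQ : F ≤ Q' := le_syl (qc_le _) (iX.qc 2).nor (qc_isPGroup _)
  have hQF : Q' ≤ F := by
    intro x hxQ
    have hxX : x ∈ X' := syl_le _ _ _ hxQ
    refine Signalizer.mem_qc_of_centralizes_cores (x := ⟨x, hxX⟩) hsX ?_ fun t ht ht2 v hv => ?_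
    · obtain ⟨k, hk⟩ := hQ'2 ⟨x, hxQ⟩
      exact ⟨k, Subtype.ext (by simpa using congrArg Subtype.val hk)⟩
    haveI := Fact.mk ht
    set π := QuotientGroup.mk' (Cfsg.pCore 2 X') with hπ
    set W := (Cfsg.pCore t (↥X' ⧸ Cfsg.pCore 2 X')).comap π with hW
    haveI : W.Characteristic := by
      refine characteristic_iff_le_comap.2 fun e y hy => ?_
      let e' := QuotientGroup.congr (Cfsg.pCore 2 X') (Cfsg.pCore 2 X') e (Cores.map_pCore_equiv e)
      show π (e y) ∈ Cfsg.pCore t _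
      rw [show π (e y) = e' (π y) from rfl, ← Cores.map_pCore_equiv (p := t) e']
      exact mem_map_of_mem e'.toMonoidHom hy
    set L := W.map X'.subtype with hL
    have iL : Inv (img N G) A' L :=
      ⟨(map_subtype_le _).trans iX.le, iX.nor.trans (normalizer_le_map_char W)⟩
    set T1 := syl A' t L with hT1
    have hLX : L ≤ X' := map_subtype_le _
    have hT1X : T1 ≤ X' := (syl_le _ _ _).trans hLX
    have iT1 : Inv (img N G) A' T1 := iL.syl_inv t
    have hFL : F ≤ L := Subgroup.map_mono fun y hy => by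
      show π y ∈ Cfsg.pCore t _
      rw [show π y = 1 from (QuotientGroup.eq_one_iff y).mpr hy]
      exact one_mem _
    have hL' : L ≤ F ⊔ T1 := h'.le_of_syl iL fun p hp => by
      by_cases hpt : p = t
      · subst hpt; exact le_sup_right
      refine le_trans ?_ le_sup_left
      intro z hz
      obtain ⟨y, hy, rfl⟩ := syl_le _ _ _ hz
      refine ⟨y, ?_, rfl⟩
      haveI := Fact.mk hp
      refine (QuotientGroup.eq_one_iff y).mp (Signalizer.eq_one_of_pGroups hpt
        ((((h'.syl_isP iL hp).comap_subtype (K := X')).map π) : IsPGroup p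
          ↥(((syl A' p L).subgroupOf X').map π))
        (Cores.pCore_isPGroup t) (mem_map_of_mem π hz) hy)
    set n := X' ⊓ normalizer (T1 : Set (NQ N)) with hn
    have hXn : X' ≤ F ⊔ n := by
      refine (frattini_arg (T := T1) (p := t) ((le_normalizer).trans (normalizer_le_map_char W)) hLX
        (syl_le _ _ _) (h'.card_syl iL t)).trans (sup_le ?_ le_sup_right)
      exact hL'.trans (sup_le le_sup_left (le_trans (le_inf hT1X le_normalizer) le_sup_right))
    rw [sup_comm] at hXn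
    obtain ⟨n₀, hn₀, f₀, hf₀, hxe⟩ := Coprime.exists_mul_of_mem_sup
      ((inf_le_left : n ≤ X').trans (le_normalizer_qc X')) (hXn hxX)
    obtain ⟨y, rfl⟩ := QuotientGroup.mk'_surjective _ v
    have hyL : (y : NQ N) ∈ T1 ⊔ F := sup_comm F T1 ▸ hL' (mem_map_of_mem _ hv)
    obtain ⟨t₁, ht₁, f₁, hf₁, hye⟩ := Coprime.exists_mul_of_mem_sup
      (hT1X.trans (le_normalizer_qc X')) hyL
    have hn₀Q : n₀ ∈ Q' := by
      have : n₀ = x * f₀⁻¹ := by rw [hxe]; group
      rw [this]
      exact mul_mem hxQ (inv_mem (hFQ hf₀))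
    set Qn := Q' ⊓ n with hQn
    have hcom : ⁅T1, Qn⁆ = ⊥ := by
      refine le_bot_iff.mp ((h'.cor iX hsX iT1 hT1X (iQ'.inf ?_)
        (inf_le_right.trans inf_le_left) ht ht2 (h'.syl_isP iL ht) (hQ'2.to_le inf_le_left)
        (inf_le_right.trans inf_le_right)).trans ?_)
      · exact Coprime.le_normalizer_inf iX.nor (iT1.nor.trans le_normalizer)
      · rw [← hodd]
        refine le_odd2 (qc_le _) (le_normalizer_qc _) ?_
        obtain ⟨k, hk⟩ := IsPGroup.iff_card.mp (qc_isPGroup (q := t) X')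
        rw [hk]
        exact ((Nat.coprime_primes ht Nat.prime_two).mpr ht2).pow_left k
    have hc : t₁ * n₀ = n₀ * t₁ :=
      commutatorElement_eq_one_iff_mul_comm.mp
        (mem_bot.mp (hcom ▸ commutator_mem_commutator ht₁ ⟨hn₀Q, hn₀⟩))
    have e1 : π ⟨x, hxX⟩ = π ⟨n₀, inf_le_left (a := X') hn₀⟩ := by
      rw [show (⟨x, hxX⟩ : X') = ⟨n₀, inf_le_left (a := X') hn₀⟩ * ⟨f₀, qc_le _ hf₀⟩ from
        Subtype.ext hxe, map_mul]
      rw [show π (⟨f₀, qc_le _ hf₀⟩ : X') = 1 from (QuotientGroup.eq_one_iff _).mpr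
        (by obtain ⟨z, hz, hze⟩ := hf₀; rwa [show (⟨f₀, _⟩ : X') = z from Subtype.ext hze.symm])]
      rw [mul_one]
    have e2 : π y = π ⟨t₁, hT1X ht₁⟩ := by
      rw [show y = ⟨t₁, hT1X ht₁⟩ * ⟨f₁, qc_le _ hf₁⟩ from Subtype.ext hye, map_mul]
      rw [show π (⟨f₁, qc_le _ hf₁⟩ : X') = 1 from (QuotientGroup.eq_one_iff _).mpr
        (by obtain ⟨z, hz, hze⟩ := hf₁; rwa [show (⟨f₁, _⟩ : X') = z from Subtype.ext hze.symm])]
      rw [mul_one]
    show π ⟨x, hxX⟩ * π y = π y * π ⟨x, hxX⟩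
    rw [e1, e2, ← map_mul, ← map_mul]
    exact congrArg π (Subtype.ext hc.symm)
  have hX'n : X' ≤ normalizer (Q' : Set (NQ N)) := by
    rw [le_antisymm hQF hFQ]; exact le_normalizer_qc X'
  set Q := syl A 2 X with hQ
  set L := N ⊔ Q with hL
  have hLX : L ≤ X := sup_le (odd2_le X) (syl_le A 2 X)
  have hXL : X ≤ normalizer (L : Set Γ) := by
    have hLeq : L = X ⊓ pre N Q' := by
      refine le_antisymm (le_inf hLX (sup_le (le_pre _) fun y hy => ?_)) ?_
      · rw [hQ', h.syl_img hA Nat.prime_two hX]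
        exact (mem_pre (x := ⟨y, hXN (syl_le A 2 X hy)⟩)).mpr (qmk_mem hy)
      · rw [hL, sup_comm]
        refine le_sup_of_img_le (inf_le_left.trans hXN) ((img_mono inf_le_right).trans ?_)
        rw [img_pre, hQ', h.syl_img hA Nat.prime_two hX]
    rw [hLeq]
    exact (le_inf (le_normalizer (H := X)) (nor_pre hXN hX'n)).trans
      (Subgroup.inf_normalizer_le_normalizer_inf (H := X))
  refine (frattini_arg (T := Q) (p := 2) hXL hLX le_sup_right ?_).trans (sup_le (sup_le le_sup_left ?_)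
    le_sup_right)
  · have iL : Inv G A L := iN.sup (hX.syl_inv 2)
    rw [← h.card_syl iL 2, hQ,
      le_antisymm (le_syl le_sup_right (hX.syl_inv 2).nor (h.syl_isP hX Nat.prime_two))
        (syl_mono hLX)]
  · exact le_trans (le_inf (syl_le A 2 X) le_normalizer) le_sup_right

/-- On an irreducible abelian `q`-group some `⁅Q, x⁆` acts trivially. -/
theorem line {Q V : Subgroup Γ} (hQ : Inv G A Q) (hQ2 : IsPGroup 2 Q) (hV : Inv G A V) {q : ℕ}
    (hq : q.Prime) (hq2 : q ≠ 2) (hVq : IsPGroup q V) (hVc : IsMulCommutative V)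
    (hQV : Q ≤ normalizer (V : Set Γ))
    (hirr : ∀ V1 : Subgroup Γ, V1 ≤ V → A ≤ normalizer (V1 : Set Γ) → Q ≤ normalizer (V1 : Set Γ) →
      V1 = ⊥ ∨ V1 = V) :
    ∃ x ∈ A, x ≠ 1 ∧ ⁅Q, zpowers x⁆ ≤ centralizer (V : Set Γ) := by
  haveI := Fact.mk h.hr
  haveI := Fact.mk hq
  haveI := hVc
  haveI : Fact (Nat.Prime 2) := ⟨Nat.prime_two⟩
  by_cases htriv : Q ≤ centralizer (V : Set Γ)
  · obtain ⟨g, hg, hg1, -⟩ := h.exists_off A.one_mem
    exact ⟨g, hg, hg1, (Coprime.commutator_le_of_le_normalizer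
      (zpowers_le.mpr (hQ.nor hg))).trans htriv⟩
  set Q1 := Q ⊓ centralizer (V : Set Γ) with hQ1
  obtain ⟨W, ⟨hWQ, hQW, hAW, hWne⟩, hmin⟩ := wellFounded_lt.has_min
    {W : Subgroup Γ | W ≤ Q ∧ Q ≤ normalizer (W : Set Γ) ∧ A ≤ normalizer (W : Set Γ) ∧
      ¬ W ≤ centralizer (V : Set Γ)} ⟨Q, le_rfl, le_normalizer, hQ.nor, htriv⟩
  have hWQc : ⁅W, Q⁆ ≤ centralizer (V : Set Γ) := by
    by_contra hne
    refine hmin ⁅W, Q⁆ ⟨(le_normalizer_iff_commutator_le_left.mp hQW).trans hWQ,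
      Coprime.right_le_normalizer_commutator W Q, nor_commutator hAW hQ.nor, hne⟩
      (lt_of_le_of_ne (le_normalizer_iff_commutator_le_left.mp hQW) fun he => ?_)
    haveI : Group.IsNilpotent Q := hQ2.isNilpotent
    have hbot : W = ⊥ := by
      have key : ∀ k : ℕ, W.subgroupOf Q ≤ Subgroup.lowerCentralSeries ⊤ k := by
        intro k
        induction k with
        | zero => exact le_top
        | succ k ih =>
          intro z hz
          have hz' : (z : Γ) ∈ ⁅W, Q⁆ := he.symm ▸ hz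
          have hle : ⁅W, Q⁆ ≤ (Subgroup.lowerCentralSeries (⊤ : Subgroup Q) (k + 1)).map Q.subtype := by
            rw [commutator_le]
            intro w hw y hy
            exact ⟨⁅(⟨w, hWQ hw⟩ : Q), ⟨y, hy⟩⁆,
              commutator_mem_commutator (ih (mem_subgroupOf.mpr hw)) (mem_top _), rfl⟩
          obtain ⟨z', hz'', hzz⟩ := hle hz'
          rwa [show z' = z from Subtype.ext hzz] at hz''
      obtain ⟨n, hn⟩ := Subgroup.nilpotent_iff_lowerCentralSeries.mp ‹Group.IsNilpotent Q›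
      have := key n
      rwa [hn, le_bot_iff, subgroupOf_eq_bot, disjoint_iff, inf_eq_left.mpr hWQ] at this
    exact hWne (hbot ▸ bot_le)
  obtain ⟨x, hx, hx1, hxW⟩ : ∃ x ∈ A, x ≠ 1 ∧ ¬ W ⊓ centralizer {x} ≤ centralizer (V : Set Γ) := by
    by_contra hno
    push Not at hno
    exact hWne (h.le_of_fixed ⟨hWQ.trans hQ.le, hAW⟩ hno)
  refine ⟨x, hx, hx1, ?_⟩
  set N₀ := W ⊓ centralizer ({x} : Set Γ) with hN₀
  have hN₀Q : N₀ ≤ Q := inf_le_left.trans hWQ
  have iN₀ : Inv G A N₀ := h.inv_fixed ⟨hWQ.trans hQ.le, hAW⟩ hx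
  have hcop : ∀ {S : Subgroup Γ}, S ≤ Q → (Nat.card S).Coprime (Nat.card V) := fun hS =>
    card_coprime_pGroups Nat.prime_two hq hq2.symm (hQ2.to_le hS) hVq
  have hQN : Q ≤ normalizer ((N₀ ⊔ Q1 : Subgroup Γ) : Set Γ) := by
    refine le_normalizer_iff_commutator_le_left.mpr ?_
    have hQ1Q : Q ≤ normalizer (Q1 : Set Γ) :=
      Coprime.le_normalizer_inf le_normalizer (nor_centralizer hQV)
    refine commutator_sup_le (le_normalizer.trans' le_sup_left) (le_normalizer.trans' le_sup_right)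
      (le_trans (le_inf ?_ ((commutator_mono inf_le_left le_rfl).trans hWQc)) le_sup_right)
      ((le_normalizer_iff_commutator_le_left.mp hQ1Q).trans le_sup_right)
    exact (commutator_mono hN₀Q le_rfl).trans (le_normalizer_iff_commutator_le_left.mp le_normalizer)
  have hVN : V ⊓ centralizer (N₀ : Set Γ) = ⊥ := by
    refine (hirr _ inf_le_left (Coprime.le_normalizer_inf hV.nor (nor_centralizer iN₀.nor)) ?_).resolve_right
      fun e => hxW (le_centralizer_iff.mp (inf_eq_left.mp e))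
    have : V ⊓ centralizer (N₀ : Set Γ) = V ⊓ centralizer ((N₀ ⊔ Q1 : Subgroup Γ) : Set Γ) := by
      refine le_antisymm (le_inf inf_le_left ?_) (inf_le_inf_left _
        (centralizer_le (SetLike.coe_subset_coe.mpr le_sup_left)))
      rw [le_centralizer_iff]
      exact sup_le (le_centralizer_iff.mp inf_le_right)
        ((inf_le_right : Q1 ≤ _).trans (centralizer_le (SetLike.coe_subset_coe.mpr inf_le_left)))
    rw [this]
    exact Coprime.le_normalizer_inf hQV (nor_centralizer hQN)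
  have hVN' : ⁅V, N₀⁆ = V := by
    have := Coprime.commutator_sup_centralizer (K := V) (A := N₀) (hN₀Q.trans hQV) (hcop hN₀Q)
      (Or.inr (Coprime.isSolvable_of_isMulCommutative V))
    rwa [hVN, sup_bot_eq] at this
  have hQg : ∀ g ∈ A, g ≠ 1 → g ∉ zpowers x → Q ⊓ centralizer {g} ≤ centralizer (V : Set Γ) := by
    intro g hg hg1 hgx
    set K := V ⊓ centralizer ((Q ⊓ centralizer {g} : Subgroup Γ) : Set Γ) with hK
    have hNK : N₀ ≤ normalizer (K : Set Γ) := by
      refine le_normalizer_iff.mpr fun w hw v hv => ⟨conj_mem (hN₀Q.trans hQV) hw hv.1, ?_⟩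
      refine mem_centralizer_iff.mpr fun y hy => ?_
      -- `y` commutes with `v`, and `⁅w⁻¹, y⁆` centralises `V`
      have hv' : w * v * w⁻¹ ∈ V := conj_mem (hN₀Q.trans hQV) hw hv.1
      have hc1 : ⁅w⁻¹, y⁆ ∈ centralizer (V : Set Γ) :=
        hWQc (commutator_mem_commutator (inv_mem hw.1) hy.1)
      have hyv : y * v = v * y := mem_centralizer_iff.mp hv.2 y hy
      have hc2 : v * ⁅w⁻¹, y⁆ = ⁅w⁻¹, y⁆ * v := mem_centralizer_iff.mp hc1 v hv.1
      have e : w⁻¹ * y * w = ⁅w⁻¹, y⁆ * y := by rw [commutatorElement_def]; group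
      calc y * (w * v * w⁻¹) = w * ((w⁻¹ * y * w) * v) * w⁻¹ := by group
        _ = w * (⁅w⁻¹, y⁆ * (y * v)) * w⁻¹ := by rw [e]; group
        _ = w * ((v * ⁅w⁻¹, y⁆) * y) * w⁻¹ := by rw [hyv, hc2]; group
        _ = w * (v * (w⁻¹ * y * w)) * w⁻¹ := by rw [e]; group
        _ = w * v * w⁻¹ * y := by group
    have h2 := fixed_quot g N₀ K V (h.pow g hg) (iN₀.nor hg)
      (le_bot_iff.mp ((le_inf (inf_le_left.trans hN₀Q) ((inf_le_inf_right _ inf_le_right).trans
        (h.fixed_of_two hx hx1 hg hgx))).trans (h.two_inf_fixed hQ.le hQ2).le))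
      hVq.isNilpotent (hV.nor hg) (hN₀Q.trans hQV)
      (Coprime.le_normalizer_inf hV.nor (nor_centralizer (h.inv_fixed hQ hg).nor) hg)
      hNK (((le_centralizer_iff_isMulCommutative.mpr hVc).trans
        (centralizer_le (SetLike.coe_subset_coe.mpr (inf_le_left : K ≤ V)))).trans
          (centralizer_le_normalizer _))
      (h.coprime_r hV.le) (h.coprime_r (hN₀Q.trans hQ.le)) (hcop hN₀Q)
      (fun w hw v hv => by
        have hvK : v ∈ K := ⟨hv.1,
          le_centralizer_iff.mp (h.two_cent hg hg1 hq hq2 hQ hQ2 hV hVq hQV) hv⟩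
        rw [commutatorElement_def]
        exact mul_mem (conj_mem hNK hw hvK) (inv_mem hvK))
    rw [commutator_comm, hVN'] at h2
    exact le_centralizer_iff.mp (h2.trans inf_le_right)
  have hQle : Q ≤ (Q ⊓ centralizer {x}) ⊔ Q1 := by
    refine h.le_of_fixed hQ fun a ha ha1 => ?_
    by_cases hax : a ∈ zpowers x
    · exact (inf_le_inf_left _ (h.cent_le hx ha1 hax)).trans le_sup_left
    · exact le_trans (le_inf inf_le_left (hQg a ha ha1 hax)) le_sup_right
  have hxC : zpowers x ≤ normalizer ((centralizer (V : Set Γ) : Subgroup Γ) : Set Γ) :=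
    zpowers_le.mpr (nor_centralizer hV.nor hx)
  have hQC : Q ≤ normalizer ((centralizer (V : Set Γ) : Subgroup Γ) : Set Γ) := nor_centralizer hQV
  refine (commutator_mono hQle le_rfl).trans (commutator_sup_le (inf_le_left.trans hQC)
    (inf_le_left.trans hQC) ?_ ((commutator_mono (inf_le_right : Q1 ≤ _) le_rfl).trans
      (le_normalizer_iff_commutator_le_left.mp hxC)))
  refine le_trans (le_of_eq (commutator_eq_bot_iff_le_centralizer.mpr fun y hy => ?_)) bot_le
  rw [mem_centralizer_iff]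
  rintro _ ⟨j, rfl⟩
  exact ((show Commute y x from mem_centralizer_singleton_iff.mp hy.2).zpow_right j).eq.symm

/-- `R` is spanned by the moved part of a centraliser. -/
theorem mov_span {R Q : Subgroup Γ} (hR : Inv G A R) (hQ : Inv G A Q) (hQ2 : IsPGroup 2 Q)
    (hQR : Q ≤ normalizer (R : Set Γ)) {q : ℕ} (hq : q.Prime) (hq2 : q ≠ 2) (hRq : IsPGroup q R)
    (hRQ : ⁅R, Q⁆ = R) {x g : Γ} (hx : x ∈ A) (hx1 : x ≠ 1) (hg : g ∈ A) (hgx : g ∉ zpowers x)
    (hK : ⁅Q, zpowers x⁆ ≤ centralizer (R : Set Γ)) :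
    R = qspan Q ⁅R ⊓ centralizer {g}, A⁆ := by
  haveI := Fact.mk hq
  haveI := Fact.mk h.hr
  set M := ⁅R ⊓ centralizer ({g} : Set Γ), A⁆ with hM
  have hMR : M ≤ R := (Coprime.commutator_le_of_le_normalizer (h.inv_fixed hR hg).nor).trans inf_le_left
  set R3 := qspan Q M with hR3
  have hR3R : R3 ≤ R := qspan_le hMR hQR
  symm
  refine eq_of_sup_fr hR3R ?_
  set K := R3 ⊔ fr R with hKdef
  have hKR : K ≤ R := sup_le hR3R (fr_le R)
  have hRK : R ≤ normalizer (K : Set Γ) := normalizer_of_fr_le hRq hKR le_sup_right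
  have hQK : Q ≤ normalizer (K : Set Γ) :=
    Coprime.le_normalizer_sup (self_nor_qspan Q M) (hQR.trans (normalizer_le_fr R))
  have hAK : A ≤ normalizer (K : Set Γ) :=
    Coprime.le_normalizer_sup (nor_qspan hQ.nor (h.inv_fixed hR hg).mov.nor) hR.fr.nor
  have hQx : Inv G A (Q ⊓ centralizer {x}) := h.inv_fixed hQ hx
  have hN : ⁅Q ⊓ centralizer {x}, R⁆ ≤ K := by
    refine fixed_quot g _ K R (h.pow g hg) (hQx.nor hg) ?_ hRq.isNilpotent (hR.nor hg)
      (inf_le_left.trans hQR) (hAK hg) (inf_le_left.trans hQK) hRK (h.coprime_r hR.le)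
      (h.coprime_r hQx.le) (card_coprime_pGroups Nat.prime_two hq hq2.symm (hQ2.to_le inf_le_left) hRq)
      ?_
    · exact le_bot_iff.mp ((le_inf (inf_le_left.trans inf_le_left) ((inf_le_inf_right _
        inf_le_right).trans (h.fixed_of_two hx hx1 hg hgx))).trans (h.two_inf_fixed hQ.le hQ2).le)
    intro w hw v hv
    obtain ⟨m, hm, c, hc, rfl⟩ := Coprime.exists_commutator_mul_fixed (h.inv_fixed hR hg).nor
      (h.coprime_A (h.inv_fixed hR hg).le) (Or.inl h.solvA) hv
    have hwc : w * c = c * w := mem_centralizer_iff.mp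
      (h.comm_fixed hq Nat.prime_two hq2 hR hQ hRq hQ2 hQR ⟨hc.1.1, hc.2⟩) w hw.1
    have hmK : m ∈ K := mem_sup_left (le_qspan Q M hm)
    have e : ⁅w, m * c⁆ = w * m * w⁻¹ * m⁻¹ := by
      rw [commutatorElement_def]
      calc w * (m * c) * w⁻¹ * (m * c)⁻¹ = w * m * w⁻¹ * ((w * c) * w⁻¹ * c⁻¹) * m⁻¹ := by group
        _ = _ := by rw [hwc]; group
    rw [e]
    exact mul_mem (conj_mem hQK hw.1 hmK) (inv_mem hmK)
  have hKx : ⁅⁅Q, zpowers x⁆, R⁆ ≤ K :=
    (commutator_eq_bot_iff_le_centralizer.mpr hK).le.trans bot_le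
  have hQeq : ⁅Q, zpowers x⁆ ⊔ (Q ⊓ centralizer ((zpowers x : Subgroup Γ) : Set Γ)) = Q :=
    Coprime.commutator_sup_centralizer (zpowers_le.mpr (hQ.nor hx))
      (h.coprime_zpowers hQ.le hx) (Or.inl (Coprime.isSolvable_zpowers x))
  refine hRQ.ge.trans ?_
  rw [commutator_comm, ← hQeq]
  refine commutator_sup_le ((Coprime.commutator_le_of_le_normalizer
    (zpowers_le.mpr (hQ.nor hx))).trans hQK) (inf_le_left.trans hQK) hKx ?_
  exact (commutator_mono (inf_le_inf_left _
    (centralizer_le (Set.singleton_subset_iff.mpr (mem_zpowers x)))) le_rfl).trans hN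

/-- `R = ⁅R, Q⁆` is generated by the parts `⁅C_R(⁅Q, x⁆), Q⁆`. -/
theorem rad_gen {R Q K : Subgroup Γ} (hR : Inv G A R) (hQ : Inv G A Q) (hQ2 : IsPGroup 2 Q)
    (hQR : Q ≤ normalizer (R : Set Γ)) {q : ℕ} (hq : q.Prime) (hq2 : q ≠ 2) (hRq : IsPGroup q R)
    (hRQ : ⁅R, Q⁆ = R)
    (hK : ∀ x ∈ A, x ≠ 1 →
      ⁅R ⊓ centralizer ((⁅Q, zpowers x⁆ : Subgroup Γ) : Set Γ), Q⁆ ≤ K) : R ≤ K := by
  haveI := Fact.mk hq
  let part : {x : Γ // x ∈ A ∧ x ≠ 1} → Subgroup Γ := fun x =>
    ⁅R ⊓ centralizer ((⁅Q, zpowers (x : Γ)⁆ : Subgroup Γ) : Set Γ), Q⁆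
  have hKx : ∀ x : {x : Γ // x ∈ A ∧ x ≠ 1},
      Q ≤ normalizer ((⁅Q, zpowers (x : Γ)⁆ : Subgroup Γ) : Set Γ) ∧
      A ≤ normalizer ((⁅Q, zpowers (x : Γ)⁆ : Subgroup Γ) : Set Γ) := fun x =>
    ⟨Coprime.left_le_normalizer_commutator _ _, (h.inv_comm_zpowers hQ x.2.1).nor⟩
  set R0 := ⨆ x, part x with hR0
  have hR0R : R0 ≤ R := iSup_le fun x => (commutator_mono inf_le_left le_rfl).trans hRQ.le
  suffices R ≤ R0 from this.trans (iSup_le fun x => hK _ x.2.1 x.2.2)
  by_contra hne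
  set B := R0 ⊔ fr R with hB
  have hBR : B ≤ R := sup_le hR0R (fr_le R)
  have hBne : B ≠ R := fun e => hne (eq_of_sup_fr hR0R e.ge).ge
  have hR0Q : Q ≤ normalizer (R0 : Set Γ) :=
    nor_iSup fun x => Coprime.right_le_normalizer_commutator _ Q
  have hR0A : A ≤ normalizer (R0 : Set Γ) :=
    nor_iSup fun x => nor_commutator
      (Coprime.le_normalizer_inf hR.nor (nor_centralizer (hKx x).2)) hQ.nor
  obtain ⟨M, ⟨hMR, hMne, hBM, hMA, hMQ⟩, hmax⟩ := (Set.toFinite
    {M : Subgroup Γ | M ≤ R ∧ M ≠ R ∧ B ≤ M ∧ A ≤ normalizer (M : Set Γ) ∧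
      Q ≤ normalizer (M : Set Γ)}).exists_maximal
    ⟨B, hBR, hBne, le_rfl, Coprime.le_normalizer_sup hR0A hR.fr.nor,
      Coprime.le_normalizer_sup hR0Q (hQR.trans (normalizer_le_fr R))⟩
  have hRM : R ≤ normalizer (M : Set Γ) := normalizer_of_fr_le hRq hMR (le_sup_right.trans hBM)
  have h' := h.quot hMA (hMR.trans hR.le)
  obtain ⟨x', hx', hx'1, hxc⟩ := h'.line (h.inv_img hMA hQ) (img_isP hQ2) (h.inv_img hMA hR) hq hq2
    (img_isP hRq)
    (le_centralizer_iff_isMulCommutative.mp (img_centralizes hRM hRM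
      ((commutator_le_fr hRq).trans (le_sup_right.trans hBM))))
    (img_nor hQR) (fun V1 hV1 hA1 hQ1 => by
      set M1 := R ⊓ pre M V1 with hM1
      have himg : img M M1 = V1 := by
        refine le_antisymm ((img_mono inf_le_right).trans (img_pre _).le) fun z hz => ?_
        obtain ⟨y, hy, rfl⟩ := hV1 hz
        exact qmk_mem ⟨hy, mem_pre.mpr hz⟩
      by_cases hM1R : M1 = R
      · exact Or.inr (himg ▸ hM1R ▸ rfl)
      left
      have hle : M1 ≤ M := hmax ⟨inf_le_left, hM1R, hBM.trans (le_inf hMR (le_pre _)),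
        Coprime.le_normalizer_inf hR.nor (nor_pre hMA hA1),
        Coprime.le_normalizer_inf hQR (nor_pre hMQ hQ1)⟩ (le_inf hMR (le_pre _))
      rw [← himg, img_eq_bot (hle.trans le_normalizer)]
      exact hle)
  obtain ⟨⟨x, hxM⟩, hxA, rfl⟩ := hx'
  have hx1 : x ≠ 1 := fun e => hx'1 (by
    rw [show (⟨x, hxM⟩ : ↥(normalizer (M : Set Γ))) = 1 from Subtype.ext e, map_one])
  set Kx := ⁅Q, zpowers x⁆ with hKxdef
  have hKxQ : Kx ≤ Q := Coprime.commutator_le_of_le_normalizer (zpowers_le.mpr (hQ.nor hxA))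
  rw [← img_zpowers hxM, ← img_commutator hMQ (zpowers_le.mpr hxM)] at hxc
  have hc : ⁅R, Kx⁆ ≤ M := by
    rw [commutator_comm]
    exact commutator_le_of_img (hKxQ.trans hMQ) hRM hxc
  have hsolR : Group.IsSolvable R := Coprime.isSolvable_of_isPGroup hRq
  have hReq := Coprime.commutator_sup_centralizer (K := R) (A := Kx) (hKxQ.trans hQR)
    (card_coprime_pGroups Nat.prime_two hq hq2.symm (hQ2.to_le hKxQ) hRq) (Or.inr hsolR)
  refine hMne (le_antisymm hMR (hRQ.ge.trans ?_))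
  conv_lhs => rw [← hReq]
  refine commutator_sup_le
    ((Coprime.commutator_le_of_le_normalizer (hKxQ.trans hQR)).trans hRM) (inf_le_left.trans hRM)
    ((commutator_mono hc le_rfl).trans (le_normalizer_iff_commutator_le_left.mp hMQ)) ?_
  exact (le_iSup part ⟨x, hxA, hx1⟩).trans (le_sup_left.trans hBM)

end Ctx

end Cfsg.Agent.Lib.UniqueSylow82
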