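import Cfsg.Agent.Lib.UniqueSylow82.Radical

/-!
# Inverted elements of odd order in solvable invariant subgroups (helper82)
-/

set_option autoImplicit false
set_option linter.style.haveILetI false
set_option linter.unusedSectionVars false

open scoped commutatorElement

namespace Cfsg.Agent.Lib.UniqueSylow82

open Subgroup
open Cfsg.Agent.Lib.Signalizer (qc qc_le le_normalizer_qc normalizer_le_normalizer_qc le_qc qc_isPGroup)
open scoped Pointwise

universe u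

variable {Γ : Type u} [Group Γ] [Finite Γ]

theorem pow_inverts {g x : Γ} (h : g * x * g⁻¹ = x⁻¹) :
    ∀ n : ℕ, g ^ (2 * n) * x * (g ^ (2 * n))⁻¹ = x ∧
      g ^ (2 * n + 1) * x * (g ^ (2 * n + 1))⁻¹ = x⁻¹ := by
  have h' : g * x⁻¹ * g⁻¹ = x := by
    have := congrArg Inv.inv h
    simpa [mul_assoc] using this
  intro n
  induction n with
  | zero => simpa using h
  | succ n ih =>
    have e1 : g ^ (2 * (n + 1)) * x * (g ^ (2 * (n + 1)))⁻¹ = x := by
      rw [show 2 * (n + 1) = (2 * n + 1) + 1 by ring, pow_succ' g (2 * n + 1),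
        show g * g ^ (2 * n + 1) * x * (g * g ^ (2 * n + 1))⁻¹ =
          g * (g ^ (2 * n + 1) * x * (g ^ (2 * n + 1))⁻¹) * g⁻¹ by group, ih.2, h']
    refine ⟨e1, ?_⟩
    rw [pow_succ', show g * g ^ (2 * (n + 1)) * x * (g * g ^ (2 * (n + 1)))⁻¹ =
      g * (g ^ (2 * (n + 1)) * x * (g ^ (2 * (n + 1)))⁻¹) * g⁻¹ by group, e1, h]

/-- An element of odd order inverting `x` forces `x = x⁻¹`. -/
theorem eq_inv_of_odd {g x : Γ} (h : g * x * g⁻¹ = x⁻¹) {m : ℕ} (hm : Odd m) (hg : g ^ m = 1) :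
    x = x⁻¹ := by
  obtain ⟨n, rfl⟩ := hm
  have := (pow_inverts h n).2
  rw [hg] at this
  simpa using this

theorem exists_two_inverting {g x : Γ} (h : g * x * g⁻¹ = x⁻¹) :
    ∃ g' ∈ zpowers g, (∃ k : ℕ, g' ^ 2 ^ k = 1) ∧ g' * x * g'⁻¹ = x⁻¹ := by
  obtain ⟨k, m, hm, hkm⟩ := Nat.exists_eq_two_pow_mul_odd (orderOf_pos g).ne'
  obtain ⟨n, rfl⟩ := hm
  refine ⟨g ^ (2 * n + 1), pow_mem (mem_zpowers g) _, ⟨k, ?_⟩, (pow_inverts h n).2⟩
  rw [← pow_mul, mul_comm, ← hkm, pow_orderOf_eq_one]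

theorem eq_one_of_eq_inv {q : ℕ} (hq : q.Prime) (hq2 : q ≠ 2) {T : Subgroup Γ} (hT : IsPGroup q T)
    {x : Γ} (hx : x ∈ T) (h : x = x⁻¹) : x = 1 := by
  haveI := Fact.mk hq
  haveI : Fact (Nat.Prime 2) := ⟨Nat.prime_two⟩
  by_contra h1
  refine h1 (Signalizer.eq_one_of_pGroups hq2 hT
    (IsPGroup.of_card (p := 2) (n := 1) (?_ : Nat.card (zpowers x) = 2 ^ 1)) hx (mem_zpowers x))
  rw [Nat.card_zpowers, pow_one]
  exact orderOf_eq_prime (by rw [pow_two]; nth_rw 1 [h]; exact inv_mul_cancel x) h1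

namespace Hyp

variable {r : ℕ} {G A : Subgroup Γ} (h : Hyp r G A)
include h

/-- A `2`-element of `X` lies in a normal subgroup containing the invariant Sylow `2`-subgroup. -/
theorem two_mem {X L : Subgroup Γ} (hX : Inv G A X) (hL : syl A 2 X ≤ L)
    (hn : X ≤ normalizer (L : Set Γ)) {g : Γ} (hg : g ∈ X) (hk : ∃ k : ℕ, g ^ 2 ^ k = 1) : g ∈ L := by
  haveI : Fact (Nat.Prime 2) := ⟨Nat.prime_two⟩
  obtain ⟨P, hP⟩ := h.exists_sylow hX 2
  have h2 : IsPGroup 2 (zpowers (⟨g, hg⟩ : X)) := by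
    obtain ⟨k, hk⟩ := hk
    obtain ⟨j, -, hj⟩ := (Nat.dvd_prime_pow Nat.prime_two).1
      (orderOf_dvd_of_pow_eq_one (x := (⟨g, hg⟩ : X)) (Subtype.ext (by simpa using hk) :
        (⟨g, hg⟩ : X) ^ 2 ^ k = 1))
    exact IsPGroup.of_card (by rw [Nat.card_zpowers, hj])
  obtain ⟨P', hP'⟩ := h2.exists_le_sylow
  obtain ⟨k, hk, hconj⟩ := Coprime.exists_conj_sylow_map P' P
  have h3 : k * g * k⁻¹ ∈ syl A 2 X := by
    rw [← hP, ← hconj, Coprime.mem_conj_smul]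
    exact ⟨⟨g, hg⟩, hP' (mem_zpowers _), by group; rfl⟩
  have := conj_mem hn (inv_mem hk) (hL h3)
  simpa [mul_assoc] using this

end Hyp

/-- Rank one: with a normal Sylow `2`-subgroup nothing of odd prime power order is inverted. -/
theorem Hyp.false_of_inverted_qc {r : ℕ} {G A : Subgroup Γ} (h : Hyp r G A) {X : Subgroup Γ}
    (hX : Inv G A X) (hQ : syl A 2 X ≤ qc 2 X) {q : ℕ} (hq : q.Prime) (hq2 : q ≠ 2)
    {T : Subgroup Γ} (hT : IsPGroup q T) (hTX : T ≤ X) {x g : Γ} (hx : x ∈ T) (hx1 : x ≠ 1)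
    (hg : g ∈ X) (hinv : g * x * g⁻¹ = x⁻¹) : False := by
  haveI := Fact.mk hq
  haveI : Fact (Nat.Prime 2) := ⟨Nat.prime_two⟩
  obtain ⟨g', hg', hk, hinv'⟩ := exists_two_inverting hinv
  have hg'Q : g' ∈ qc 2 X := h.two_mem hX hQ (le_normalizer_qc X) (zpowers_le.mpr hg hg') hk
  have h1 : g' * x * g'⁻¹ * x⁻¹ ∈ qc 2 X := by
    have := mul_mem hg'Q (conj_mem (le_normalizer_qc X) (hTX hx) (inv_mem hg'Q))
    simpa [mul_assoc] using this
  have h2 : g' * x * g'⁻¹ * x⁻¹ ∈ T := by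
    rw [hinv']; exact mul_mem (inv_mem hx) (inv_mem hx)
  have h3 := Signalizer.eq_one_of_pGroups hq2 hT (qc_isPGroup X) h2 h1
  rw [hinv', mul_inv_eq_one] at h3
  exact hx1 (eq_one_of_eq_inv hq hq2 hT hx h3.symm)

/-- An inverted element gives a non-trivial `⁅S, Q⁆`, `S` the invariant Sylow `q`-subgroup of `O(X)`. -/
theorem Ctx.odd_comm_ne_bot {r : ℕ} {G A : Subgroup Γ} (h : Ctx r G A) {X : Subgroup Γ}
    (hX : Inv G A X) (hs : Group.IsSolvable X) {q : ℕ} (hq : q.Prime) (hq2 : q ≠ 2)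
    {T : Subgroup Γ} (hTi : Inv G A T) (hT : IsPGroup q T) (hTX : T ≤ X) {x g : Γ} (hx : x ∈ T)
    (hx1 : x ≠ 1) (hg : g ∈ X) (hinv : g * x * g⁻¹ = x⁻¹) :
    ⁅syl A q (odd2 X), syl A 2 X⁆ ≠ ⊥ := by
  haveI := Fact.mk hq
  haveI : Fact (Nat.Prime 2) := ⟨Nat.prime_two⟩
  set N := odd2 X with hN
  set Q := syl A 2 X with hQ
  have hXN : X ≤ normalizer (N : Set Γ) := le_normalizer.trans (normalizer_le_odd2 X)
  have hQX : Q ≤ X := syl_le A 2 X
  set L := N ⊔ Q with hL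
  have hXL : X ≤ normalizer (L : Set Γ) := by
    refine (h.le_odd_sup_normalizer hX hs).trans (sup_le (le_sup_left.trans le_normalizer) ?_)
    exact Coprime.le_normalizer_sup (inf_le_left.trans hXN) inf_le_right
  obtain ⟨g', hg', hk, hinv'⟩ := exists_two_inverting hinv
  have hg'X : g' ∈ X := zpowers_le.mpr hg hg'
  have hg'L : g' ∈ L := h.two_mem hX le_sup_right hXL hg'X hk
  obtain ⟨w, hw, n, hn, hwn⟩ := Coprime.exists_mul_of_mem_sup (hQX.trans hXN)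
    (sup_comm N Q ▸ hg'L : g' ∈ Q ⊔ N)
  -- `x ∈ O(X)`
  have hx2 : x * x ∈ L := by
    have h1 : g' * x * g'⁻¹ * x⁻¹ ∈ L := by
      have := mul_mem hg'L (conj_mem hXL (hTX hx) (inv_mem hg'L))
      simpa [mul_assoc] using this
    rw [hinv'] at h1
    simpa using inv_mem h1
  have hxL : x ∈ L := by
    obtain ⟨k, hk'⟩ := hT ⟨x, hx⟩
    have hk'' : x ^ q ^ k = 1 := by simpa using congrArg Subtype.val hk'
    obtain ⟨j, hj⟩ := ((hq.odd_of_ne_two hq2).pow : Odd (q ^ k)).add_one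
    have : x = (x * x) ^ j := by
      rw [← pow_two, ← pow_mul, two_mul, ← hj, pow_succ, hk'', one_mul]
    rw [this]
    exact pow_mem hx2 j
  have hxN : x ∈ N := by
    have hxz : zpowers x ≤ T := zpowers_le.mpr hx
    have hb : img N (zpowers x) = ⊥ := by
      refine eq_bot_of_pGroups hq Nat.prime_two hq2 (img_isP (hT.to_le hxz))
        (img_isP (h.syl_isP hX Nat.prime_two)) le_rfl ?_
      rw [img_zpowers (hXN (hTX hx)), zpowers_le]
      obtain ⟨w', hw', n', hn', hwn'⟩ := Coprime.exists_mul_of_mem_sup (hQX.trans hXN)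
        (sup_comm N Q ▸ hxL : x ∈ Q ⊔ N)
      refine mem_img.mpr ⟨⟨w', hXN (hQX hw')⟩, hw', qmk_eq.mpr ?_⟩
      show w'⁻¹ * x ∈ N
      rw [hwn', inv_mul_cancel_left]
      exact hn'
    exact (img_eq_bot (hxz.trans (hTX.trans hXN))).mp hb (mem_zpowers x)
  intro hbot
  have hxS : x ∈ syl A q N := by
    rw [h.syl_eq_inf (h.inv_odd2 hX)]
    exact ⟨le_syl hTi.le hTi.nor hT hx, hxN⟩
  have hxw : w * x = x * w :=
    (mem_centralizer_iff.mp (commutator_eq_bot_iff_le_centralizer.mp hbot hxS) w hw)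
  have hn' : n * x * n⁻¹ = x⁻¹ := by
    have h5 : w⁻¹ * x⁻¹ * w = x⁻¹ := by
      have := (show Commute w x from hxw).inv_right
      rw [mul_assoc, ← this.eq, inv_mul_cancel_left]
    rw [hwn] at hinv'
    rw [← h5, ← hinv']
    group
  exact hx1 (eq_one_of_eq_inv hq hq2 hT hx (eq_inv_of_odd hn'
    (Nat.coprime_two_right.mp (odd2_coprime X)) (by
      have := congrArg Subtype.val (pow_card_eq_one' (G := N) (x := ⟨n, hn⟩))
      rwa [SubmonoidClass.coe_pow, Subgroup.coe_one] at this)))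

end Cfsg.Agent.Lib.UniqueSylow82
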