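import Cfsg.Agent.Lib.UniqueSylow82.Cases

/-!
# Unique invariant Sylow subgroups and odd fixed points imply solvable (helper82)

Reduction to the minimal situation by induction on `|G| + |A|`.
-/

set_option autoImplicit false
set_option linter.style.haveILetI false
set_option linter.unusedSectionVars false

open scoped commutatorElement

namespace Cfsg.Agent.Lib.UniqueSylow82

open Subgroup
open scoped Pointwise

universe u

variable {Γ : Type u} [Group Γ]

/-- The conjugate of `X` by `a`. -/
abbrev cj (a : Γ) (X : Subgroup Γ) : Subgroup Γ := X.map (MulAut.conj a).toMonoidHom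

theorem cj_mul (a b : Γ) (X : Subgroup Γ) : cj (a * b) X = cj a (cj b X) := by
  rw [cj, cj, cj, map_map]
  congr 1
  ext y
  simp [mul_assoc]

theorem cj_one (X : Subgroup Γ) : cj 1 X = X := by
  rw [cj]
  refine Eq.trans ?_ (map_id X)
  congr 1
  ext y
  simp

theorem cj_eq_of_mem {a : Γ} {X : Subgroup Γ} (h : a ∈ normalizer (X : Set Γ)) : cj a X = X :=
  (Coprime.conj_smul_eq_map a X).symm.trans (Coprime.conj_smul_eq_self_of_mem_normalizer h)

theorem mem_of_cj_eq {a : Γ} {X : Subgroup Γ} (h : cj a X = X) : a ∈ normalizer (X : Set Γ) :=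
  Coprime.mem_normalizer_of_conj_smul_eq ((Coprime.conj_smul_eq_map a X).trans h)

/-- Pairwise normalising `p`-subgroups generate a `p`-group. -/
theorem isPGroup_iSup {ι : Type*} [Finite ι] {p : ℕ} (S : ι → Subgroup Γ)
    (hS : ∀ i, IsPGroup p (S i)) (hn : ∀ i j, S i ≤ normalizer (S j : Set Γ)) :
    IsPGroup p ↥(⨆ i, S i) := by
  classical
  cases nonempty_fintype ι
  suffices ∀ s : Finset ι, IsPGroup p ↥(s.sup S) by
    rw [← Finset.sup_univ_eq_iSup]
    exact this _
  intro s
  induction s using Finset.induction with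
  | empty => rw [Finset.sup_empty]; exact IsPGroup.of_bot
  | insert i s _ ih =>
    rw [Finset.sup_insert, sup_comm]
    exact ih.to_sup_of_normal_right' (hS i) (Finset.sup_le fun j _ => hn j i)

variable [Finite Γ]

/-- The facts about a minimal normal subgroup `T` moved by `A`. -/
structure Comp (G A T : Subgroup Γ) : Prop where
  le : T ≤ G
  nor : G ≤ normalizer (T : Set Γ)
  ne : T ≠ ⊥
  min : ∀ T' : Subgroup Γ, T' ≤ T → G ≤ normalizer (T' : Set Γ) → T' = ⊥ ∨ T' = T

namespace Comp

variable {G A T : Subgroup Γ} (h : Comp G A T) (hA : A ≤ normalizer (G : Set Γ))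
include h hA

theorem cj_le {a : Γ} (ha : a ∈ A) : cj a T ≤ G := by
  rintro _ ⟨t, ht, rfl⟩
  exact conj_mem hA ha (h.le ht)

theorem cj_nor {a : Γ} (ha : a ∈ A) : G ≤ normalizer (cj a T : Set Γ) := by
  rw [le_normalizer_iff]
  rintro g hg _ ⟨t, ht, rfl⟩
  refine ⟨(a⁻¹ * g * a) * t * (a⁻¹ * g * a)⁻¹,
    conj_mem h.nor ((mem_normalizer_iff''.mp (hA ha) g).mp hg) ht, ?_⟩
  show a * _ * a⁻¹ = g * (a * t * a⁻¹) * g⁻¹
  group

theorem commute {a b : Γ} (ha : a ∈ A) (hb : b ∈ A) (hne : cj a T ≠ cj b T) :
    cj a T ≤ centralizer (cj b T : Set Γ) := by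
  rw [← commutator_eq_bot_iff_le_centralizer]
  set D := cj a T ⊓ cj b T with hD
  have hDn : G ≤ normalizer (D : Set Γ) :=
    Coprime.le_normalizer_inf (h.cj_nor hA ha) (h.cj_nor hA hb)
  have hDle : cj a⁻¹ D ≤ T := by
    rintro _ ⟨y, hy, rfl⟩
    obtain ⟨t, ht, rfl⟩ := hy.1
    show a⁻¹ * (a * t * a⁻¹) * a⁻¹⁻¹ ∈ T
    simpa [mul_assoc] using ht
  have hDn' : G ≤ normalizer (cj a⁻¹ D : Set Γ) := by
    rw [le_normalizer_iff]
    rintro g hg _ ⟨t, ht, rfl⟩
    refine ⟨(a * g * a⁻¹) * t * (a * g * a⁻¹)⁻¹, conj_mem hDn (conj_mem hA ha hg) ht, ?_⟩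
    show a⁻¹ * _ * a⁻¹⁻¹ = g * (a⁻¹ * t * a⁻¹⁻¹) * g⁻¹
    group
  rcases h.min _ hDle hDn' with h1 | h1
  · have hbot : D = ⊥ := by
      rw [← cj_one D, ← mul_inv_cancel a, cj_mul, h1, cj, Subgroup.map_bot]
    rw [eq_bot_iff, ← hbot]
    exact le_inf (le_normalizer_iff_commutator_le_left.mp ((h.cj_le hA hb).trans (h.cj_nor hA ha)))
      (by
        rw [commutator_comm]
        exact le_normalizer_iff_commutator_le_left.mp ((h.cj_le hA ha).trans (h.cj_nor hA hb)))
  · exfalso
    have h2 : D = cj a T := by rw [← h1, ← cj_mul, mul_inv_cancel, cj_one]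
    have hle : cj a T ≤ cj b T := inf_eq_left.mp h2
    refine hne (eq_of_le_of_card_ge hle (le_of_eq ?_))
    exact (Nat.card_congr (T.equivMapOfInjective _ (MulAut.conj b).injective).toEquiv).symm.trans
      (Nat.card_congr (T.equivMapOfInjective _ (MulAut.conj a).injective).toEquiv)

theorem nor_cj {a b : Γ} (ha : a ∈ A) (hb : b ∈ A) {S : Subgroup Γ} (hS : S ≤ T)
    (hSA : A ⊓ normalizer (T : Set Γ) ≤ normalizer (S : Set Γ)) :
    cj a S ≤ normalizer (cj b S : Set Γ) := by
  by_cases he : cj a T = cj b T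
  · have h1 : b⁻¹ * a ∈ normalizer (T : Set Γ) := mem_of_cj_eq (by
      rw [cj_mul, he, ← cj_mul, inv_mul_cancel, cj_one])
    have h2 := cj_eq_of_mem (hSA ⟨A.mul_mem (A.inv_mem hb) ha, h1⟩)
    have h3 : cj a S = cj b S := by
      conv_rhs => rw [← h2, ← cj_mul, mul_inv_cancel_left]
    rw [h3]
    exact le_normalizer
  · exact ((Subgroup.map_mono hS).trans ((h.commute hA ha hb he).trans
      (centralizer_le (SetLike.coe_subset_coe.mpr (Subgroup.map_mono hS))))).trans
      (centralizer_le_normalizer _)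

/-- An invariant `p`-group containing a `p`-subgroup of `T` invariant under the stabiliser. -/
theorem exists_star {p : ℕ} {S : Subgroup Γ} (hS : S ≤ T)
    (hSA : A ⊓ normalizer (T : Set Γ) ≤ normalizer (S : Set Γ)) (hSp : IsPGroup p S) :
    ∃ S' : Subgroup Γ, Inv G A S' ∧ IsPGroup p S' ∧ S ≤ S' := by
  refine ⟨⨆ a : A, cj (a : Γ) S, ⟨iSup_le fun a => (Subgroup.map_mono hS).trans (h.cj_le hA a.2), ?_⟩,
    isPGroup_iSup _ (fun a => hSp.map _) (fun a b => h.nor_cj hA a.2 b.2 hS hSA),
    le_trans (cj_one S).ge (le_iSup (fun a : A => cj (a : Γ) S) 1)⟩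
  rw [le_normalizer_iff]
  intro b hb y hy
  have : (⨆ a : A, cj (a : Γ) S) ≤
      (⨆ a : A, cj (a : Γ) S).comap (MulAut.conj b).toMonoidHom := by
    refine iSup_le fun a => map_le_iff_le_comap.mp ?_
    refine le_trans ?_ (le_iSup (fun a : A => cj (a : Γ) S) ⟨b * a, mul_mem hb a.2⟩)
    exact (cj_mul b a S).ge
  exact this hy

end Comp

theorem solvable_of_hyp_aux : ∀ (n : ℕ) (Γ : Type u) [Group Γ] [Finite Γ] (r : ℕ) (G A : Subgroup Γ),
    Nat.card G + Nat.card A = n → Hyp r G A → Group.IsSolvable G := by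
  intro n
  induction n using Nat.strong_induction_on with
  | _ n ih =>
  intro Γ _ _ r G A hn h
  haveI := Fact.mk h.hr
  haveI : Fact (Nat.Prime 2) := ⟨Nat.prime_two⟩
  by_contra hns
  have hGne : G ≠ ⊥ := fun e => hns (by
    subst e
    haveI : Subsingleton ↥(⊥ : Subgroup Γ) := inferInstance
    infer_instance)
  have hodd : ¬ Odd (Nat.card G) := fun ho => hns (OddOrder.FeitThompson.isSolvable_of_odd_card ho)
  have hAne : A ≠ ⊥ := fun e => hodd (by
    have h1 := h.odd
    rwa [e, Subgroup.coe_bot, inf_eq_left.mpr (fun x _ => mem_centralizer_iff.mpr fun y hy => by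
      rw [Set.mem_singleton_iff] at hy; subst hy; simp)] at h1)
  have hr2 : r ≠ 2 := fun e => hodd (Nat.coprime_two_left.mp (e ▸ h.cop))
  -- faithful on the lines
  have moves : ∀ a ∈ A, a ≠ 1 → ¬ G ≤ centralizer ({a} : Set Γ) := by
    intro a ha ha1 hGa
    obtain ⟨B, ⟨hBA, haB⟩, hmax⟩ := (Set.toFinite {B : Subgroup Γ | B ≤ A ∧ a ∉ B}).exists_maximal
      ⟨⊥, bot_le, fun e => ha1 (mem_bot.mp e)⟩
    have hsup : A ≤ B ⊔ zpowers a := by
      intro c hc
      by_contra hcn
      have hcB : zpowers c ≤ normalizer (B : Set Γ) :=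
        (zpowers_le.mpr hc).trans ((le_centralizer_iff.mp (hBA.trans
          (le_centralizer_iff_isMulCommutative.mpr h.commA))).trans (centralizer_le_normalizer _))
      by_cases hac : a ∈ B ⊔ zpowers c
      · obtain ⟨c', hc', b', hb', heq⟩ := Coprime.exists_mul_of_mem_sup hcB (sup_comm B _ ▸ hac)
        have hc'1 : c' ≠ 1 := fun e => haB (by rw [heq, e, one_mul]; exact hb')
        have hc'mem : c' ∈ B ⊔ zpowers a := by
          rw [show c' = a * b'⁻¹ by rw [heq]; group]
          exact mul_mem (mem_sup_right (mem_zpowers a)) (mem_sup_left (inv_mem hb'))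
        have hc1 : c ≠ 1 := fun e => hcn (e ▸ one_mem _)
        have hgen : zpowers c' = zpowers c := eq_of_le_of_card_ge (zpowers_le.mpr hc') (by
          rw [Nat.card_zpowers, Nat.card_zpowers, orderOf_eq_prime (h.pow c hc) hc1,
            orderOf_eq_prime (h.pow c' (zpowers_le.mpr hc hc')) hc'1])
        exact hcn ((zpowers_le.mpr hc'mem : zpowers c' ≤ _) (hgen ▸ mem_zpowers c))
      · exact hcn (mem_sup_left (hmax ⟨sup_le hBA (zpowers_le.mpr hc), hac⟩ le_sup_left
          (mem_sup_right (mem_zpowers c))))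
    have hlt : Nat.card B < Nat.card A := lt_of_le_of_ne (card_le_of_le hBA) fun e =>
      haB ((eq_of_le_of_card_ge hBA e.ge).ge ha)
    have hinv : ∀ S : Subgroup Γ, Inv G B S → Inv G A S := fun S hS =>
      ⟨hS.le, hsup.trans (sup_le hS.nor (zpowers_le.mpr (centralizer_le_normalizer _
        (mem_centralizer_iff.mpr fun y hy =>
          mem_centralizer_singleton_iff.mp (hGa (hS.le hy))))))⟩
    refine hns (ih (Nat.card G + Nat.card B) (by omega) Γ r G B rfl
      { hr := h.hr
        comm := fun x hx y hy => h.comm x (hBA hx) y (hBA hy)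
        pow := fun x hx => h.pow x (hBA hx)
        nor := hBA.trans h.nor
        cop := h.cop
        join := fun p hp S U hS hU => h.join p hp S U (hinv S hS) (hinv U hU)
        odd := h.odd.of_dvd_nat (card_dvd_of_le (le_inf inf_le_left ?_)) })
    rw [le_centralizer_iff]
    refine hsup.trans (sup_le (le_centralizer_iff.mp inf_le_right) (zpowers_le.mpr ?_))
    exact mem_centralizer_iff.mpr fun y hy => mem_centralizer_singleton_iff.mp (hGa hy.1)
  -- proper invariant subgroups
  have proper : ∀ X : Subgroup Γ, Inv G A X → X ≠ G → Group.IsSolvable X := fun X hX hne => by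
    have hlt : Nat.card X < Nat.card G := lt_of_le_of_ne (card_le_of_le hX.le) fun e =>
      hne (eq_of_le_of_card_ge hX.le e.ge)
    exact ih (Nat.card X + Nat.card A) (by omega) Γ r X A rfl (h.sub hX)
  -- no invariant normal subgroups
  have invsimple : ∀ N : Subgroup Γ, Inv G A N → G ≤ normalizer (N : Set Γ) → N = ⊥ ∨ N = G := by
    intro N hN hGN
    by_contra hcon
    push Not at hcon
    have hlt := card_img_lt hGN (by rw [inf_eq_right.mpr hN.le]; exact hcon.1)
    have hle := Nat.le_of_dvd Nat.card_pos (card_img_dvd (N := N) A)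
    haveI := ih (Nat.card (img N G) + Nat.card (img N A)) (by omega) (NQ N) r (img N G) (img N A) rfl
      (h.quot hN.nor)
    haveI := proper N hN hcon.2
    set f : G →* NQ N := (qmk N).comp (inclusion hGN)
    have hker : f.ker.map G.subtype ≤ N := by
      rintro _ ⟨y, hy, rfl⟩
      exact qmk_eq_one.mp (hy : f y = 1)
    haveI : Group.IsSolvable f.ker :=
      Group.isSolvable_of_isSolvable_injective
        (f := (inclusion hker).comp (f.ker.equivMapOfInjective _ G.subtype_injective).toMonoidHom)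
        ((inclusion_injective hker).comp (MulEquiv.injective _))
    haveI : Group.IsSolvable f.range :=
      Coprime.isSolvable_of_le (B := img N G) (by rintro _ ⟨y, rfl⟩; exact qmk_mem y.2)
    exact hns (Group.isSolvable_of_ker_le_range f.ker.subtype f.rangeRestrict
      (by rw [MonoidHom.ker_rangeRestrict, range_subtype]))
  -- a minimal normal subgroup
  obtain ⟨T, hTG, ⟨hTn, hTne⟩, hTmin⟩ := exists_minimal_le_of_wellFoundedLT
    (fun W : Subgroup Γ => G ≤ normalizer (W : Set Γ) ∧ W ≠ ⊥) G ⟨le_normalizer, hGne⟩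
  have hT : Comp G A T := ⟨hTG, hTn, hTne, fun T' h1 h2 => or_iff_not_imp_left.mpr fun h3 =>
    le_antisymm h1 (hTmin ⟨h2, h3⟩ h1)⟩
  by_cases hTA : A ≤ normalizer (T : Set Γ)
  · have hTeq : T = G := (invsimple T ⟨hTG, hTA⟩ hTn).resolve_left hTne
    have hm : Min r G A :=
      { toHyp := h
        proper := proper
        simple := fun N hN hGN => hTeq ▸ hT.min N (hTeq.symm ▸ hN) hGN
        nsol := hns
        moves := moves }
    obtain ⟨k, hk⟩ := IsPGroup.iff_card.mp h.isP_A
    match k, hk with
    | 0, hk => exact hAne (card_eq_one.mp (by simpa using hk))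
    | 1, hk => exact hm.false_rank_one (by simpa using hk)
    | 2, hk => exact hm.false_rank_two hk hr2
    | k + 3, hk => exact hm.false_rank_ge_three (hk ▸ Nat.pow_le_pow_right h.hr.pos (by omega))
  have hTG' : T ≠ G := fun e => hTA (e ▸ h.nor)
  -- `T` is not commutative
  have hTc : ¬ T ≤ centralizer (T : Set Γ) := by
    intro hc
    set L0 := ⨆ a : A, cj (a : Γ) T with hL0
    have hL0i : Inv G A L0 := by
      refine ⟨iSup_le fun a => hT.cj_le h.nor a.2, ?_⟩
      rw [le_normalizer_iff]
      intro b hb y hy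
      have : L0 ≤ L0.comap (MulAut.conj b).toMonoidHom := iSup_le fun a => map_le_iff_le_comap.mp
        ((cj_mul b a T).ge.trans (le_iSup (fun a : A => cj (a : Γ) T) ⟨b * a, mul_mem hb a.2⟩))
      exact this hy
    have hL0c : L0 ≤ centralizer (L0 : Set Γ) := by
      refine iSup_le fun a => le_centralizer_iff.mp (iSup_le fun b => le_centralizer_iff.mp ?_)
      by_cases he : cj (a : Γ) T = cj (b : Γ) T
      · rw [← he]
        rintro _ ⟨t, ht, rfl⟩
        rw [mem_centralizer_iff]
        rintro _ ⟨t', ht', rfl⟩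
        rw [← map_mul, ← map_mul, mem_centralizer_iff.mp (hc ht) t' ht']
      · exact hT.commute h.nor a.2 b.2 he
    rcases invsimple L0 hL0i (nor_iSup fun a => hT.cj_nor h.nor a.2) with h1 | h1
    · exact hTne (le_bot_iff.mp ((cj_one T).ge.trans
        ((le_iSup (fun a : A => cj (a : Γ) T) 1).trans h1.le)))
    · haveI : IsMulCommutative L0 := le_centralizer_iff_isMulCommutative.mp hL0c
      exact hns (h1 ▸ Coprime.isSolvable_of_isMulCommutative L0)
  set L := ⨆ a : {a : A // cj (a : Γ) T ≠ T}, cj ((a : A) : Γ) T with hL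
  have hLT : T ⊓ L = ⊥ := by
    refine (hT.min (T ⊓ L) inf_le_left (Coprime.le_normalizer_inf hTn
      (nor_iSup fun a => hT.cj_nor h.nor a.1.2))).resolve_right fun e => hTc ?_
    refine le_trans ?_ (le_centralizer_iff.mp (inf_eq_left.mp e |> fun hle => ?_ :
      T ≤ centralizer (T : Set Γ)))
    · exact le_rfl
    · refine hle.trans (iSup_le fun a => ?_)
      have h1 := hT.commute h.nor a.1.2 (one_mem A) (by rw [cj_one]; exact a.2)
      rwa [cj_one] at h1
  set A1 := A ⊓ normalizer (T : Set Γ) with hA1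
  have hA1A : A1 ≤ A := inf_le_left
  have hA1lt : Nat.card T + Nat.card A1 < n := by
    have h1 : Nat.card T < Nat.card G := lt_of_le_of_ne (card_le_of_le hTG) fun e =>
      hTG' (eq_of_le_of_card_ge hTG e.ge)
    have h2 := card_le_of_le hA1A
    omega
  have hsolT : Group.IsSolvable T := by
    refine ih _ hA1lt Γ r T A1 rfl
      { hr := h.hr
        comm := fun x hx y hy => h.comm x (hA1A hx) y (hA1A hy)
        pow := fun x hx => h.pow x (hA1A hx)
        nor := inf_le_right
        cop := h.coprime_r hTG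
        join := fun p hp S U hS hU hSp hUp => ?_
        odd := ?_ }
    · obtain ⟨S', hS', hS'p, hSS'⟩ := hT.exists_star h.nor hS.le hS.nor hSp
      obtain ⟨U', hU', hU'p, hUU'⟩ := hT.exists_star h.nor hU.le hU.nor hUp
      exact (h.join p hp S' U' hS' hU' hS'p hU'p).to_le (sup_le_sup hSS' hUU')
    · rw [← Nat.not_even_iff_odd, even_iff_two_dvd]
      intro h2
      obtain ⟨⟨t, htT, htA⟩, ht⟩ := exists_prime_orderOf_dvd_card'
        (G := ↥(T ⊓ centralizer (A1 : Set Γ))) 2 h2
      have ht : orderOf t = 2 := (Subgroup.orderOf_coe _).trans ht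
      set E := ⨆ a : A, cj (a : Γ) (zpowers t) with hE
      have htz : zpowers t ≤ T := zpowers_le.mpr htT
      have hA1t : A ⊓ normalizer (T : Set Γ) ≤ normalizer ((zpowers t : Subgroup Γ) : Set Γ) :=
        (le_centralizer_iff.mp (zpowers_le.mpr htA)).trans (centralizer_le_normalizer _)
      have hEi : Inv G A E := by
        refine ⟨iSup_le fun a => (Subgroup.map_mono htz).trans (hT.cj_le h.nor a.2), ?_⟩
        rw [le_normalizer_iff]
        intro b hb y hy
        have : E ≤ E.comap (MulAut.conj b).toMonoidHom := iSup_le fun a => map_le_iff_le_comap.mp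
          ((cj_mul b a (zpowers t)).ge.trans
            (le_iSup (fun a : A => cj (a : Γ) (zpowers t)) ⟨b * a, mul_mem hb a.2⟩))
        exact this hy
      have hE2 : IsPGroup 2 E := isPGroup_iSup _
        (fun a => (IsPGroup.of_card (n := 1) (by rw [Nat.card_zpowers, ht, pow_one])).map _)
        (fun a b => hT.nor_cj h.nor a.2 b.2 htz hA1t)
      haveI : IsMulCommutative E := by
        refine le_centralizer_iff_isMulCommutative.mp
          (iSup_le fun a => le_centralizer_iff.mp (iSup_le fun b => le_centralizer_iff.mp ?_))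
        by_cases he : cj (a : Γ) T = cj (b : Γ) T
        · have hb1 : (b : Γ)⁻¹ * a ∈ normalizer (T : Set Γ) := mem_of_cj_eq (by
            rw [cj_mul, he, ← cj_mul, inv_mul_cancel, cj_one])
          have h3 : cj (a : Γ) (zpowers t) = cj (b : Γ) (zpowers t) := by
            conv_rhs => rw [← cj_eq_of_mem (hA1t ⟨A.mul_mem (A.inv_mem b.2) a.2, hb1⟩), ← cj_mul,
              mul_inv_cancel_left]
          rw [h3]
          exact le_centralizer_iff_isMulCommutative.mpr inferInstance
        · exact (Subgroup.map_mono htz).trans ((hT.commute h.nor a.2 b.2 he).trans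
            (centralizer_le (SetLike.coe_subset_coe.mpr (Subgroup.map_mono htz))))
      classical
      haveI : Fintype A := Fintype.ofFinite A
      open scoped IsMulCommutative in
      let f : A → E := fun a => ⟨(a : Γ) * t * (a : Γ)⁻¹,
        (le_iSup (fun a : A => cj (a : Γ) (zpowers t)) a) ⟨t, mem_zpowers t, rfl⟩⟩
      open scoped IsMulCommutative in
      let z : E := ∏ a : A, f a
      have hzfix : (z : Γ) ∈ centralizer (A : Set Γ) := by
        refine mem_centralizer_iff.mpr fun b hb => ?_
        open scoped IsMulCommutative in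
        let cb : E →* E := (E.normalizerMonoidHom ⟨b, hEi.nor hb⟩).toMonoidHom
        have hcb : cb z = z := by
          open scoped IsMulCommutative in
          show cb (∏ a : A, f a) = ∏ a : A, f a
          rw [map_prod]
          refine Fintype.prod_equiv (Equiv.mulLeft (⟨b, hb⟩ : A)) _ _ fun a => ?_
          refine Subtype.ext ?_
          show b * ((a : Γ) * t * (a : Γ)⁻¹) * b⁻¹ = (b * a) * t * (b * a)⁻¹
          group
        exact mul_inv_eq_iff_eq_mul.mp (congrArg Subtype.val hcb : b * (z : Γ) * b⁻¹ = z)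
      have hz1 : z = 1 := Subtype.ext (mem_bot.mp ((h.two_inf_fixed hEi.le hE2).le ⟨z.2, hzfix⟩))
      set M := L.subgroupOf E with hM
      open scoped IsMulCommutative in
      haveI : M.Normal := inferInstance
      open scoped IsMulCommutative in
      let π : E →* E ⧸ M := QuotientGroup.mk' M
      set t₀ : E := ⟨t, (le_iSup (fun a : A => cj (a : Γ) (zpowers t)) 1) ((cj_one _).ge (mem_zpowers t))⟩
        with ht₀
      have hsplit : ∀ a : A, π (f a) = if (a : Γ) ∈ A1 then π t₀ else 1 := by
        intro a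
        by_cases haA : (a : Γ) ∈ A1
        · rw [if_pos haA]
          refine congrArg π (Subtype.ext ?_)
          show (a : Γ) * t * (a : Γ)⁻¹ = t
          rw [mul_inv_eq_iff_eq_mul]
          exact mem_centralizer_iff.mp htA a haA
        · rw [if_neg haA]
          refine (QuotientGroup.eq_one_iff _).mpr ?_
          have hne : cj (a : Γ) T ≠ T := fun e => haA ⟨a.2, mem_of_cj_eq e⟩
          exact mem_subgroupOf.mpr ((le_iSup (fun a : {a : A // cj (a : Γ) T ≠ T} =>
            cj ((a : A) : Γ) T) ⟨a, hne⟩) ⟨t, htT, rfl⟩)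
      have hpow : π t₀ ^ Nat.card A1 = 1 := by
        open scoped IsMulCommutative in
        have h1 : ∏ a : A, π (f a) = 1 := by rw [← map_prod, show (∏ a : A, f a) = z from rfl, hz1, map_one]
        rw [Finset.prod_congr rfl (fun a _ => hsplit a), Finset.prod_ite, Finset.prod_const,
          Finset.prod_const_one, mul_one] at h1
        rw [← h1]
        congr 1
        rw [← Nat.card_congr (subgroupOfEquivOfLe hA1A).toEquiv, Nat.card_eq_fintype_card]
        exact Fintype.card_subtype fun a : A => (a : Γ) ∈ A1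
      have hsq : π t₀ ^ 2 = 1 := by
        rw [← map_pow]
        rw [show t₀ ^ 2 = 1 from Subtype.ext (by
          show t ^ 2 = 1
          rw [← ht]; exact pow_orderOf_eq_one t), map_one]
      have hπ : π t₀ = 1 := by
        have hco : Nat.Coprime (Nat.card A1) 2 := by
          obtain ⟨k, hk⟩ := IsPGroup.iff_card.mp (h.isP_A.to_le hA1A)
          rw [hk]
          exact ((Nat.coprime_primes h.hr Nat.prime_two).mpr hr2).pow_left k
        have h3 := pow_gcd_eq_one.mpr ⟨hpow, hsq⟩
        rwa [hco.gcd_eq_one, pow_one] at h3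
      have htbot : t ∈ T ⊓ L := ⟨htT, mem_subgroupOf.mp ((QuotientGroup.eq_one_iff t₀).mp hπ)⟩
      rw [hLT, mem_bot] at htbot
      rw [htbot, orderOf_one] at ht
      exact absurd ht (by norm_num)
  haveI := hsolT
  haveI : Nontrivial T := (nontrivial_iff_ne_bot T).mpr hTne
  have hlt := Group.IsSolvable.commutator_lt_top_of_nontrivial T
  have hmap : (commutator T).map T.subtype = ⁅T, T⁆ := by
    rw [_root_.commutator_def, map_commutator, ← MonoidHom.range_eq_map, range_subtype]
  rcases hT.min ⁅T, T⁆ (le_normalizer_iff_commutator_le_left.mp le_normalizer)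
      (nor_commutator hTn hTn) with h1 | h1
  · exact hTc (commutator_eq_bot_iff_le_centralizer.mp h1)
  · refine hlt.ne (map_injective T.subtype_injective ?_)
    rw [hmap, h1, ← MonoidHom.range_eq_map, range_subtype]

/-- **The theorem.** -/
theorem solvable_of_hyp {Γ : Type u} [Group Γ] [Finite Γ] {r : ℕ} {G A : Subgroup Γ}
    (h : Hyp r G A) : Group.IsSolvable G :=
  solvable_of_hyp_aux _ Γ r G A rfl h

end Cfsg.Agent.Lib.UniqueSylow82
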