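import Cfsg.Agent.Lib.UniqueSylow82.Setup
import Cfsg.Agent.Lib.LAEven57.AbelianCent.Operators

/-!
# Passing to `N(N) / N` (helper82)

`img N X` is the image of `X ∩ N(N)`.  The hypothesis passes to it, invariant Sylow subgroups map to
invariant Sylow subgroups, and `fixed_quot` is the relative form of `centralizes_of_fixed`.
-/

set_option autoImplicit false
set_option linter.style.haveILetI false
set_option linter.unusedSectionVars false

open scoped commutatorElement

namespace Cfsg.Agent.Lib.UniqueSylow82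

open Subgroup

universe u

variable {Γ : Type u} [Group Γ]

/-- `N(N) / N`. -/
abbrev NQ (N : Subgroup Γ) : Type u :=
  ↥(normalizer (N : Set Γ)) ⧸ N.subgroupOf (normalizer (N : Set Γ))

/-- The projection of `N(N)`. -/
def qmk (N : Subgroup Γ) : ↥(normalizer (N : Set Γ)) →* NQ N := QuotientGroup.mk' _

/-- The image of `X ∩ N(N)`. -/
def img (N X : Subgroup Γ) : Subgroup (NQ N) := (X.subgroupOf (normalizer (N : Set Γ))).map (qmk N)

/-- The preimage. -/
def pre (N : Subgroup Γ) (K : Subgroup (NQ N)) : Subgroup Γ :=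
  (K.comap (qmk N)).map (normalizer (N : Set Γ)).subtype

variable {N : Subgroup Γ}

theorem qmk_surjective (N : Subgroup Γ) : Function.Surjective (qmk N) :=
  QuotientGroup.mk'_surjective _

theorem qmk_eq_one {x : ↥(normalizer (N : Set Γ))} : qmk N x = 1 ↔ (x : Γ) ∈ N :=
  (QuotientGroup.eq_one_iff x).trans mem_subgroupOf

theorem qmk_eq {x y : ↥(normalizer (N : Set Γ))} :
    qmk N x = qmk N y ↔ (x : Γ)⁻¹ * y ∈ N :=
  QuotientGroup.eq.trans mem_subgroupOf

theorem mem_img {X : Subgroup Γ} {z : NQ N} :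
    z ∈ img N X ↔ ∃ x : ↥(normalizer (N : Set Γ)), (x : Γ) ∈ X ∧ qmk N x = z :=
  Iff.rfl

theorem qmk_mem {X : Subgroup Γ} {x : ↥(normalizer (N : Set Γ))} (h : (x : Γ) ∈ X) :
    qmk N x ∈ img N X :=
  ⟨x, h, rfl⟩

theorem img_mono {X Y : Subgroup Γ} (h : X ≤ Y) : img N X ≤ img N Y :=
  Subgroup.map_mono (Subgroup.comap_mono h)

theorem img_isP {X : Subgroup Γ} {p : ℕ} (h : IsPGroup p X) : IsPGroup p (img N X) :=
  h.comap_subtype.map _

theorem img_nor {L X : Subgroup Γ} (h : L ≤ normalizer (X : Set Γ)) :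
    img N L ≤ normalizer (img N X : Set (NQ N)) := by
  rw [le_normalizer_iff]
  rintro _ ⟨a, ha, rfl⟩ _ ⟨x, hx, rfl⟩
  rw [← map_inv, ← map_mul, ← map_mul]
  exact qmk_mem (conj_mem h ha hx)

theorem card_img_dvd [Finite Γ] (X : Subgroup Γ) : Nat.card (img N X) ∣ Nat.card X :=
  (card_map_dvd _ _).trans
    ((Nat.card_congr ((X.subgroupOf (normalizer (N : Set Γ))).equivMapOfInjective _
      (normalizer (N : Set Γ)).subtype_injective).toEquiv).dvd.trans
      (card_dvd_of_le (by rw [subgroupOf_map_subtype]; exact inf_le_left)))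

theorem card_img_lt [Finite Γ] {X : Subgroup Γ} (hX : X ≤ normalizer (N : Set Γ))
    (hne : X ⊓ N ≠ ⊥) : Nat.card (img N X) < Nat.card X := by
  refine lt_of_le_of_ne (Nat.le_of_dvd Nat.card_pos (card_img_dvd X)) fun he => hne ?_
  have hc : Nat.card (X.subgroupOf (normalizer (N : Set Γ))) = Nat.card X :=
    Nat.card_congr (subgroupOfEquivOfLe hX).toEquiv
  have hsurj : Function.Surjective ((qmk N).subgroupMap (X.subgroupOf (normalizer (N : Set Γ)))) :=
    (qmk N).subgroupMap_surjective _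
  have hinj := (hsurj.bijective_of_nat_card_le (by rw [hc, ← he]; exact le_rfl)).1
  refine (Subgroup.eq_bot_iff_forall _).2 fun x hx => ?_
  have h1 : (qmk N).subgroupMap (X.subgroupOf (normalizer (N : Set Γ)))
      ⟨⟨x, hX hx.1⟩, hx.1⟩ = 1 := Subtype.ext (qmk_eq_one.mpr hx.2)
  rw [← map_one ((qmk N).subgroupMap (X.subgroupOf (normalizer (N : Set Γ))))] at h1
  exact congrArg (fun z : X.subgroupOf (normalizer (N : Set Γ)) => ((z : _) : Γ)) (hinj h1)

theorem img_eq_bot {X : Subgroup Γ} (hX : X ≤ normalizer (N : Set Γ)) :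
    img N X = ⊥ ↔ X ≤ N := by
  constructor
  · intro h x hx
    have h1 : qmk N ⟨x, hX hx⟩ ∈ img N X := qmk_mem hx
    rw [h, mem_bot] at h1
    exact qmk_eq_one.mp h1
  · intro h
    rw [Subgroup.eq_bot_iff_forall]
    rintro _ ⟨x, hx, rfl⟩
    exact qmk_eq_one.mpr (h hx)

theorem le_sup_of_img_le {X Y : Subgroup Γ} (hX : X ≤ normalizer (N : Set Γ))
    (h : img N X ≤ img N Y) : X ≤ Y ⊔ N := by
  intro x hx
  obtain ⟨y, hy, he⟩ := h (qmk_mem (x := ⟨x, hX hx⟩) hx)
  rw [show x = (y : Γ) * ((y : Γ)⁻¹ * x) by group]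
  exact mul_mem (mem_sup_left hy) (mem_sup_right (qmk_eq.mp he))

theorem img_commutator {X Y : Subgroup Γ} (hX : X ≤ normalizer (N : Set Γ))
    (hY : Y ≤ normalizer (N : Set Γ)) : img N ⁅X, Y⁆ = ⁅img N X, img N Y⁆ := by
  unfold img
  rw [← map_commutator]
  congr 1
  refine map_injective (normalizer (N : Set Γ)).subtype_injective ?_
  rw [map_commutator, map_subgroupOf_eq_of_le hX, map_subgroupOf_eq_of_le hY,
    map_subgroupOf_eq_of_le ?_]
  rw [commutator_le]
  exact fun x hx y hy =>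
    mul_mem (mul_mem (mul_mem (hX hx) (hY hy)) (inv_mem (hX hx))) (inv_mem (hY hy))

theorem commutator_le_of_img {X Y : Subgroup Γ} (hX : X ≤ normalizer (N : Set Γ))
    (hY : Y ≤ normalizer (N : Set Γ)) (h : img N X ≤ centralizer (img N Y : Set (NQ N))) :
    ⁅X, Y⁆ ≤ N := by
  rw [← img_eq_bot (N := N), img_commutator hX hY, commutator_eq_bot_iff_le_centralizer]
  · exact h
  · rw [commutator_le]
    exact fun x hx y hy =>
      mul_mem (mul_mem (mul_mem (hX hx) (hY hy)) (inv_mem (hX hx))) (inv_mem (hY hy))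

theorem img_centralizes {X Y : Subgroup Γ} (hX : X ≤ normalizer (N : Set Γ))
    (hY : Y ≤ normalizer (N : Set Γ)) (h : ⁅X, Y⁆ ≤ N) :
    img N X ≤ centralizer (img N Y : Set (NQ N)) := by
  rw [← commutator_eq_bot_iff_le_centralizer, ← img_commutator hX hY, img_eq_bot]
  · exact h
  · exact h.trans le_normalizer

theorem pre_le_normalizer (K : Subgroup (NQ N)) : pre N K ≤ normalizer (N : Set Γ) :=
  map_subtype_le _

theorem le_pre (K : Subgroup (NQ N)) : N ≤ pre N K := fun x hx =>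
  ⟨⟨x, le_normalizer hx⟩, by
    show qmk N ⟨x, le_normalizer hx⟩ ∈ K
    rw [qmk_eq_one.mpr hx]; exact K.one_mem, rfl⟩

theorem mem_pre {K : Subgroup (NQ N)} {x : ↥(normalizer (N : Set Γ))} :
    (x : Γ) ∈ pre N K ↔ qmk N x ∈ K :=
  mem_map_iff_mem (normalizer (N : Set Γ)).subtype_injective

theorem nor_pre {L : Subgroup Γ} (hL : L ≤ normalizer (N : Set Γ)) {K : Subgroup (NQ N)}
    (hK : img N L ≤ normalizer (K : Set (NQ N))) : L ≤ normalizer (pre N K : Set Γ) := by
  rw [le_normalizer_iff]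
  rintro a ha _ ⟨x, hx, rfl⟩
  refine ⟨⟨a, hL ha⟩ * x * ⟨a, hL ha⟩⁻¹, ?_, rfl⟩
  show qmk N _ ∈ K
  rw [map_mul, map_mul, map_inv]
  exact conj_mem hK (qmk_mem ha) hx

theorem img_pre (K : Subgroup (NQ N)) : img N (pre N K) = K := by
  unfold img pre
  simp only [subgroupOf]
  rw [comap_map_eq_self_of_injective (normalizer (N : Set Γ)).subtype_injective,
    map_comap_eq_self_of_surjective (qmk_surjective N)]

/-- Fixed points lift. -/
theorem img_inf_centralizer [Finite Γ] {A X : Subgroup Γ} (hAN : A ≤ normalizer (N : Set Γ))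
    (hAX : A ≤ normalizer (X : Set Γ)) (hsol : Group.IsSolvable A)
    (hcop : (Nat.card A).Coprime (Nat.card ↥(X ⊓ N))) :
    img N X ⊓ centralizer (img N A : Set (NQ N)) ≤ img N (X ⊓ centralizer (A : Set Γ)) := by
  rintro _ ⟨⟨x, hx, rfl⟩, hc⟩
  obtain ⟨n, hn, hfix⟩ := Coprime.exists_fixed_mul (A := A) (N := X ⊓ N)
    (Coprime.le_normalizer_inf hAX hAN) hcop (Or.inl hsol) (k := (x : Γ)) fun a ha => by
      refine ⟨mul_mem (conj_mem hAX ha hx) (X.inv_mem hx), ?_⟩
      have h1 : qmk N (⟨a, hAN ha⟩ * x * ⟨a, hAN ha⟩⁻¹ * x⁻¹) = 1 := by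
        rw [map_mul, map_mul, map_mul, map_inv, map_inv,
          mem_centralizer_iff.mp hc _ (qmk_mem (x := ⟨a, hAN ha⟩) ha)]
        group
      exact qmk_eq_one.mp h1
  refine ⟨⟨n * x, mul_mem (le_normalizer hn.2) x.2⟩, ⟨mul_mem hn.1 hx, hfix⟩, ?_⟩
  show qmk N (⟨n, le_normalizer hn.2⟩ * x) = qmk N x
  rw [map_mul, qmk_eq_one.mpr hn.2, one_mul]

theorem img_zpowers {a : Γ} (ha : a ∈ normalizer (N : Set Γ)) :
    img N (zpowers a) = zpowers (qmk N ⟨a, ha⟩) := by
  unfold img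
  rw [← MonoidHom.map_zpowers]
  congr 1
  refine map_injective (normalizer (N : Set Γ)).subtype_injective ?_
  rw [map_subgroupOf_eq_of_le (zpowers_le.mpr ha), MonoidHom.map_zpowers]
  rfl

/-- Fixed points of one element lift. -/
theorem img_inf_singleton [Finite Γ] {a : Γ} {X : Subgroup Γ} (ha : a ∈ normalizer (N : Set Γ))
    (haX : a ∈ normalizer (X : Set Γ))
    (hcop : (Nat.card (zpowers a)).Coprime (Nat.card ↥(X ⊓ N))) :
    img N X ⊓ centralizer {qmk N ⟨a, ha⟩} ≤ img N (X ⊓ centralizer {a}) := by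
  refine le_trans ?_ (le_trans (img_inf_centralizer (A := zpowers a) (zpowers_le.mpr ha)
    (zpowers_le.mpr haX) (Coprime.isSolvable_zpowers a) hcop) (img_mono (inf_le_inf_left _ ?_)))
  · refine inf_le_inf_left _ fun z hz => ?_
    rw [img_zpowers ha, mem_centralizer_iff]
    rintro _ ⟨j, rfl⟩
    exact ((show Commute z (qmk N ⟨a, ha⟩) from mem_centralizer_singleton_iff.mp hz).zpow_right j).eq.symm
  · exact centralizer_le (Set.singleton_subset_iff.mpr (mem_zpowers a))

namespace Hyp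

variable [Finite Γ] {r : ℕ} {G A : Subgroup Γ} (h : Hyp r G A)
include h

theorem inv_img (_hA : A ≤ normalizer (N : Set Γ)) {X : Subgroup Γ} (hX : Inv G A X) :
    Inv (img N G) (img N A) (img N X) :=
  ⟨img_mono hX.le, img_nor hX.nor⟩

/-- The preimage inside `G` of an invariant subgroup. -/
theorem inv_pre (hA : A ≤ normalizer (N : Set Γ)) {K : Subgroup (NQ N)}
    (hK : img N A ≤ normalizer (K : Set (NQ N))) : Inv G A (G ⊓ pre N K) :=
  h.inv_self.inf (nor_pre hA hK)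

theorem img_pre_inf {K : Subgroup (NQ N)} (hK : K ≤ img N G) : img N (G ⊓ pre N K) = K := by
  refine le_antisymm ((img_mono inf_le_right).trans (img_pre K).le) fun z hz => ?_
  obtain ⟨x, hx, rfl⟩ := hK hz
  exact qmk_mem ⟨hx, mem_pre.mpr hz⟩

/-- An invariant `p`-subgroup of the image comes from the invariant Sylow subgroup. -/
theorem le_img_syl (hA : A ≤ normalizer (N : Set Γ)) {p : ℕ} (hp : p.Prime)
    {X : Subgroup Γ} (hX : Inv G A X) {S : Subgroup (NQ N)} (hSX : S ≤ img N X)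
    (hSA : img N A ≤ normalizer (S : Set (NQ N))) (hSp : IsPGroup p S) :
    S ≤ img N (syl A p X) := by
  haveI := Fact.mk hp
  set Y := X ⊓ pre N S with hYdef
  have hY : Inv G A Y := hX.inf (nor_pre hA hSA)
  have hYN : Y ≤ normalizer (N : Set Γ) := inf_le_right.trans (pre_le_normalizer S)
  have hYS : img N Y = S := by
    refine le_antisymm ((img_mono inf_le_right).trans (img_pre S).le) fun z hz => ?_
    obtain ⟨x, hx, rfl⟩ := hSX hz
    exact qmk_mem ⟨hx, mem_pre.mpr hz⟩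
  obtain ⟨P, hP⟩ := h.exists_sylow hY p
  set eN := (subgroupOfEquivOfLe hYN).symm with heN
  let f : Y →* ↥(normalizer (N : Set Γ)) := (Y.subgroupOf _).subtype.comp eN.toMonoidHom
  have hf : ∀ y : Y, ((f y : ↥(normalizer (N : Set Γ))) : Γ) = y := fun y => rfl
  have hrange : ((qmk N).comp f).range = S := by
    rw [← hYS]
    apply le_antisymm
    · rintro _ ⟨y, rfl⟩
      exact qmk_mem y.2
    · rintro _ ⟨x, hx, rfl⟩
      exact ⟨⟨x, hx⟩, rfl⟩
  have hsurj := ((qmk N).comp f).rangeRestrict_surjective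
  have hSp' : IsPGroup p ((qmk N).comp f).range := hrange.symm ▸ hSp
  have htop : ((P.mapSurjective hsurj : Sylow p _) : Subgroup ((qmk N).comp f).range) = ⊤ := by
    exact ((P.mapSurjective hsurj).3 (hSp'.to_subgroup ⊤) le_top).symm
  intro z hz
  obtain ⟨w, hw⟩ : z ∈ ((qmk N).comp f).range := hrange.symm ▸ hz
  have hmem : ((qmk N).comp f).rangeRestrict w ∈
      ((P.mapSurjective hsurj : Sylow p _) : Subgroup ((qmk N).comp f).range) := htop ▸ mem_top _
  rw [Sylow.coe_mapSurjective] at hmem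
  obtain ⟨y, hy, he⟩ := hmem
  have he' : qmk N (f y) = z := by rw [← hw]; exact congrArg Subtype.val he
  rw [← he']
  refine qmk_mem ?_
  rw [hf]
  exact syl_mono inf_le_left (hP ▸ mem_map_of_mem _ hy)

theorem quot (hA : A ≤ normalizer (N : Set Γ)) : Hyp r (img N G) (img N A) where
  hr := h.hr
  comm := by
    rintro _ ⟨a, ha, rfl⟩ _ ⟨b, hb, rfl⟩
    rw [← map_mul, ← map_mul]
    exact congrArg _ (Subtype.ext (h.comm a ha b hb))
  pow := by
    rintro _ ⟨a, ha, rfl⟩
    rw [← map_pow, show a ^ r = 1 from Subtype.ext (by simpa using h.pow a ha), map_one]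
  nor := img_nor h.nor
  cop := h.cop.coprime_dvd_right (card_img_dvd G)
  join p hp S T hS hT hSp hTp :=
    (img_isP (h.syl_isP h.inv_self hp)).to_le
      (sup_le (h.le_img_syl hA hp h.inv_self hS.le hS.nor hSp)
        (h.le_img_syl hA hp h.inv_self hT.le hT.nor hTp))
  odd := by
    refine h.odd.of_dvd_nat ((card_dvd_of_le (img_inf_centralizer hA h.nor h.solvA ?_)).trans
      (card_img_dvd _))
    exact h.coprime_A inf_le_left

theorem syl_img (hA : A ≤ normalizer (N : Set Γ)) {p : ℕ} (hp : p.Prime)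
    {X : Subgroup Γ} (hX : Inv G A X) :
    syl (img N A) p (img N X) = img N (syl A p X) := by
  refine le_antisymm (h.le_img_syl hA hp hX (syl_le _ _ _)
    ((h.inv_img hA hX).syl_inv p).nor
    ((h.quot hA).syl_isP (h.inv_img hA hX) hp)) ?_
  exact le_syl (img_mono (syl_le A p X)) (img_nor (hX.syl_inv p).nor)
    (img_isP (h.syl_isP hX hp))

theorem qmk_ne_one (hA : A ≤ normalizer (N : Set Γ)) (hN : N ≤ G) {a : Γ} (ha : a ∈ A)
    (ha1 : a ≠ 1) : qmk N ⟨a, hA ha⟩ ≠ 1 := fun he => ha1 (by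
  have h1 : a ∈ A ⊓ N := ⟨ha, qmk_eq_one.mp he⟩
  rwa [Coprime.inf_eq_bot_of_coprime (h.coprime_A hN), mem_bot] at h1)

theorem card_img_A (hA : A ≤ normalizer (N : Set Γ)) (hN : N ≤ G) :
    Nat.card (img N A) = Nat.card A := by
  refine Eq.trans (Nat.card_congr (Equiv.ofBijective
    (fun a : A => (⟨qmk N ⟨a, hA a.2⟩, qmk_mem a.2⟩ : img N A)) ⟨fun a b hab => ?_, ?_⟩)).symm rfl
  · have h1 : (a : Γ)⁻¹ * b ∈ A ⊓ N :=
      ⟨A.mul_mem (A.inv_mem a.2) b.2, qmk_eq.mp (congrArg Subtype.val hab)⟩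
    rw [Coprime.inf_eq_bot_of_coprime (h.coprime_A hN), mem_bot, inv_mul_eq_one] at h1
    exact Subtype.ext h1
  · rintro ⟨_, a, ha, rfl⟩
    exact ⟨⟨a, ha⟩, rfl⟩

end Hyp

/-- `N₀` fixing no non-trivial element of `d` and centralising `C_V(d)` modulo `K` acts trivially on
`V / K`. -/
theorem fixed_quot [Finite Γ] {r : ℕ} [Fact r.Prime] (d : Γ) (N₀ K V : Subgroup Γ)
    (hd : d ^ r = 1) (hdN : d ∈ normalizer (N₀ : Set Γ)) (hfix : N₀ ⊓ centralizer {d} = ⊥)
    (hnil : Group.IsNilpotent V) (hdV : d ∈ normalizer (V : Set Γ))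
    (hNV : N₀ ≤ normalizer (V : Set Γ)) (hdK : d ∈ normalizer (K : Set Γ))
    (hNK : N₀ ≤ normalizer (K : Set Γ)) (hVK : V ≤ normalizer (K : Set Γ))
    (hrV : r.Coprime (Nat.card V)) (hrN : r.Coprime (Nat.card N₀))
    (hcop : (Nat.card N₀).Coprime (Nat.card V))
    (hc : ∀ x ∈ N₀, ∀ v ∈ V ⊓ centralizer {d}, ⁅x, v⁆ ∈ K) : ⁅N₀, V⁆ ≤ K := by
  have hdd : orderOf d ∣ r := orderOf_dvd_of_pow_eq_one hd
  have hcopd : ∀ {H : Subgroup Γ}, r.Coprime (Nat.card H) → ∀ {H' : Subgroup Γ}, H' ≤ H →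
      (Nat.card (zpowers d)).Coprime (Nat.card H') := fun hH H' hle => by
    rw [Nat.card_zpowers]
    exact (hH.coprime_dvd_left hdd).coprime_dvd_right (card_dvd_of_le hle)
  refine commutator_le_of_img hNK hVK (LAEven57.AbelianCent.centralizes_of_fixed
    (q := r) (qmk K ⟨d, hdK⟩) (img K N₀) ?_ ?_ ?_ (img K V) ?_ ?_ (img_nor hNV) ?_ ?_ ?_)
  · rw [← map_pow, show (⟨d, hdK⟩ : ↥(normalizer (K : Set Γ))) ^ r = 1 from
      Subtype.ext (by simpa using hd), map_one]
  · exact img_nor (N := K) (zpowers_le.mpr hdN) (qmk_mem (mem_zpowers d))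
  · refine le_bot_iff.mp ((img_inf_singleton hdK hdN (hcopd hrN inf_le_left)).trans ?_)
    rw [hfix]
    exact ((img_eq_bot bot_le).mpr bot_le).le
  · exact Cores.isNilpotent_map _ (Group.nilpotent_of_mulEquiv (subgroupOfEquivOfLe hVK).symm)
  · exact img_nor (N := K) (zpowers_le.mpr hdV) (qmk_mem (mem_zpowers d))
  · exact hrV.coprime_dvd_right (card_img_dvd V)
  · exact (hcop.coprime_dvd_right (card_img_dvd V)).coprime_dvd_left (card_img_dvd N₀)
  · rintro _ ⟨x, hx, rfl⟩ z hz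
    obtain ⟨v, hv, rfl⟩ := img_inf_singleton hdK hdV (hcopd hrV inf_le_left) hz
    rw [← commutatorElement_eq_one_iff_mul_comm, ← map_commutatorElement]
    exact qmk_eq_one.mpr (hc x hx v hv)

end Cfsg.Agent.Lib.UniqueSylow82
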