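import Cfsg.Agent.Lib.UniqueSylow82.Cor
import Cfsg.Agent.Lib.OddOrder.FeitThompson

/-!
# The radical of a `2`-subgroup with two lines (helper82)

`Min` is the minimal situation, `Two` its rank two case.  For an invariant `2`-group `Q` not centralised
by any line, the groups `rq q Q = ⁅U_q(Q), Q⁆` (`U_q` the largest invariant `q`-group normalised by `Q`)
commute for different primes and `N(Q)` normalises their join `rad Q`, a proper subgroup.
-/

set_option autoImplicit false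
set_option linter.style.haveILetI false
set_option linter.unusedSectionVars false

open scoped commutatorElement

namespace Cfsg.Agent.Lib.UniqueSylow82

open Subgroup
open Cfsg.Agent.Lib.Signalizer (qc qc_le le_normalizer_qc normalizer_le_normalizer_qc le_qc qc_isPGroup)

universe u

variable {Γ : Type u} [Group Γ] [Finite Γ]

/-- The minimal situation. -/
structure Min (r : ℕ) (G A : Subgroup Γ) : Prop extends Hyp r G A where
  proper : ∀ X : Subgroup Γ, Inv G A X → X ≠ G → Group.IsSolvable X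
  simple : ∀ N : Subgroup Γ, N ≤ G → G ≤ normalizer (N : Set Γ) → N = ⊥ ∨ N = G
  nsol : ¬ Group.IsSolvable G
  moves : ∀ a ∈ A, a ≠ 1 → ¬ G ≤ centralizer ({a} : Set Γ)

namespace Min

variable {r : ℕ} {G A : Subgroup Γ} (h : Min r G A)
include h

theorem ne_bot : G ≠ ⊥ := fun e => h.nsol (by
  haveI : Subsingleton G := by rw [e]; infer_instance
  infer_instance)

/-- The normaliser in `G` of a non-trivial proper subgroup is proper. -/
theorem normalizer_ne {S : Subgroup Γ} (hS : S ≤ G) (hne : S ≠ ⊥) (hne' : S ≠ G) :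
    G ⊓ normalizer (S : Set Γ) ≠ G := fun e => by
  rcases h.simple S hS (inf_eq_left.mp e) with h1 | h1
  · exact hne h1
  · exact hne' h1

theorem centralizer_ne {S : Subgroup Γ} (hS : S ≤ G) (hne : S ≠ ⊥) :
    G ⊓ centralizer (S : Set Γ) ≠ G := fun e => by
  by_cases hSG : S = G
  · refine h.nsol ?_
    haveI : IsMulCommutative G := le_centralizer_iff_isMulCommutative.mp
      (by rw [hSG] at e; exact inf_eq_left.mp e)
    exact Coprime.isSolvable_of_isMulCommutative G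
  · exact h.normalizer_ne hS hne hSG
      (inf_eq_left.mpr ((inf_eq_left.mp e).trans (centralizer_le_normalizer _)))

theorem ne_of_solvable {S : Subgroup Γ} (hs : Group.IsSolvable S) : S ≠ G := fun e =>
  h.nsol (e ▸ hs)

theorem ne_of_pGroup {S : Subgroup Γ} {p : ℕ} (hp : p.Prime) (hS : IsPGroup p S) : S ≠ G :=
  haveI := Fact.mk hp
  h.ne_of_solvable (Coprime.isSolvable_of_isPGroup hS)

theorem syl_two_ne_bot : syl A 2 G ≠ ⊥ := fun e => by
  haveI : Fact (Nat.Prime 2) := ⟨Nat.prime_two⟩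
  refine h.nsol (OddOrder.FeitThompson.isSolvable_of_odd_card ?_)
  rw [← Nat.not_even_iff_odd, even_iff_two_dvd]
  intro hd
  have h1 := h.card_syl h.inv_self 2
  rw [e, card_bot] at h1
  have h2 : 0 < (Nat.card G).factorization 2 :=
    Nat.Prime.factorization_pos_of_dvd Nat.prime_two Nat.card_pos.ne' hd
  exact (Nat.one_lt_pow h2.ne' one_lt_two).ne h1

end Min

/-- Rank two in the minimal situation. -/
structure Two (r : ℕ) (G A : Subgroup Γ) : Prop extends Min r G A where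
  cardA : Nat.card A = r ^ 2
  rne : r ≠ 2

/-- `Q` is not centralised by any line. -/
def TwoLines (A Q : Subgroup Γ) : Prop :=
  ∀ x ∈ A, x ≠ 1 → ¬ Q ≤ centralizer ({x} : Set Γ)

theorem TwoLines.mono {A Q Q' : Subgroup Γ} (h : TwoLines A Q) (hle : Q ≤ Q') : TwoLines A Q' :=
  fun x hx hx1 hc => h x hx hx1 (hle.trans hc)

theorem TwoLines.ne_bot {A Q : Subgroup Γ} (h : TwoLines A Q) (hA : A ≠ ⊥) : Q ≠ ⊥ := fun e => by
  obtain ⟨x, hx, hx1⟩ := A.bot_or_exists_ne_one.resolve_left hA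
  exact h x hx hx1 (by rw [e]; exact bot_le)

/-- The largest invariant `q`-subgroup normalised by `Q`. -/
def usyl (G A : Subgroup Γ) (q : ℕ) (Q : Subgroup Γ) : Subgroup Γ :=
  sSup {S : Subgroup Γ | Inv G A S ∧ IsPGroup q S ∧ Q ≤ normalizer (S : Set Γ)}

/-- `⁅U_q(Q), Q⁆`. -/
def rq (G A : Subgroup Γ) (q : ℕ) (Q : Subgroup Γ) : Subgroup Γ := ⁅usyl G A q Q, Q⁆

/-- The part of `rq` centralised by `⁅Q, x⁆`. -/
def rx (G A : Subgroup Γ) (q : ℕ) (Q : Subgroup Γ) (x : Γ) : Subgroup Γ :=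
  ⁅usyl G A q Q ⊓ centralizer ((⁅Q, zpowers x⁆ : Subgroup Γ) : Set Γ), Q⁆

/-- The join of the `rq`. -/
def rad (G A Q : Subgroup Γ) : Subgroup Γ :=
  ⨆ q : {q : ℕ // q.Prime ∧ q ≠ 2}, rq G A q Q

theorem le_usyl {G A S Q : Subgroup Γ} {q : ℕ} (hS : Inv G A S) (hq : IsPGroup q S)
    (hQ : Q ≤ normalizer (S : Set Γ)) : S ≤ usyl G A q Q :=
  le_sSup ⟨hS, hq, hQ⟩

theorem nor_usyl (G A : Subgroup Γ) (q : ℕ) (Q : Subgroup Γ) :
    Q ≤ normalizer (usyl G A q Q : Set Γ) :=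
  nor_sSup fun _ hS => hS.2.2

theorem rq_le_usyl (G A : Subgroup Γ) (q : ℕ) (Q : Subgroup Γ) : rq G A q Q ≤ usyl G A q Q :=
  Coprime.commutator_le_of_le_normalizer (nor_usyl G A q Q)

theorem rx_le_rq (G A : Subgroup Γ) (q : ℕ) (Q : Subgroup Γ) (x : Γ) :
    rx G A q Q x ≤ rq G A q Q :=
  commutator_mono inf_le_left le_rfl

namespace Two

variable {r : ℕ} {G A : Subgroup Γ} (h : Two r G A)
include h

theorem ctx : Ctx r G A where
  toHyp := h.toHyp
  cardA := h.cardA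
  rne := h.rne
  solv e he he1 := h.proper _ (h.inv_fixed h.inv_self he) fun e' => h.moves e he he1 (inf_eq_left.mp e')

theorem A_ne_bot : A ≠ ⊥ := fun e => by
  have h1 := h.cardA
  rw [e, card_bot] at h1
  have := h.hr.one_lt
  nlinarith

variable {Q : Subgroup Γ} {q : ℕ}

theorem usyl_le_syl : usyl G A q Q ≤ syl A q G :=
  sSup_le fun _ hS => le_syl hS.1.le hS.1.nor hS.2.1

theorem usyl_isP (hq : q.Prime) : IsPGroup q (usyl G A q Q) :=
  (h.syl_isP h.inv_self hq).to_le h.usyl_le_syl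

theorem usyl_inv : Inv G A (usyl G A q Q) :=
  ⟨h.usyl_le_syl.trans (syl_le A q G), nor_sSup fun _ hS => hS.1.nor⟩

theorem rq_inv (hQ : Inv G A Q) : Inv G A (rq G A q Q) :=
  h.usyl_inv.comm_le hQ.nor (nor_usyl G A q Q)

theorem Kx_nor (hQ : Inv G A Q) {x : Γ} (hx : x ∈ A) :
    Q ≤ normalizer ((⁅Q, zpowers x⁆ : Subgroup Γ) : Set Γ) ∧
      A ≤ normalizer ((⁅Q, zpowers x⁆ : Subgroup Γ) : Set Γ) :=
  ⟨Coprime.left_le_normalizer_commutator _ _, (h.inv_comm_zpowers hQ hx).nor⟩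

theorem rx_dom_inv (hQ : Inv G A Q) {x : Γ} (hx : x ∈ A) :
    Inv G A (usyl G A q Q ⊓ centralizer ((⁅Q, zpowers x⁆ : Subgroup Γ) : Set Γ)) ∧
      Q ≤ normalizer ((usyl G A q Q ⊓ centralizer ((⁅Q, zpowers x⁆ : Subgroup Γ) : Set Γ) :
        Subgroup Γ) : Set Γ) :=
  ⟨h.usyl_inv.inf (nor_centralizer (h.Kx_nor hQ hx).2),
    Coprime.le_normalizer_inf (nor_usyl G A q Q) (nor_centralizer (h.Kx_nor hQ hx).1)⟩

theorem rx_inv (hQ : Inv G A Q) {x : Γ} (hx : x ∈ A) : Inv G A (rx G A q Q x) :=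
  (h.rx_dom_inv hQ hx).1.comm_le hQ.nor (h.rx_dom_inv hQ hx).2

theorem rx_cent (hQ : Inv G A Q) {x : Γ} (hx : x ∈ A) :
    rx G A q Q x ≤ centralizer ((⁅Q, zpowers x⁆ : Subgroup Γ) : Set Γ) :=
  (Coprime.commutator_le_of_le_normalizer (h.rx_dom_inv hQ hx).2).trans inf_le_right

theorem rx_comm (hq : q.Prime) (hq2 : q ≠ 2) (hQ : Inv G A Q) (hQ2 : IsPGroup 2 Q) {x : Γ}
    (hx : x ∈ A) : ⁅rx G A q Q x, Q⁆ = rx G A q Q x :=
  haveI := Fact.mk hq
  Coprime.commutator_commutator_eq (h.rx_dom_inv hQ hx).2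
    (card_coprime_pGroups Nat.prime_two hq hq2.symm hQ2 ((h.usyl_isP hq).to_le inf_le_left))
    (Or.inr (Coprime.isSolvable_of_isPGroup ((h.usyl_isP hq).to_le inf_le_left)))

theorem rq_comm (hq : q.Prime) (hq2 : q ≠ 2) (hQ2 : IsPGroup 2 Q) :
    ⁅rq G A q Q, Q⁆ = rq G A q Q :=
  haveI := Fact.mk hq
  Coprime.commutator_commutator_eq (nor_usyl G A q Q)
    (card_coprime_pGroups Nat.prime_two hq hq2.symm hQ2 (h.usyl_isP hq))
    (Or.inr (Coprime.isSolvable_of_isPGroup (h.usyl_isP hq)))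

theorem rq_le (hq : q.Prime) (hq2 : q ≠ 2) (hQ : Inv G A Q) (hQ2 : IsPGroup 2 Q) {K : Subgroup Γ}
    (hK : ∀ x ∈ A, x ≠ 1 → rx G A q Q x ≤ K) : rq G A q Q ≤ K :=
  h.ctx.rad_gen (h.rq_inv hQ) hQ hQ2 (Coprime.right_le_normalizer_commutator _ Q) hq hq2
    ((h.usyl_isP hq).to_le (rq_le_usyl G A q Q)) (h.rq_comm hq hq2 hQ2)
    fun x hx hx1 => (commutator_mono (inf_le_inf_right _ (rq_le_usyl G A q Q)) le_rfl).trans
      (hK x hx hx1)

theorem rx_span (hq : q.Prime) (hq2 : q ≠ 2) (hQ : Inv G A Q) (hQ2 : IsPGroup 2 Q) {x g : Γ}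
    (hx : x ∈ A) (hx1 : x ≠ 1) (hg : g ∈ A) (hgx : g ∉ zpowers x) :
    rx G A q Q x = qspan Q ⁅rx G A q Q x ⊓ centralizer {g}, A⁆ :=
  h.ctx.mov_span (h.rx_inv hQ hx) hQ hQ2 (Coprime.right_le_normalizer_commutator _ Q) hq hq2
    ((h.usyl_isP hq).to_le ((rx_le_rq G A q Q x).trans (rq_le_usyl G A q Q)))
    (h.rx_comm hq hq2 hQ hQ2 hx) hx hx1 hg hgx (le_centralizer_iff.mp (h.rx_cent hQ hx))

theorem K_ne_bot (hQ : Inv G A Q) (h2l : TwoLines A Q) {x : Γ} (hx : x ∈ A) (hx1 : x ≠ 1) :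
    ⁅Q, zpowers x⁆ ≠ ⊥ := fun e =>
  h2l x hx hx1 ((commutator_eq_bot_iff_le_centralizer.mp e).trans
    (centralizer_le (Set.singleton_subset_iff.mpr (mem_zpowers x))))

/-- The normaliser of `⁅Q, x⁆` is a proper solvable invariant subgroup containing `Q`. -/
theorem Ysolv (hQ : Inv G A Q) (hQ2 : IsPGroup 2 Q) (h2l : TwoLines A Q) {x : Γ} (hx : x ∈ A)
    (hx1 : x ≠ 1) :
    Inv G A (G ⊓ normalizer ((⁅Q, zpowers x⁆ : Subgroup Γ) : Set Γ)) ∧
      Group.IsSolvable ↥(G ⊓ normalizer ((⁅Q, zpowers x⁆ : Subgroup Γ) : Set Γ)) ∧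
      Q ≤ G ⊓ normalizer ((⁅Q, zpowers x⁆ : Subgroup Γ) : Set Γ) := by
  have hK := h.inv_comm_zpowers hQ hx
  have hKQ : ⁅Q, zpowers x⁆ ≤ Q :=
    Coprime.commutator_le_of_le_normalizer (zpowers_le.mpr (hQ.nor hx))
  exact ⟨h.inv_normalizer hK.nor, h.proper _ (h.inv_normalizer hK.nor)
    (h.normalizer_ne hK.le (h.K_ne_bot hQ h2l hx hx1)
      (h.ne_of_pGroup Nat.prime_two (hQ2.to_le hKQ))), le_inf hQ.le (h.Kx_nor hQ hx).1⟩

theorem rx_eq (hq : q.Prime) (hq2 : q ≠ 2) (hQ : Inv G A Q) (hQ2 : IsPGroup 2 Q)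
    (h2l : TwoLines A Q) {x : Γ} (hx : x ∈ A) (hx1 : x ≠ 1) :
    rx G A q Q x = ⁅qc q (G ⊓ normalizer ((⁅Q, zpowers x⁆ : Subgroup Γ) : Set Γ)), Q⁆ := by
  obtain ⟨iY, sY, hQY⟩ := h.Ysolv hQ hQ2 h2l hx hx1
  set Y := G ⊓ normalizer ((⁅Q, zpowers x⁆ : Subgroup Γ) : Set Γ)
  set D := usyl G A q Q ⊓ centralizer ((⁅Q, zpowers x⁆ : Subgroup Γ) : Set Γ)
  obtain ⟨iD, hQD⟩ := h.rx_dom_inv (q := q) hQ hx
  refine le_antisymm ?_ (commutator_mono (le_inf (le_usyl (iY.qc q) (qc_isPGroup Y)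
    (hQY.trans (le_normalizer_qc Y))) ?_) le_rfl)
  · refine (h.rx_comm hq hq2 hQ hQ2 hx).ge.trans (commutator_mono ?_ le_rfl)
    exact h.ctx.cor iY sY iD (le_inf iD.le (inf_le_right.trans (centralizer_le_normalizer _))) hQ hQY
      hq hq2 ((h.usyl_isP hq).to_le inf_le_left) hQ2 hQD
  · have hKQ : ⁅Q, zpowers x⁆ ≤ Q :=
      Coprime.commutator_le_of_le_normalizer (zpowers_le.mpr (hQ.nor hx))
    exact commute_of_normalizes hq Nat.prime_two hq2 (qc_isPGroup Y) (hQ2.to_le hKQ)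
      ((qc_le Y).trans inf_le_right) ((hKQ.trans hQY).trans (le_normalizer_qc Y))

theorem rx_commute {s : ℕ} (hq : q.Prime) (hq2 : q ≠ 2) (hs : s.Prime) (hs2 : s ≠ 2) (hne : q ≠ s)
    (hQ : Inv G A Q) (hQ2 : IsPGroup 2 Q) (h2l : TwoLines A Q) {x y : Γ}
    (hx : x ∈ A) (hx1 : x ≠ 1) (hy : y ∈ A) (hy1 : y ≠ 1) :
    rx G A q Q x ≤ centralizer (rx G A s Q y : Set Γ) := by
  by_cases hyx : y ∈ zpowers x
  · have heq : zpowers y = zpowers x := by
      haveI := Fact.mk h.hr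
      refine eq_of_le_of_card_ge (zpowers_le.mpr hyx) ?_
      rw [Nat.card_zpowers, Nat.card_zpowers, orderOf_eq_prime (h.pow x hx) hx1,
        orderOf_eq_prime (h.pow y hy) hy1]
    have hqle := (h.rx_eq hq hq2 hQ hQ2 h2l hx hx1).le
    have hsle := (h.rx_eq hs hs2 hQ hQ2 h2l hy hy1).le
    rw [heq] at hsle
    set Y := G ⊓ normalizer ((⁅Q, zpowers x⁆ : Subgroup Γ) : Set Γ)
    have hQY : Q ≤ Y := (h.Ysolv hQ hQ2 h2l hx hx1).2.2
    refine (hqle.trans (le_normalizer_iff_commutator_le_left.mp (hQY.trans (le_normalizer_qc Y)))).trans ?_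
    exact (qc_commute hq hs hne Y).trans (centralizer_le (SetLike.coe_subset_coe.mpr
      (hsle.trans (le_normalizer_iff_commutator_le_left.mp (hQY.trans (le_normalizer_qc Y))))))
  obtain ⟨g, hg, hg1, hgx, hgy⟩ := h.ctx.exists_off_two hx hy
  set Kx := ⁅Q, zpowers x⁆
  set Ky := ⁅Q, zpowers y⁆
  have hKQ : ∀ z ∈ A, ⁅Q, zpowers z⁆ ≤ Q := fun z hz =>
    Coprime.commutator_le_of_le_normalizer (zpowers_le.mpr (hQ.nor hz))
  have hQK : Q ≤ Ky ⊔ Kx := by
    have hA : A ≤ zpowers x ⊔ zpowers y :=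
      h.ctx.le_of_two hx hx1 hy hyx (mem_sup_left (mem_zpowers x)) (mem_sup_right (mem_zpowers y))
    have hn : A ≤ normalizer ((Ky ⊔ Kx : Subgroup Γ) : Set Γ) :=
      Coprime.le_normalizer_sup (h.Kx_nor hQ hy).2 (h.Kx_nor hQ hx).2
    refine (h.mov_two hQ hQ2).ge.trans ?_
    rw [commutator_comm]
    refine (commutator_mono hA le_rfl).trans (commutator_sup_le ((zpowers_le.mpr hx).trans hn)
      ((zpowers_le.mpr hy).trans hn) ?_ ?_)
    · rw [commutator_comm]; exact le_sup_right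
    · rw [commutator_comm]; exact le_sup_left
  set Mx := ⁅rx G A q Q x ⊓ centralizer ({g} : Set Γ), A⁆ with hMx
  set My := ⁅rx G A s Q y ⊓ centralizer ({g} : Set Γ), A⁆ with hMy
  have ix := h.rx_inv (q := q) hQ hx
  have iy := h.rx_inv (q := s) hQ hy
  have hcomm : Mx ≤ centralizer (My : Set Γ) :=
    h.ctx.mov_commute hg hg1 hq hs hne (h.inv_fixed ix hg)
      ((h.usyl_isP hq).to_le (inf_le_left.trans ((rx_le_rq G A q Q x).trans (rq_le_usyl G A q Q))))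
      inf_le_right (h.inv_fixed iy hg)
      ((h.usyl_isP hs).to_le (inf_le_left.trans ((rx_le_rq G A s Q y).trans (rq_le_usyl G A s Q))))
      inf_le_right
  have hMxle : Mx ≤ rx G A q Q x :=
    (Coprime.commutator_le_of_le_normalizer (h.inv_fixed ix hg).nor).trans inf_le_left
  have hMyle : My ≤ rx G A s Q y :=
    (Coprime.commutator_le_of_le_normalizer (h.inv_fixed iy hg).nor).trans inf_le_left
  -- one conjugate
  have one : ∀ v ∈ Q, ∀ m ∈ Mx, ∀ m' ∈ My, Commute (v * m * v⁻¹) m' := by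
    intro v hv m hm m' hm'
    obtain ⟨a, ha, k, hk, rfl⟩ := Coprime.exists_mul_of_mem_sup
      ((hKQ y hy).trans (h.Kx_nor hQ hx).1) (hQK hv)
    have hkm : k * m * k⁻¹ = m := by
      rw [mul_inv_eq_iff_eq_mul]
      exact mem_centralizer_iff.mp (h.rx_cent hQ hx (hMxle hm)) k hk
    have ham : a * m' * a⁻¹ = m' := by
      rw [mul_inv_eq_iff_eq_mul]
      exact mem_centralizer_iff.mp (h.rx_cent hQ hy (hMyle hm')) a ha
    have hc : Commute m m' := (mem_centralizer_iff.mp (hcomm hm) m' hm').symm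
    have h2 := hc.map (MulAut.conj a).toMonoidHom
    change Commute (a * m * a⁻¹) (a * m' * a⁻¹) at h2
    rw [ham] at h2
    rwa [show a * k * m * (a * k)⁻¹ = a * (k * m * k⁻¹) * a⁻¹ by group, hkm]
  rw [h.rx_span hq hq2 hQ hQ2 hx hx1 hg hgx, h.rx_span hs hs2 hQ hQ2 hy hy1 hg hgy, qspan, qspan,
    centralizer_closure, closure_le]
  rintro _ ⟨w, hw, m, hm, rfl⟩
  refine mem_centralizer_iff.mpr ?_
  rintro _ ⟨w', hw', m', hm', rfl⟩
  have h3 := (one (w'⁻¹ * w) (mul_mem (inv_mem hw') hw) m hm m' hm').map (MulAut.conj w').toMonoidHom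
  change Commute (w' * (w'⁻¹ * w * m * (w'⁻¹ * w)⁻¹) * w'⁻¹) (w' * m' * w'⁻¹) at h3
  rw [show w' * (w'⁻¹ * w * m * (w'⁻¹ * w)⁻¹) * w'⁻¹ = w * m * w⁻¹ by group] at h3
  exact h3.eq.symm

theorem rq_commute {s : ℕ} (hq : q.Prime) (hq2 : q ≠ 2) (hs : s.Prime) (hs2 : s ≠ 2) (hne : q ≠ s)
    (hQ : Inv G A Q) (hQ2 : IsPGroup 2 Q) (h2l : TwoLines A Q) :
    rq G A q Q ≤ centralizer (rq G A s Q : Set Γ) := by
  rw [le_centralizer_iff]
  refine h.rq_le hs hs2 hQ hQ2 fun y hy hy1 => ?_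
  rw [le_centralizer_iff]
  exact h.rq_le hq hq2 hQ hQ2 fun x hx hx1 => h.rx_commute hq hq2 hs hs2 hne hQ hQ2 h2l hx hx1 hy hy1

theorem rad_inv (hQ : Inv G A Q) : Inv G A (rad G A Q) :=
  ⟨iSup_le fun q => (h.rq_inv hQ).le, nor_iSup fun q => (h.rq_inv hQ).nor⟩

theorem rad_le_nor (hQ : Inv G A Q) (hQ2 : IsPGroup 2 Q) (h2l : TwoLines A Q)
    (hq : q.Prime) (hq2 : q ≠ 2) : rad G A Q ≤ normalizer (rq G A q Q : Set Γ) := by
  refine iSup_le fun s => ?_
  by_cases hsq : (s : ℕ) = q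
  · rw [hsq]; exact le_normalizer
  · exact (h.rq_commute s.2.1 s.2.2 hq hq2 hsq hQ hQ2 h2l).trans (centralizer_le_normalizer _)

theorem rad_ne (hQ : Inv G A Q) (hQ2 : IsPGroup 2 Q) (h2l : TwoLines A Q) : rad G A Q ≠ G := by
  intro e
  refine h.ne_bot ?_
  rw [← e, rad, iSup_eq_bot]
  intro q
  have hn := h.rad_le_nor hQ hQ2 h2l q.2.1 q.2.2
  rw [e] at hn
  exact (h.simple _ (h.rq_inv (q := q) hQ).le hn).resolve_right
    (h.ne_of_pGroup q.2.1 ((h.usyl_isP q.2.1).to_le (rq_le_usyl G A q Q)))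

/-- `N(Q)` normalises each `rq`. -/
theorem normalizer_le_rq (hq : q.Prime) (hq2 : q ≠ 2) (hQ : Inv G A Q) (hQ2 : IsPGroup 2 Q)
    (h2l : TwoLines A Q) :
    G ⊓ normalizer (Q : Set Γ) ≤ normalizer (rq G A q Q : Set Γ) := by
  set N := G ⊓ normalizer (Q : Set Γ) with hN
  have iN : Inv G A N := h.inv_normalizer hQ.nor
  have hfixed : N ⊓ centralizer (A : Set Γ) ≤ normalizer (rq G A q Q : Set Γ) := by
    refine nor_commutator ?_ (inf_le_left.trans inf_le_right)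
    rw [le_normalizer_iff]
    intro c hc u hu
    have hle : (usyl G A q Q).map (MulAut.conj c).toMonoidHom ≤ usyl G A q Q := by
      refine le_usyl ⟨?_, ?_⟩ ((h.usyl_isP hq).map _) ?_
      · rintro _ ⟨v, hv, rfl⟩
        exact mul_mem (mul_mem hc.1.1 (h.usyl_inv.le hv)) (inv_mem hc.1.1)
      · rw [le_normalizer_iff]
        rintro a ha _ ⟨v, hv, rfl⟩
        refine ⟨a * v * a⁻¹, conj_mem h.usyl_inv.nor ha hv, ?_⟩
        show c * (a * v * a⁻¹) * c⁻¹ = a * (c * v * c⁻¹) * a⁻¹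
        have e1 : c * a = a * c := (mem_centralizer_iff.mp hc.2 a ha).symm
        have e2 : a⁻¹ * c⁻¹ = c⁻¹ * a⁻¹ := by rw [← mul_inv_rev, e1, mul_inv_rev]
        calc c * (a * v * a⁻¹) * c⁻¹ = (c * a) * v * (a⁻¹ * c⁻¹) := by group
          _ = (a * c) * v * (c⁻¹ * a⁻¹) := by rw [e1, e2]
          _ = _ := by group
      · rw [le_normalizer_iff]
        rintro w hw _ ⟨v, hv, rfl⟩
        refine ⟨(c⁻¹ * w * c) * v * (c⁻¹ * w * c)⁻¹, conj_mem (nor_usyl G A q Q)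
          ((mem_normalizer_iff''.mp hc.1.2 w).mp hw) hv, ?_⟩
        show c * _ * c⁻¹ = w * (c * v * c⁻¹) * w⁻¹
        group
    exact hle ⟨u, hu, rfl⟩
  refine h.le_of_syl iN fun s hs => ?_
  haveI := Fact.mk hs
  set H := syl A s N with hH
  have iH : Inv G A H := iN.syl_inv s
  have hHQ : H ≤ normalizer (Q : Set Γ) := (syl_le A s N).trans inf_le_right
  have hHs : IsPGroup s H := h.syl_isP iN hs
  by_cases hsq : s = q
  · subst hsq
    have hUle : qspan H (usyl G A s Q) ≤ syl A s G :=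
      qspan_le h.usyl_le_syl ((le_syl iH.le iH.nor hHs).trans le_normalizer)
    have hU' : qspan H (usyl G A s Q) ≤ usyl G A s Q := by
      refine le_usyl ⟨hUle.trans (syl_le A s G), nor_qspan iH.nor h.usyl_inv.nor⟩
        ((h.syl_isP h.inv_self hs).to_le hUle) ?_
      rw [le_normalizer_iff]
      intro w hw z hz
      have : qspan H (usyl G A s Q) ≤
          (qspan H (usyl G A s Q)).comap (MulAut.conj w).toMonoidHom := by
        rw [qspan, closure_le]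
        rintro _ ⟨k, hk, m, hm, rfl⟩
        refine subset_closure ⟨k, hk, (k⁻¹ * w * k) * m * (k⁻¹ * w * k)⁻¹,
          conj_mem (nor_usyl G A s Q) ((mem_normalizer_iff''.mp (hHQ hk) w).mp hw) hm, ?_⟩
        show w * (k * m * k⁻¹) * w⁻¹ = _
        group
      exact this hz
    refine nor_commutator ?_ hHQ
    rw [le_normalizer_iff]
    exact fun k hk u hu => hU' (subset_closure ⟨k, hk, u, hu, rfl⟩)
  refine h.ctx.le_of_fixed iH fun e he he1 => ?_
  have ie := h.inv_fixed iH he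
  refine (h.mov_sup_fixed ie).ge.trans (sup_le ?_
    ((inf_le_inf_right _ (inf_le_left.trans (syl_le A s N))).trans hfixed))
  set hM := ⁅H ⊓ centralizer ({e} : Set Γ), A⁆ with hMdef
  have hMH : hM ≤ H ⊓ centralizer ({e} : Set Γ) := Coprime.commutator_le_of_le_normalizer ie.nor
  have hMQ : hM ≤ normalizer (Q : Set Γ) := hMH.trans (inf_le_left.trans hHQ)
  have key : ∀ x ∈ A, x ≠ 1 → hM ≤ normalizer (rx G A q Q x : Set Γ) := by
    intro x hx hx1
    by_cases hex : e ∈ zpowers x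
    · have hMx : hM ≤ centralizer ((zpowers x : Subgroup Γ) : Set Γ) := by
        intro y hy
        have h1 := h.ctx.cent_le hx he1 hex (hMH hy).2
        rw [mem_centralizer_iff]
        rintro _ ⟨j, rfl⟩
        exact ((show Commute y x from mem_centralizer_singleton_iff.mp h1).zpow_right j).eq.symm
      have hMK : hM ≤ normalizer ((⁅Q, zpowers x⁆ : Subgroup Γ) : Set Γ) :=
        nor_commutator hMQ (hMx.trans (centralizer_le_normalizer _))
      rw [h.rx_eq hq hq2 hQ hQ2 h2l hx hx1]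
      exact nor_commutator ((le_inf ((hMH.trans inf_le_left).trans iH.le) hMK).trans
        (le_normalizer_qc _)) hMQ
    · rw [h.rx_span hq hq2 hQ hQ2 hx hx1 he hex]
      refine nor_qspan hMQ ((h.ctx.mov_commute he he1 hs hq hsq ie (hHs.to_le inf_le_left)
        inf_le_right (h.inv_fixed (h.rx_inv hQ hx) he) ((h.usyl_isP hq).to_le
          (inf_le_left.trans ((rx_le_rq G A q Q x).trans (rq_le_usyl G A q Q)))) inf_le_right).trans
        (centralizer_le_normalizer _))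
  have heq : rq G A q Q = ⨆ x : {x : Γ // x ∈ A ∧ x ≠ 1}, rx G A q Q x :=
    le_antisymm (h.rq_le hq hq2 hQ hQ2 fun x hx hx1 =>
      le_iSup (fun x : {x : Γ // x ∈ A ∧ x ≠ 1} => rx G A q Q x) ⟨x, hx, hx1⟩)
      (iSup_le fun x => rx_le_rq G A q Q x)
  rw [heq]
  exact nor_iSup fun x => key x x.2.1 x.2.2

/-- A proper invariant subgroup containing `N(Q)` and all `rq`. -/
theorem exists_over (hQ : Inv G A Q) (hQ2 : IsPGroup 2 Q) (h2l : TwoLines A Q) :
    ∃ Y : Subgroup Γ, Inv G A Y ∧ Y ≠ G ∧ G ⊓ normalizer (Q : Set Γ) ≤ Y ∧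
      ∀ q : ℕ, q.Prime → q ≠ 2 → rq G A q Q ≤ Y := by
  have hle : ∀ q : ℕ, q.Prime → q ≠ 2 → rq G A q Q ≤ rad G A Q := fun q hq hq2 =>
    le_iSup (fun q : {q : ℕ // q.Prime ∧ q ≠ 2} => rq G A q Q) ⟨q, hq, hq2⟩
  have hi := h.rad_inv hQ
  by_cases hR : rad G A Q = ⊥
  · exact ⟨_, h.inv_normalizer hQ.nor,
      h.normalizer_ne hQ.le (h2l.ne_bot h.A_ne_bot) (h.ne_of_pGroup Nat.prime_two hQ2), le_rfl,
      fun q hq hq2 => ((hle q hq hq2).trans hR.le).trans bot_le⟩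
  · refine ⟨_, h.inv_normalizer hi.nor, h.normalizer_ne hi.le hR (h.rad_ne hQ hQ2 h2l),
      le_inf inf_le_left ?_, fun q hq hq2 => (hle q hq hq2).trans (le_inf hi.le le_normalizer)⟩
    exact nor_iSup fun q => h.normalizer_le_rq q.2.1 q.2.2 hQ hQ2 h2l

end Two

end Cfsg.Agent.Lib.UniqueSylow82
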