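import Cfsg.Agent.Lib.UniqueSylow82.Quot

/-!
# Solvable groups on which one element acts with the fixed points of all (helper82)

`comm_le_qc` : if `C_X(b) ≤ C(A)` for the solvable invariant `X`, then `⁅syl q X, b⁆ ≤ O_q(X)`.
`Ctx` : rank two with solvable centralisers; the moved parts of a fixed line.
-/

set_option autoImplicit false
set_option linter.style.haveILetI false
set_option linter.unusedSectionVars false

open scoped commutatorElement

namespace Cfsg.Agent.Lib.UniqueSylow82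

open Subgroup
open Cfsg.Agent.Lib.Signalizer (qc qc_le le_normalizer_qc normalizer_le_normalizer_qc le_qc qc_isPGroup)

universe u

variable {Γ : Type u} [Group Γ] [Finite Γ]

theorem isSolvable_img (N : Subgroup Γ) {X : Subgroup Γ} (hs : Group.IsSolvable X) :
    Group.IsSolvable (img N X) := by
  haveI := hs
  haveI : Group.IsSolvable (X.subgroupOf (normalizer (N : Set Γ))) :=
    Group.isSolvable_of_isSolvable_injective
      (f := ((normalizer (N : Set Γ)).subtype.comp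
        (X.subgroupOf (normalizer (N : Set Γ))).subtype).codRestrict X fun x => x.2)
      fun a b hab => Subtype.ext (Subtype.ext (congrArg Subtype.val hab :))
  exact Coprime.isSolvable_map _ _

/-- A nontrivial `p`-group has a nontrivial centre, inside `Γ`. -/
theorem inf_centralizer_ne_bot {p : ℕ} (hp : p.Prime) {P : Subgroup Γ} (hP : IsPGroup p P)
    (hne : P ≠ ⊥) : P ⊓ centralizer (P : Set Γ) ≠ ⊥ := by
  haveI := Fact.mk hp
  haveI : Nontrivial P := (nontrivial_iff_ne_bot P).mpr hne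
  haveI := hP.center_nontrivial
  intro h
  obtain ⟨⟨z, hz⟩, hz1⟩ := exists_ne (1 : Subgroup.center P)
  refine hz1 (Subtype.ext (Subtype.ext ?_))
  show (z : Γ) = 1
  rw [← mem_bot, ← h]
  exact ⟨z.2, mem_centralizer_iff.mpr fun y hy =>
    congrArg Subtype.val (mem_center_iff.mp hz ⟨y, hy⟩)⟩

namespace Hyp

variable {r : ℕ} {G A : Subgroup Γ} (h : Hyp r G A)
include h

theorem comm_le_qc_odd {X : Subgroup Γ} (hX : Inv G A X) (hs : Group.IsSolvable X) {q : ℕ}
    (hq : q.Prime) {b : Γ} (hb : b ∈ A)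
    (hC : X ⊓ centralizer {b} ≤ centralizer (A : Set Γ)) {S : Subgroup Γ}
    (hS : Inv G A S) (hSX : S ≤ syl A q X) (hS2 : q ≠ 2 ∨ IsMulCommutative S) :
    ⁅S, zpowers b⁆ ≤ qc q X := by
  haveI := Fact.mk hq
  haveI := Fact.mk h.hr
  by_cases hrq : r = q
  · have : S = ⊥ := by
      refine eq_bot_iff.mpr (hSX.trans ?_)
      rw [le_bot_iff, ← card_eq_one, h.card_syl hX q, Nat.factorization_eq_zero_of_not_dvd, pow_zero]
      rw [← hrq]
      exact h.hr.coprime_iff_not_dvd.mp (h.coprime_r hX.le)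
    subst this
    rw [commutator_bot_left]
    exact bot_le
  · exact Signalizer.comm_mem_qc (p := r) hs (h.hr.coprime_iff_not_dvd.mp (h.coprime_r hX.le)) hrq
      (h.pow b hb) (hX.nor hb) hS2 (hSX.trans (syl_le A q X)) (hS.nor hb)
      (h.syl_isP hX hq) hSX ((le_inf inf_le_left hC).trans (h.fixed_le_nor_syl hX q))

theorem syl_two_le_qc {X : Subgroup Γ} (hX : Inv G A X) (hs : Group.IsSolvable X) {b : Γ}
    (hb : b ∈ A) (hC : X ⊓ centralizer {b} ≤ centralizer (A : Set Γ)) :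
    syl A 2 X ≤ qc 2 X := by
  set N := qc 2 X with hN
  have hA : A ≤ normalizer (N : Set Γ) := (hX.qc 2).nor
  have hXN : X ≤ normalizer (N : Set Γ) := le_normalizer_qc X
  have hNG : N ≤ G := (hX.qc 2).le
  have h' := h.quot hA
  have hX' := h.inv_img hA hX
  have hPN : syl A 2 X ≤ normalizer (N : Set Γ) := (syl_le A 2 X).trans hXN
  refine (img_eq_bot hPN).mp ?_
  rw [← h.syl_img hA Nat.prime_two hX]
  set A' := img N A
  set P := syl A' 2 (img N X) with hP
  have hP2 : IsPGroup 2 P := h'.syl_isP hX' Nat.prime_two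
  have hcore : qc 2 (img N X) = ⊥ := by
    set Y := X ⊓ pre N (qc 2 (img N X)) with hY
    have hYimg : img N Y = qc 2 (img N X) := by
      refine le_antisymm ((img_mono inf_le_right).trans (img_pre _).le) fun z hz => ?_
      obtain ⟨x, hx, rfl⟩ := qc_le _ hz
      exact qmk_mem ⟨hx, mem_pre.mpr hz⟩
    have hYP : Y ≤ syl A 2 X := by
      refine (le_sup_of_img_le (inf_le_left.trans hXN) ?_).trans
        (sup_le le_rfl (le_syl (qc_le X) hA (qc_isPGroup X)))
      rw [hYimg, ← h.syl_img hA Nat.prime_two hX]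
      exact le_syl (qc_le _) (hX'.qc 2).nor (qc_isPGroup _)
    have hYN : Y ≤ N := le_qc inf_le_left (le_inf (le_normalizer (H := X)) (nor_pre hXN
      ((img_nor le_normalizer).trans (normalizer_le_normalizer_qc _))) |>.trans
        (Subgroup.inf_normalizer_le_normalizer_inf (H := X))) ((h.syl_isP hX Nat.prime_two).to_le hYP)
    rw [← hYimg, img_eq_bot (hYN.trans le_normalizer)]
    exact hYN
  by_contra hne
  set Z := P ⊓ centralizer (P : Set _) with hZ
  have hZi : Inv (img N G) A' Z := (hX'.syl_inv 2).inf (nor_centralizer (hX'.syl_inv 2).nor)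
  have hb' : qmk N ⟨b, hA hb⟩ ∈ A' := qmk_mem hb
  have hC' : img N X ⊓ centralizer {qmk N ⟨b, hA hb⟩} ≤ centralizer (A' : Set _) := by
    refine (img_inf_singleton (hA hb) (hX.nor hb)
      (h.coprime_zpowers (inf_le_left.trans hX.le) hb)).trans ?_
    refine (img_mono (N := N) (le_inf inf_le_left hC)).trans ?_
    rintro _ ⟨x, hx, rfl⟩
    rw [mem_centralizer_iff]
    rintro _ ⟨a, ha, rfl⟩
    rw [← map_mul, ← map_mul]
    exact congrArg _ (Subtype.ext (mem_centralizer_iff.mp hx.2 a ha))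
  have hcomm : IsMulCommutative Z :=
    ⟨⟨fun x y => Subtype.ext (mem_centralizer_iff.mp y.2.2 x x.2.1)⟩⟩
  have hz := h'.comm_le_qc_odd hX' (isSolvable_img N hs) Nat.prime_two (S := Z) hb' hC' hZi
    inf_le_left (Or.inr hcomm)
  rw [hcore, le_bot_iff, commutator_eq_bot_iff_le_centralizer] at hz
  refine inf_centralizer_ne_bot Nat.prime_two hP2 hne (eq_bot_iff.mpr ?_)
  refine le_trans ?_ (h'.two_inf_fixed hZi.le (hP2.to_le inf_le_left)).le
  refine le_inf le_rfl fun x hx => hC' ⟨syl_le _ _ _ hx.1, ?_⟩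
  exact centralizer_le (Set.singleton_subset_iff.mpr (mem_zpowers _)) (hz hx)

/-- **The rank one lemma.** -/
theorem comm_le_qc {X : Subgroup Γ} (hX : Inv G A X) (hs : Group.IsSolvable X) {q : ℕ}
    (hq : q.Prime) {b : Γ} (hb : b ∈ A)
    (hC : X ⊓ centralizer {b} ≤ centralizer (A : Set Γ)) :
    ⁅syl A q X, zpowers b⁆ ≤ qc q X := by
  by_cases hq2 : q = 2
  · subst hq2
    exact (Coprime.commutator_le_of_le_normalizer (zpowers_le.mpr ((hX.syl_inv 2).nor hb))).trans
      (h.syl_two_le_qc hX hs hb hC)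
  · exact h.comm_le_qc_odd hX hs hq hb hC (hX.syl_inv q) le_rfl (Or.inl hq2)

/-- Invariant subgroups of the `2`-part are their own moved parts. -/
theorem mov_two {S : Subgroup Γ} (hS : Inv G A S) (h2 : IsPGroup 2 S) : ⁅S, A⁆ = S := by
  have := Coprime.commutator_sup_centralizer hS.nor (h.coprime_A hS.le) (Or.inl h.solvA)
  rwa [h.two_inf_fixed hS.le h2, sup_bot_eq] at this

theorem mov_sup_fixed {S : Subgroup Γ} (hS : Inv G A S) :
    ⁅S, A⁆ ⊔ (S ⊓ centralizer (A : Set Γ)) = S :=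
  Coprime.commutator_sup_centralizer hS.nor (h.coprime_A hS.le) (Or.inl h.solvA)

end Hyp

/-- Rank two with solvable centralisers. -/
structure Ctx (r : ℕ) (G A : Subgroup Γ) : Prop extends Hyp r G A where
  cardA : Nat.card A = r ^ 2
  rne : r ≠ 2
  solv : ∀ e ∈ A, e ≠ 1 → Group.IsSolvable ↥(G ⊓ centralizer ({e} : Set Γ))

namespace Ctx

open Cfsg.Agent.Lib.LAEven57.AbelianCent

variable {r : ℕ} {G A : Subgroup Γ} (h : Ctx r G A)
include h

theorem pow_sub (a : A) : a ^ r = 1 := Subtype.ext (by simpa using h.pow a a.2)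

/-- Two elements on different lines generate `A`. -/
theorem le_of_two {x g : Γ} (hx : x ∈ A) (hx1 : x ≠ 1) (hg : g ∈ A) (hgx : g ∉ zpowers x)
    {K : Subgroup Γ} (hxK : x ∈ K) (hgK : g ∈ K) : A ≤ K := by
  have ht := Tools.eq_top_of_mem h.hr h.cardA h.pow_sub (a := (⟨x, hx⟩ : A)) (d := ⟨g, hg⟩)
    (fun e => hx1 (congrArg Subtype.val e))
    (fun ⟨i, hi⟩ => hgx ⟨i, by simpa using congrArg Subtype.val hi⟩)
    (K := K.comap A.subtype) hxK hgK
  exact fun a ha => show (⟨a, ha⟩ : A) ∈ K.comap A.subtype from ht ▸ mem_top _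

theorem fixed_of_two {x g : Γ} (hx : x ∈ A) (hx1 : x ≠ 1) (hg : g ∈ A) (hgx : g ∉ zpowers x) :
    centralizer ({x} : Set Γ) ⊓ centralizer {g} ≤ centralizer (A : Set Γ) := by
  intro y hy
  have := h.le_of_two hx hx1 hg hgx (K := centralizer ({y} : Set Γ))
    (mem_centralizer_singleton_iff.mpr (mem_centralizer_singleton_iff.mp hy.1).symm)
    (mem_centralizer_singleton_iff.mpr (mem_centralizer_singleton_iff.mp hy.2).symm)
  exact mem_centralizer_iff.mpr fun a ha => mem_centralizer_singleton_iff.mp (this ha)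

theorem exists_off_two {x y : Γ} (hx : x ∈ A) (hy : y ∈ A) :
    ∃ g ∈ A, g ≠ 1 ∧ g ∉ zpowers x ∧ g ∉ zpowers y := by
  obtain ⟨d, hd1, hdb, hdc⟩ := Tools.exists_not_mem_two h.hr h.cardA h.pow_sub
    (⟨x, hx⟩ : A) ⟨y, hy⟩
  refine ⟨d, d.2, fun e => hd1 (Subtype.ext e), fun ⟨i, hi⟩ => hdb ⟨i, Subtype.ext ?_⟩,
    fun ⟨i, hi⟩ => hdc ⟨i, Subtype.ext ?_⟩⟩
  · simpa using hi
  · simpa using hi

theorem exists_off {x : Γ} (hx : x ∈ A) : ∃ g ∈ A, g ≠ 1 ∧ g ∉ zpowers x :=
  let ⟨g, hg, hg1, hgx, _⟩ := h.exists_off_two hx hx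
  ⟨g, hg, hg1, hgx⟩

/-- Being off a line is symmetric. -/
theorem off_symm {x g : Γ} (hx : x ∈ A) (hx1 : x ≠ 1) (hg : g ∈ A) (hgx : g ∉ zpowers x) :
    x ∉ zpowers g := by
  intro hx'
  obtain ⟨d, hd, -, hdg⟩ := h.exists_off hg
  exact hdg (h.le_of_two hx hx1 hg hgx (K := zpowers g) hx' (mem_zpowers g) hd)

/-- Generation by centralisers. -/
theorem le_of_fixed {X K : Subgroup Γ} (hX : Inv G A X)
    (hK : ∀ a ∈ A, a ≠ 1 → X ⊓ centralizer {a} ≤ K) : X ≤ K :=
  Tools.le_of_centralizers_le h.hr h.cardA h.pow_sub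
    (fun a b => Subtype.ext (h.comm a a.2 b b.2)) A.subtype (fun a => hX.nor a.2)
    (h.coprime_r hX.le)
    fun a ha => hK a a.2 fun e => ha (Subtype.ext e)

theorem inv_D {e : Γ} (he : e ∈ A) : Inv G A (G ⊓ centralizer {e}) :=
  h.inv_fixed h.inv_self he

/-- The moved part of an invariant `q`-subgroup of `C(e)` lies in `O_q(C_G(e))`. -/
theorem mov_le {e : Γ} (he : e ∈ A) (he1 : e ≠ 1) {q : ℕ} (hq : q.Prime) {S : Subgroup Γ}
    (hS : Inv G A S) (hSq : IsPGroup q S) (hSe : S ≤ centralizer {e}) :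
    ⁅S, A⁆ ≤ qc q (G ⊓ centralizer ({e} : Set Γ)) := by
  obtain ⟨b, hb, -, hbe⟩ := h.exists_off he
  have h1 : ⁅S, zpowers b⁆ ≤ qc q (G ⊓ centralizer ({e} : Set Γ)) := by
    refine (commutator_mono (le_syl (le_inf hS.le hSe) hS.nor hSq) le_rfl).trans
      (h.comm_le_qc (h.inv_D he) (h.solv e he he1) hq hb ?_)
    exact (inf_le_inf_right _ inf_le_right).trans (h.fixed_of_two he he1 hb hbe)
  refine le_trans ?_ h1
  have hA : A ≤ zpowers e ⊔ zpowers b :=
    h.le_of_two he he1 hb hbe (mem_sup_left (mem_zpowers e)) (mem_sup_right (mem_zpowers b))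
  have hK := (h.inv_comm_zpowers hS hb).nor
  refine (commutator_mono le_rfl hA).trans ?_
  rw [commutator_comm]
  refine commutator_sup_le ((zpowers_le.mpr he).trans hK) ((zpowers_le.mpr hb).trans hK) ?_
    (commutator_comm _ _).le
  refine le_trans (le_of_eq ?_) bot_le
  rw [commutator_eq_bot_iff_le_centralizer, zpowers_le, mem_centralizer_iff]
  exact fun s hs => mem_centralizer_singleton_iff.mp (hSe hs)

theorem two_le {e : Γ} (he : e ∈ A) (he1 : e ≠ 1) {S : Subgroup Γ}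
    (hS : Inv G A S) (hS2 : IsPGroup 2 S) (hSe : S ≤ centralizer {e}) :
    S ≤ qc 2 (G ⊓ centralizer ({e} : Set Γ)) :=
  (h.mov_two hS hS2).ge.trans (h.mov_le he he1 Nat.prime_two hS hS2 hSe)

/-- Moved parts of different primes of one line commute. -/
theorem mov_commute {e : Γ} (he : e ∈ A) (he1 : e ≠ 1) {q s : ℕ} (hq : q.Prime) (hs : s.Prime)
    (hne : q ≠ s) {U V : Subgroup Γ} (hU : Inv G A U) (hUq : IsPGroup q U)
    (hUe : U ≤ centralizer {e}) (hV : Inv G A V) (hVs : IsPGroup s V)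
    (hVe : V ≤ centralizer {e}) : ⁅U, A⁆ ≤ centralizer ((⁅V, A⁆ : Subgroup Γ) : Set Γ) :=
  ((h.mov_le he he1 hq hU hUq hUe).trans (qc_commute hq hs hne _)).trans
    (centralizer_le (h.mov_le he he1 hs hV hVs hVe))

/-- (C1): the moved part of `U_e` centralises `V_e`. -/
theorem mov_cent {e : Γ} (he : e ∈ A) (he1 : e ≠ 1) {q s : ℕ} (hq : q.Prime) (hs : s.Prime)
    (hne : q ≠ s) {U V : Subgroup Γ} (hU : Inv G A U) (hUq : IsPGroup q U)
    (hV : Inv G A V) (hVs : IsPGroup s V) (hUV : U ≤ normalizer (V : Set Γ)) :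
    ⁅U ⊓ centralizer {e}, A⁆ ≤ centralizer ((V ⊓ centralizer {e} : Subgroup Γ) : Set Γ) := by
  have hUe := h.inv_fixed hU he
  have hVe := h.inv_fixed hV he
  rw [le_centralizer_iff, ← h.mov_sup_fixed hVe]
  refine sup_le ?_ ?_
  · exact h.mov_commute he he1 hs hq hne.symm hVe (hVs.to_le inf_le_left) inf_le_right hUe
      (hUq.to_le inf_le_left) inf_le_right
  · have hsub : ⁅U ⊓ centralizer ({e} : Set Γ), A⁆ ≤ U :=
      (Coprime.commutator_le_of_le_normalizer hUe.nor).trans inf_le_left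
    refine le_trans ?_ (centralizer_le (SetLike.coe_subset_coe.mpr hsub))
    exact le_trans (inf_le_inf_right _ inf_le_left) (h.comm_fixed hs hq hne.symm hV hU hVs hUq hUV)

/-- `Q_e` centralises `V_e`. -/
theorem two_cent {e : Γ} (he : e ∈ A) (he1 : e ≠ 1) {q : ℕ} (hq : q.Prime) (hne : q ≠ 2)
    {Q V : Subgroup Γ} (hQ : Inv G A Q) (hQ2 : IsPGroup 2 Q)
    (hV : Inv G A V) (hVq : IsPGroup q V) (hQV : Q ≤ normalizer (V : Set Γ)) :
    Q ⊓ centralizer {e} ≤ centralizer ((V ⊓ centralizer {e} : Subgroup Γ) : Set Γ) :=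
  (h.mov_two (h.inv_fixed hQ he) (hQ2.to_le inf_le_left)).ge.trans
    (h.mov_cent he he1 Nat.prime_two hq hne.symm hQ hQ2 hV hVq hQV)

theorem sub {X : Subgroup Γ} (hX : Inv G A X) : Ctx r X A where
  toHyp := h.toHyp.sub hX
  cardA := h.cardA
  rne := h.rne
  solv e he he1 :=
    haveI := h.solv e he he1
    Coprime.isSolvable_of_le (inf_le_inf_right _ hX.le)

theorem quot {N : Subgroup Γ} (hA : A ≤ normalizer (N : Set Γ)) (hN : N ≤ G) :
    Ctx r (img N G) (img N A) where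
  toHyp := h.toHyp.quot hA
  cardA := (h.card_img_A hA hN).trans h.cardA
  rne := h.rne
  solv := by
    rintro _ ⟨⟨a, ha'⟩, ha, rfl⟩ he1
    have ha1 : a ≠ 1 := fun e => he1 (by
      rw [show (⟨a, ha'⟩ : ↥(normalizer (N : Set Γ))) = 1 from Subtype.ext e, map_one])
    haveI := isSolvable_img N (h.solv a ha ha1)
    exact Coprime.isSolvable_of_le (img_inf_singleton ha' (h.nor ha)
      (h.coprime_zpowers inf_le_left ha))

end Ctx

end Cfsg.Agent.Lib.UniqueSylow82
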