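import Cfsg.Agent.Lib.UniqueSylow82.Inverted

/-!
# Rank two, `P` with two lines: contradiction (helper82)

`M` is a proper invariant subgroup containing `N(P)` and all `rq q P`; it contains every proper
invariant subgroup of even order and every `C_G(e)`, `e ∈ A^#`.
-/

set_option autoImplicit false
set_option linter.style.haveILetI false
set_option linter.unusedSectionVars false

open scoped commutatorElement

namespace Cfsg.Agent.Lib.UniqueSylow82

open Subgroup
open Cfsg.Agent.Lib.Signalizer (qc qc_le le_normalizer_qc normalizer_le_normalizer_qc le_qc qc_isPGroup)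

universe u

variable {Γ : Type u} [Group Γ] [Finite Γ]

namespace Two

variable {r : ℕ} {G A : Subgroup Γ} (h : Two r G A)
include h

theorem syl_two_odd2 {X : Subgroup Γ} (hX : Inv G A X) : syl A 2 (odd2 X) = ⊥ := by
  haveI : Fact (Nat.Prime 2) := ⟨Nat.prime_two⟩
  refine eq_bot_of_card_eq _ ?_
  rw [h.card_syl (h.inv_odd2 hX) 2, Nat.factorization_eq_zero_of_not_dvd, pow_zero]
  exact Nat.prime_two.coprime_iff_not_dvd.mp (odd2_coprime X).symm

/-- Normalisers grow. -/
theorem syl_lt_normalizer {X : Subgroup Γ} (hX : Inv G A X)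
    (hne : syl A 2 X ≠ syl A 2 G) :
    syl A 2 X ≤ syl A 2 (G ⊓ normalizer (syl A 2 X : Set Γ)) ∧
    Nat.card (syl A 2 X) < Nat.card (syl A 2 (G ⊓ normalizer (syl A 2 X : Set Γ))) := by
  haveI : Fact (Nat.Prime 2) := ⟨Nat.prime_two⟩
  set Q := syl A 2 X
  set P := syl A 2 G with hP
  have iQ := hX.syl_inv 2
  have hQP : Q ≤ P := syl_mono hX.le
  have hP2 : IsPGroup 2 P := h.syl_isP h.inv_self Nat.prime_two
  have iN := h.inv_normalizer iQ.nor
  have hle : P ⊓ normalizer (Q : Set Γ) ≤ syl A 2 (G ⊓ normalizer (Q : Set Γ)) := by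
    rw [h.syl_eq_inf iN]
    exact le_inf inf_le_left (inf_le_inf_right _ (syl_le A 2 G))
  have hQN : Q ≤ P ⊓ normalizer (Q : Set Γ) := le_inf hQP le_normalizer
  refine ⟨hQN.trans hle, lt_of_lt_of_le ?_ (card_le_of_le hle)⟩
  refine lt_of_le_of_ne (card_le_of_le hQN) fun e => hne ?_
  haveI : Group.IsNilpotent P := hP2.isNilpotent
  have hnc := Group.normalizerCondition_of_isNilpotent (G := P)
  rw [normalizerCondition_iff_only_full_group_self_normalizing] at hnc
  have h2 := hnc (Q.subgroupOf P) (by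
    refine le_antisymm (fun y hy => ?_) le_normalizer
    have h3 : (y : Γ) ∈ P ⊓ normalizer (Q : Set Γ) := by
      refine ⟨y.2, mem_normalizer_iff.mpr fun z => ⟨fun hz => ?_, fun hz => ?_⟩⟩
      · exact (mem_normalizer_iff.mp hy ⟨z, hQP hz⟩).mp hz
      · have h4 := (mem_normalizer_iff''.mp hy ⟨_, hQP hz⟩).mp hz
        simpa [mem_subgroupOf, mul_assoc] using h4
    rw [← eq_of_le_of_card_ge hQN e.ge] at h3
    exact h3)
  rw [subgroupOf_eq_top] at h2
  exact le_antisymm hQP h2

variable {M : Subgroup Γ}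

theorem le_of_twoLines (hM : Inv G A M) (hMne : M ≠ G)
    (hMN : G ⊓ normalizer (syl A 2 G : Set Γ) ≤ M)
    (hMR : ∀ q : ℕ, q.Prime → q ≠ 2 → rq G A q (syl A 2 G) ≤ M) :
    ∀ X : Subgroup Γ, Inv G A X → X ≠ G → TwoLines A (syl A 2 X) → X ≤ M := by
  haveI : Fact (Nat.Prime 2) := ⟨Nat.prime_two⟩
  suffices ∀ n : ℕ, ∀ X : Subgroup Γ, Inv G A X → X ≠ G → TwoLines A (syl A 2 X) →
      Nat.card (syl A 2 G) - Nat.card (syl A 2 X) = n → X ≤ M from
    fun X hX hne h2l => this _ X hX hne h2l rfl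
  intro n
  induction n using Nat.strong_induction_on with
  | _ n ih =>
    intro X hX hXne h2l hn
    set Q := syl A 2 X with hQ
    have hs := h.proper X hX hXne
    have iQ : Inv G A Q := hX.syl_inv 2
    have hQ2 : IsPGroup 2 Q := h.syl_isP hX Nat.prime_two
    -- any `Y` as in `exists_over` contains `X`
    have key : ∀ Y : Subgroup Γ, G ⊓ normalizer (Q : Set Γ) ≤ Y →
        (∀ q : ℕ, q.Prime → q ≠ 2 → rq G A q Q ≤ Y) → X ≤ Y := by
      intro Y hN hR
      refine (h.ctx.le_odd_sup_normalizer hX hs).trans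
        (sup_le ?_ ((inf_le_inf_right _ hX.le).trans hN))
      have iO := h.inv_odd2 hX
      have hsO : Group.IsSolvable (odd2 X) := haveI := hs; Coprime.isSolvable_of_le (odd2_le X)
      have hQO : Q ≤ normalizer (odd2 X : Set Γ) :=
        (syl_le A 2 X).trans (le_normalizer.trans (normalizer_le_odd2 X))
      refine h.le_of_syl iO fun p hp => ?_
      by_cases hp2 : p = 2
      · subst hp2; rw [h.syl_two_odd2 hX]; exact bot_le
      haveI := Fact.mk hp
      have hQS := h.two_nor_syl iO hsO (odd2_coprime X) iQ hQ2 hQO p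
      have iS := iO.syl_inv (A := A) p
      have hSp : IsPGroup p (syl A p (odd2 X)) := h.syl_isP iO hp
      rw [← Coprime.commutator_sup_centralizer hQS
        (card_coprime_pGroups Nat.prime_two hp (Ne.symm hp2) hQ2 hSp)
        (Or.inr (Coprime.isSolvable_of_isPGroup hSp))]
      refine sup_le ((commutator_mono (le_usyl iS hSp hQS) le_rfl).trans (hR p hp hp2)) ?_
      exact (inf_le_inf iS.le (centralizer_le_normalizer _)).trans hN
    by_cases hQP : Q = syl A 2 G
    · exact key M (hQP ▸ hMN) (hQP ▸ hMR)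
    obtain ⟨Y, hY, hYne, hYN, hYR⟩ := h.exists_over iQ hQ2 h2l
    obtain ⟨hle, hlt⟩ := h.syl_lt_normalizer hX hQP
    rw [← hQ] at hle hlt
    have hmono := card_le_of_le (syl_mono (A := A) (p := 2) hYN)
    have hle' : Nat.card (syl A 2 Y) ≤ Nat.card (syl A 2 G) := card_le_of_le (syl_mono hY.le)
    exact (key Y hYN hYR).trans (ih _ (by omega) Y hY hYne
      (h2l.mono (hle.trans (syl_mono hYN))) rfl)

/-- The contradiction. -/
theorem false_of_twoLines (h2l : TwoLines A (syl A 2 G)) {q : ℕ} (hq : q.Prime) (hq2 : q ≠ 2)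
    {X₀ : Subgroup Γ} (hX₀ : Inv G A X₀) (hX₀ne : X₀ ≠ G) (hTX₀ : syl A q G ≤ X₀) {x₀ g₀ : Γ}
    (hx₀ : x₀ ∈ syl A q G) (hx₀1 : x₀ ≠ 1) (hg₀ : g₀ ∈ X₀) (hinv : g₀ * x₀ * g₀⁻¹ = x₀⁻¹) :
    False := by
  haveI : Fact (Nat.Prime 2) := ⟨Nat.prime_two⟩
  haveI := Fact.mk hq
  set P := syl A 2 G with hP
  have iP : Inv G A P := h.inv_self.syl_inv 2
  have hP2 : IsPGroup 2 P := h.syl_isP h.inv_self Nat.prime_two
  obtain ⟨M, hM, hMne, hMN, hMR⟩ := h.exists_over iP hP2 h2l
  have hPM : P ≤ M := (le_inf iP.le le_normalizer).trans hMN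
  have hCM : G ⊓ centralizer (A : Set Γ) ≤ M := fun c hc =>
    hMN ⟨hc.1, h.fixed_nor_syl h.inv_self hc (le_normalizer hc.1) 2⟩
  have caseA := h.le_of_twoLines hM hMne hMN hMR
  have hsylM : ∀ s : ℕ, ∀ e ∈ A, syl A s (G ⊓ centralizer ({e} : Set Γ)) ⊓ centralizer (A : Set Γ) ≤ M :=
    fun s e he => (inf_le_inf_right _ ((h.ctx.inv_D he).syl_inv s).le).trans hCM
  -- lines of `P`
  have caseB : ∀ a ∈ A, a ≠ 1 → P ⊓ centralizer ({a} : Set Γ) ≠ ⊥ →
      G ⊓ centralizer ({a} : Set Γ) ≤ M := by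
    intro a ha ha1 hPa
    set Pa := P ⊓ centralizer ({a} : Set Γ) with hPadef
    have iPa : Inv G A Pa := h.inv_fixed iP ha
    set X1 := G ⊓ centralizer (Pa : Set Γ) with hX1
    have iX1 : Inv G A X1 := h.inv_centralizer iPa.nor
    have hX1M : X1 ≤ M := by
      set Z := P ⊓ centralizer (P : Set Γ) with hZ
      have iZ : Inv G A Z := iP.inf (nor_centralizer iP.nor)
      have hZne : Z ≠ ⊥ := inf_centralizer_ne_bot Nat.prime_two hP2 fun e => hPa (by
        rw [hPadef, e, bot_inf_eq])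
      by_cases hZa : Z ≤ centralizer ({a} : Set Γ)
      · have hX2 : G ⊓ centralizer (Z : Set Γ) ≤ M :=
          caseA _ (h.inv_centralizer iZ.nor) (h.centralizer_ne iZ.le hZne)
            (h2l.mono (le_syl (le_inf iP.le (le_centralizer_iff.mp inf_le_right)) iP.nor hP2))
        exact le_trans (inf_le_inf_left _ (centralizer_le (SetLike.coe_subset_coe.mpr
          (le_inf inf_le_left hZa)))) hX2
      · have hZX : Z ≤ syl A 2 X1 := le_syl (le_inf iZ.le (inf_le_right.trans
          (centralizer_le (SetLike.coe_subset_coe.mpr inf_le_left)))) iZ.nor (hP2.to_le inf_le_left)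
        set Za := Pa ⊓ centralizer (Pa : Set Γ) with hZa'
        have iZa : Inv G A Za := iPa.inf (nor_centralizer iPa.nor)
        have hZa2 : IsPGroup 2 Za := hP2.to_le (inf_le_left.trans inf_le_left)
        have hZaX : Za ≤ syl A 2 X1 := le_syl (le_inf iZa.le inf_le_right) iZa.nor hZa2
        refine caseA X1 iX1 (h.centralizer_ne iPa.le hPa) fun e he he1 hce => ?_
        by_cases hea : e ∈ zpowers a
        · exact hZa ((hZX.trans hce).trans (h.ctx.cent_le ha he1 hea))
        · refine inf_centralizer_ne_bot Nat.prime_two (hP2.to_le inf_le_left) hPa (le_bot_iff.mp ?_)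
          refine le_trans ?_ (h.two_inf_fixed iZa.le hZa2).le
          exact le_inf le_rfl ((le_inf (inf_le_left.trans inf_le_right) (hZaX.trans hce)).trans
            (h.ctx.fixed_of_two ha ha1 he hea))
    have iD := h.ctx.inv_D ha
    refine h.le_of_syl iD fun s hs => ?_
    by_cases hs2 : s = 2
    · subst hs2; exact (syl_mono iD.le).trans hPM
    haveI := Fact.mk hs
    have iS := iD.syl_inv (A := A) s
    refine (h.mov_sup_fixed iS).ge.trans (sup_le (le_trans (le_inf iS.mov.le ?_) hX1M) (hsylM s a ha))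
    have hc := h.ctx.mov_commute ha ha1 hs Nat.prime_two hs2 iS (h.syl_isP iD hs)
      ((syl_le A s _).trans inf_le_right) iPa (hP2.to_le inf_le_left) inf_le_right
    rwa [h.mov_two iPa (hP2.to_le inf_le_left)] at hc
  -- every subgroup of even order
  have caseC : ∀ X : Subgroup Γ, Inv G A X → X ≠ G → syl A 2 X ≠ ⊥ → X ≤ M := by
    suffices ∀ n : ℕ, ∀ X : Subgroup Γ, Inv G A X → X ≠ G → syl A 2 X ≠ ⊥ →
        Nat.card P - Nat.card (syl A 2 X) = n → X ≤ M from
      fun X hX hne hbot => this _ X hX hne hbot rfl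
    intro n
    induction n using Nat.strong_induction_on with
    | _ n ih =>
      intro X hX hXne hbot hn
      set Q := syl A 2 X with hQ
      by_cases hQl : TwoLines A Q
      · exact caseA X hX hXne hQl
      unfold TwoLines at hQl
      push Not at hQl
      obtain ⟨x, hx, hx1, hQx⟩ := hQl
      have hs := h.proper X hX hXne
      have iQ : Inv G A Q := hX.syl_inv 2
      have hQ2 : IsPGroup 2 Q := h.syl_isP hX Nat.prime_two
      have hQP : Q ≠ P := fun e => h2l x hx hx1 (e ▸ hQx)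
      obtain ⟨hle, hlt⟩ := h.syl_lt_normalizer hX hQP
      rw [← hQ] at hle hlt
      have iN := h.inv_normalizer iQ.nor
      have hle' : Nat.card (syl A 2 (G ⊓ normalizer (Q : Set Γ))) ≤ Nat.card P :=
        card_le_of_le (syl_mono iN.le)
      have hNM : G ⊓ normalizer (Q : Set Γ) ≤ M :=
        ih _ (by omega) _ iN (h.normalizer_ne iQ.le hbot (h.ne_of_pGroup Nat.prime_two hQ2))
          (fun e => hbot (le_bot_iff.mp (hle.trans e.le))) rfl
      obtain ⟨a, ha, ha1, hax, hPa⟩ :
          ∃ a ∈ A, a ≠ 1 ∧ a ∉ zpowers x ∧ P ⊓ centralizer ({a} : Set Γ) ≠ ⊥ := by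
        by_contra hno
        push Not at hno
        refine h2l x hx hx1 (h.ctx.le_of_fixed iP fun a ha ha1 => ?_)
        by_cases hax : a ∈ zpowers x
        · exact inf_le_right.trans (h.ctx.cent_le hx ha1 hax)
        · rw [hno a ha ha1 hax]; exact bot_le
      refine (h.ctx.le_odd_sup_normalizer hX hs).trans
        (sup_le ?_ ((inf_le_inf_right _ hX.le).trans hNM))
      have iO := h.inv_odd2 hX
      have hsO : Group.IsSolvable (odd2 X) := haveI := hs; Coprime.isSolvable_of_le (odd2_le X)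
      have hQO : Q ≤ normalizer (odd2 X : Set Γ) :=
        (syl_le A 2 X).trans (le_normalizer.trans (normalizer_le_odd2 X))
      refine h.le_of_syl iO fun p hp => ?_
      by_cases hp2 : p = 2
      · subst hp2; rw [h.syl_two_odd2 hX]; exact bot_le
      haveI := Fact.mk hp
      have hQS := h.two_nor_syl iO hsO (odd2_coprime X) iQ hQ2 hQO p
      have iS := iO.syl_inv (A := A) p
      have hSp : IsPGroup p (syl A p (odd2 X)) := h.syl_isP iO hp
      have hcop := card_coprime_pGroups Nat.prime_two hp (Ne.symm hp2) hQ2 hSp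
      rw [← Coprime.commutator_sup_centralizer hQS hcop (Or.inr (Coprime.isSolvable_of_isPGroup hSp))]
      refine sup_le ?_ ((inf_le_inf iS.le (centralizer_le_normalizer _)).trans hNM)
      have iR : Inv G A ⁅syl A p (odd2 X), Q⁆ := iS.comm_le iQ.nor hQS
      have hQR := Coprime.right_le_normalizer_commutator (syl A p (odd2 X)) Q
      have hKx : ⁅Q, zpowers x⁆ = ⊥ := by
        rw [commutator_eq_bot_iff_le_centralizer]
        intro y hy
        rw [mem_centralizer_iff]
        rintro _ ⟨j, rfl⟩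
        exact ((show Commute y x from mem_centralizer_singleton_iff.mp (hQx hy)).zpow_right j).eq.symm
      rw [h.ctx.mov_span iR iQ hQ2 hQR hp hp2
        (hSp.to_le (Coprime.commutator_le_of_le_normalizer hQS))
        (Coprime.commutator_commutator_eq hQS hcop (Or.inr (Coprime.isSolvable_of_isPGroup hSp)))
        hx hx1 ha hax (by rw [hKx]; exact bot_le)]
      refine qspan_le ?_ (((syl_mono hX.le).trans hPM).trans le_normalizer)
      exact (((Coprime.commutator_le_of_le_normalizer (h.inv_fixed iR ha).nor).trans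
        (inf_le_inf_right _ iR.le)).trans (caseB a ha ha1 hPa))
  -- `⁅O_q(M), P⁆ ≠ 1`
  have hsM := h.proper M hM hMne
  have hX₀s := h.proper X₀ hX₀ hX₀ne
  have hS := h.ctx.odd_comm_ne_bot hX₀ hX₀s hq hq2 (h.inv_self.syl_inv q)
    (h.syl_isP h.inv_self hq) hTX₀ hx₀ hx₀1 hg₀ hinv
  set S := syl A q (odd2 X₀) with hSdef
  set Q := syl A 2 X₀ with hQdef
  have hQne : Q ≠ ⊥ := fun e => hS (by rw [e, commutator_bot_right])
  have hX₀M : X₀ ≤ M := caseC X₀ hX₀ hX₀ne hQne
  have iO := h.inv_odd2 hX₀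
  have iS : Inv G A S := iO.syl_inv q
  have iQ : Inv G A Q := hX₀.syl_inv 2
  have hQ2 : IsPGroup 2 Q := h.syl_isP hX₀ Nat.prime_two
  have hsO : Group.IsSolvable (odd2 X₀) := haveI := hX₀s; Coprime.isSolvable_of_le (odd2_le X₀)
  have hQS : Q ≤ normalizer (S : Set Γ) := h.two_nor_syl iO hsO (odd2_coprime X₀) iQ hQ2
    ((syl_le A 2 X₀).trans (le_normalizer.trans (normalizer_le_odd2 X₀))) q
  have hSq : IsPGroup q S := h.syl_isP iO hq
  have hcor := h.ctx.cor hM hsM iS ((syl_le A q _).trans ((odd2_le X₀).trans hX₀M)) iQ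
    ((syl_le A 2 X₀).trans hX₀M) hq hq2 hSq hQ2 hQS
  have hrq : rq G A q P ≠ ⊥ := fun e => hS (le_bot_iff.mp (by
    rw [← e, ← Coprime.commutator_commutator_eq hQS
      (card_coprime_pGroups Nat.prime_two hq hq2.symm hQ2 hSq)
      (Or.inr (Coprime.isSolvable_of_isPGroup hSq))]
    exact commutator_mono (hcor.trans (le_usyl (hM.qc q) (qc_isPGroup M)
      (hPM.trans (le_normalizer_qc M)))) (syl_mono hX₀.le)))
  obtain ⟨x, hx, hx1, hrx⟩ : ∃ x ∈ A, x ≠ 1 ∧ rx G A q P x ≠ ⊥ := by
    by_contra hno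
    push Not at hno
    exact hrq (le_bot_iff.mp (h.rq_le hq hq2 iP hP2 fun x hx hx1 => (hno x hx hx1).le))
  have hPx : P ⊓ centralizer ({x} : Set Γ) ≠ ⊥ := by
    intro e
    have hKP : ⁅P, zpowers x⁆ = P := by
      have := Coprime.commutator_sup_centralizer (zpowers_le.mpr (iP.nor hx))
        (h.coprime_zpowers iP.le hx) (Or.inl (Coprime.isSolvable_zpowers x))
      rwa [le_bot_iff.mp (le_trans (inf_le_inf_left _ (centralizer_le
        (Set.singleton_subset_iff.mpr (mem_zpowers x)))) e.le), sup_bot_eq] at this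
    have h1 := h.rx_cent (q := q) iP hx
    rw [hKP, ← commutator_eq_bot_iff_le_centralizer, h.rx_comm hq hq2 iP hP2 hx] at h1
    exact hrx h1
  refine hMne (le_antisymm hM.le (h.ctx.le_of_fixed h.inv_self fun f hf hf1 => ?_))
  by_cases hPf : P ⊓ centralizer ({f} : Set Γ) = ⊥
  swap
  · exact caseB f hf hf1 hPf
  have hfx : f ∉ zpowers x := fun hh => hPx (le_bot_iff.mp (le_trans (inf_le_inf_left _ (by
    -- on one line the centralisers agree
    refine h.ctx.cent_le hf hx1 ?_
    haveI := Fact.mk h.hr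
    refine (eq_of_le_of_card_ge (zpowers_le.mpr hh) ?_).symm ▸ mem_zpowers x
    rw [Nat.card_zpowers, Nat.card_zpowers, orderOf_eq_prime (h.pow x hx) hx1,
      orderOf_eq_prime (h.pow f hf) hf1])) hPf.le))
  have irx := h.rx_inv (q := q) iP hx
  set M0 := ⁅rx G A q P x ⊓ centralizer ({f} : Set Γ), A⁆ with hM0
  have hM0rx : M0 ≤ rx G A q P x :=
    (Coprime.commutator_le_of_le_normalizer (h.inv_fixed irx hf).nor).trans inf_le_left
  have hM0ne : M0 ≠ ⊥ := fun e => hrx (le_bot_iff.mp (by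
    rw [h.rx_span hq hq2 iP hP2 hx hx1 hf hfx]
    exact qspan_le e.le (le_normalizer_iff.mpr fun a _ b hb => by
      rw [mem_bot] at hb ⊢; subst hb; simp)))
  have iM0 : Inv G A M0 := (h.inv_fixed irx hf).mov
  have hXM : G ⊓ centralizer (M0 : Set Γ) ≤ M := by
    refine caseC _ (h.inv_centralizer iM0.nor) (h.centralizer_ne iM0.le hM0ne) fun e => ?_
    refine h.K_ne_bot iP h2l hx hx1 (le_bot_iff.mp (le_trans (le_syl (le_inf ?_ ?_) ?_ ?_) e.le))
    · exact (h.inv_comm_zpowers iP hx).le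
    · exact le_centralizer_iff.mp (hM0rx.trans (h.rx_cent iP hx))
    · exact (h.inv_comm_zpowers iP hx).nor
    · exact hP2.to_le (Coprime.commutator_le_of_le_normalizer (zpowers_le.mpr (iP.nor hx)))
  have iD := h.ctx.inv_D hf
  refine h.le_of_syl iD fun s hs => ?_
  by_cases hs2 : s = 2
  · subst hs2; exact (syl_mono iD.le).trans hPM
  by_cases hsq : s = q
  · subst hsq; exact (syl_mono iD.le).trans (hTX₀.trans hX₀M)
  haveI := Fact.mk hs
  have iS' := iD.syl_inv (A := A) s
  refine (h.mov_sup_fixed iS').ge.trans (sup_le (le_trans (le_inf iS'.mov.le ?_) hXM) (hsylM s f hf))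
  exact h.ctx.mov_commute hf hf1 hs hq hsq iS' (h.syl_isP iD hs) ((syl_le A s _).trans inf_le_right)
    (h.inv_fixed irx hf) ((h.usyl_isP hq).to_le
      (inf_le_left.trans ((rx_le_rq G A q P x).trans (rq_le_usyl G A q P)))) inf_le_right

end Two

end Cfsg.Agent.Lib.UniqueSylow82
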