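import Mathlib
import Cfsg.Agent.Lib.Coprime.Commutator
import Cfsg.Agent.Lib.Coprime.Generation
import Cfsg.Agent.Lib.Cores.Basic
import Cfsg.Agent.Lib.PGroups.Frattini
import Cfsg.Agent.Lib.LAEven57.AbelianCent.Tools
import Cfsg.Agent.Lib.Signalizer.CoreFixed

/-!
# Coprime action with unique invariant Sylow subgroups: setting (helper82)

`A` is an elementary abelian `r`-group normalising the `r'`-group `G` inside `Γ`; uniqueness of the
invariant Sylow subgroups is used in the form "two invariant `p`-subgroups generate a `p`-group".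
-/

set_option autoImplicit false
set_option linter.style.haveILetI false
set_option linter.unusedSectionVars false

open scoped commutatorElement

namespace Cfsg.Agent.Lib.UniqueSylow82

open Subgroup
open Cfsg.Agent.Lib.Signalizer (qc qc_le le_normalizer_qc normalizer_le_normalizer_qc le_qc qc_isPGroup)
open Cfsg.Agent.Lib.LAEven57.AbelianCent.Tools (normalizer_le_map_char)

universe u

variable {Γ : Type u} [Group Γ]

/-! ### General helpers -/

theorem conj_mem {A X : Subgroup Γ} (h : A ≤ normalizer (X : Set Γ)) {a x : Γ} (ha : a ∈ A)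
    (hx : x ∈ X) : a * x * a⁻¹ ∈ X :=
  (mem_normalizer_iff.mp (h ha) x).mp hx

/-- Normalising both arguments normalises the commutator. -/
theorem nor_commutator {L X Y : Subgroup Γ} (hX : L ≤ normalizer (X : Set Γ))
    (hY : L ≤ normalizer (Y : Set Γ)) : L ≤ normalizer ((⁅X, Y⁆ : Subgroup Γ) : Set Γ) := by
  rw [le_normalizer_iff]
  intro a ha x hx
  have : ⁅X, Y⁆ ≤ Subgroup.comap (MulAut.conj a).toMonoidHom ⁅X, Y⁆ := by
    rw [commutator_le]
    intro g hg h hh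
    show MulAut.conj a ⁅g, h⁆ ∈ ⁅X, Y⁆
    rw [map_commutatorElement]
    exact commutator_mem_commutator (conj_mem hX ha hg) (conj_mem hY ha hh)
  exact this hx

theorem nor_sSup {L : Subgroup Γ} {S : Set (Subgroup Γ)}
    (h : ∀ X ∈ S, L ≤ normalizer (X : Set Γ)) : L ≤ normalizer ((sSup S : Subgroup Γ) : Set Γ) := by
  rw [le_normalizer_iff]
  intro a ha x hx
  have : sSup S ≤ Subgroup.comap (MulAut.conj a).toMonoidHom (sSup S) :=
    sSup_le fun X hX y hy => (le_sSup hX : X ≤ sSup S) (conj_mem (h X hX) ha hy)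
  exact this hx

theorem nor_iSup {L : Subgroup Γ} {ι : Sort*} {X : ι → Subgroup Γ}
    (h : ∀ i, L ≤ normalizer (X i : Set Γ)) :
    L ≤ normalizer ((⨆ i, X i : Subgroup Γ) : Set Γ) := by
  rw [iSup]
  exact nor_sSup fun Y ⟨i, hi⟩ => hi ▸ h i

theorem nor_centralizer {L X : Subgroup Γ} (h : L ≤ normalizer (X : Set Γ)) :
    L ≤ normalizer ((centralizer (X : Set Γ) : Subgroup Γ) : Set Γ) := by
  refine le_normalizer_iff.mpr fun a ha x hx => ?_
  rw [mem_centralizer_iff]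
  intro s hs
  have hs' : a⁻¹ * s * a ∈ X := (mem_normalizer_iff''.mp (h ha) s).mp hs
  have hc := mem_centralizer_iff.mp hx _ hs'
  calc s * (a * x * a⁻¹) = a * ((a⁻¹ * s * a) * x) * a⁻¹ := by group
    _ = a * (x * (a⁻¹ * s * a)) * a⁻¹ := by rw [hc]
    _ = a * x * a⁻¹ * s := by group

theorem sSup_mem_of_sup_closed [Finite Γ] (S : Set (Subgroup Γ)) (h0 : ⊥ ∈ S)
    (hsup : ∀ H ∈ S, ∀ K ∈ S, H ⊔ K ∈ S) : sSup S ∈ S := by
  obtain ⟨M, hM⟩ := (Set.toFinite S).exists_maximal ⟨⊥, h0⟩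
  have hle : ∀ N ∈ S, N ≤ M := fun N hN =>
    le_trans le_sup_right (hM.2 (hsup M hM.1 N hN) le_sup_left)
  exact (le_antisymm (sSup_le hle) (le_sSup hM.1)) ▸ hM.1

/-- `⁅X ⊔ Y, Z⁆ ≤ K` from the two parts when `X` and `Y` normalise `K`. -/
theorem commutator_sup_le {X Y Z K : Subgroup Γ} (hX : X ≤ normalizer (K : Set Γ))
    (hY : Y ≤ normalizer (K : Set Γ)) (h1 : ⁅X, Z⁆ ≤ K) (h2 : ⁅Y, Z⁆ ≤ K) :
    ⁅X ⊔ Y, Z⁆ ≤ K := by
  let T : Subgroup Γ :=
    { carrier := {w | w ∈ normalizer (K : Set Γ) ∧ ∀ z ∈ Z, ⁅w, z⁆ ∈ K}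
      mul_mem' := fun {a b} ha hb => ⟨mul_mem ha.1 hb.1, fun z hz => by
        have e : ⁅a * b, z⁆ = a * ⁅b, z⁆ * a⁻¹ * ⁅a, z⁆ := by
          simp only [commutatorElement_def]; group
        rw [e]
        exact mul_mem ((mem_normalizer_iff.mp ha.1 _).mp (hb.2 z hz)) (ha.2 z hz)⟩
      one_mem' := ⟨one_mem _, fun z _ => by simp [commutatorElement_def]⟩
      inv_mem' := fun {a} ha => ⟨inv_mem ha.1, fun z hz => by
        have e : ⁅a⁻¹, z⁆ = a⁻¹ * ⁅a, z⁆⁻¹ * a := by simp only [commutatorElement_def]; group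
        rw [e]
        exact (mem_normalizer_iff''.mp ha.1 _).mp (inv_mem (ha.2 z hz))⟩ }
  have hle : X ⊔ Y ≤ T := sup_le
    (fun x hx => ⟨hX hx, fun z hz => h1 (commutator_mem_commutator hx hz)⟩)
    (fun x hx => ⟨hY hx, fun z hz => h2 (commutator_mem_commutator hx hz)⟩)
  rw [commutator_le]
  exact fun w hw z hz => (hle hw).2 z hz

theorem eq_bot_of_pGroups [Finite Γ] {s t : ℕ} (hs : s.Prime) (ht : t.Prime) (hne : s ≠ t)
    {K L X : Subgroup Γ} (hK : IsPGroup s K) (hL : IsPGroup t L) (h1 : X ≤ K) (h2 : X ≤ L) :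
    X = ⊥ :=
  haveI := Fact.mk hs
  haveI := Fact.mk ht
  (Subgroup.eq_bot_iff_forall _).2 fun _ hx =>
    Signalizer.eq_one_of_pGroups hne hK hL (h1 hx) (h2 hx)

/-- Two groups of coprime prime power orders normalising each other commute. -/
theorem commute_of_normalizes [Finite Γ] {s t : ℕ} (hs : s.Prime) (ht : t.Prime) (hne : s ≠ t)
    {S T : Subgroup Γ} (hS : IsPGroup s S) (hT : IsPGroup t T)
    (h1 : S ≤ normalizer (T : Set Γ)) (h2 : T ≤ normalizer (S : Set Γ)) :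
    S ≤ centralizer (T : Set Γ) := by
  rw [← commutator_eq_bot_iff_le_centralizer]
  refine eq_bot_of_pGroups hs ht hne hS hT ?_ ?_
  · exact le_normalizer_iff_commutator_le_left.mp h2
  · rw [commutator_comm]; exact le_normalizer_iff_commutator_le_left.mp h1

theorem qc_commute [Finite Γ] {s t : ℕ} (hs : s.Prime) (ht : t.Prime) (hne : s ≠ t)
    (X : Subgroup Γ) : qc s X ≤ centralizer (qc t X : Set Γ) :=
  commute_of_normalizes hs ht hne (qc_isPGroup X) (qc_isPGroup X)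
    ((qc_le X).trans (le_normalizer_qc X)) ((qc_le X).trans (le_normalizer_qc X))

theorem card_coprime_pGroups [Finite Γ] {s t : ℕ} (hs : s.Prime) (ht : t.Prime) (hne : s ≠ t)
    {K L : Subgroup Γ} (hK : IsPGroup s K) (hL : IsPGroup t L) :
    (Nat.card K).Coprime (Nat.card L) :=
  haveI := Fact.mk hs
  haveI := Fact.mk ht
  Signalizer.coprime_card_pGroups hne hK hL

/-! ### The Frattini subgroup inside `Γ` -/

/-- `Φ(R)` as a subgroup of `Γ`. -/
def fr (R : Subgroup Γ) : Subgroup Γ := (frattini R).map R.subtype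

theorem fr_le (R : Subgroup Γ) : fr R ≤ R := map_subtype_le _

theorem normalizer_le_fr (R : Subgroup Γ) :
    normalizer (R : Set Γ) ≤ normalizer (fr R : Set Γ) :=
  normalizer_le_map_char _

theorem le_normalizer_fr (R : Subgroup Γ) : R ≤ normalizer (fr R : Set Γ) :=
  le_normalizer.trans (normalizer_le_fr R)

theorem eq_of_sup_fr [Finite Γ] {R K : Subgroup Γ} (hK : K ≤ R) (h : R ≤ K ⊔ fr R) : K = R := by
  have h1 : K.subgroupOf R ⊔ frattini R = ⊤ := by
    refine map_injective R.subtype_injective ?_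
    rw [Subgroup.map_sup, map_subgroupOf_eq_of_le hK, ← MonoidHom.range_eq_map, range_subtype]
    exact le_antisymm (sup_le hK (fr_le R)) h
  refine le_antisymm hK fun x hx => ?_
  have h2 : (⟨x, hx⟩ : R) ∈ K.subgroupOf R := frattini_nongenerating h1 ▸ mem_top _
  exact h2

theorem fr_ne [Finite Γ] {R : Subgroup Γ} (hR : R ≠ ⊥) : fr R ≠ R := fun h =>
  hR (eq_of_sup_fr bot_le (by rw [h, bot_sup_eq])).symm

theorem commutator_le_fr [Finite Γ] {p : ℕ} [Fact p.Prime] {R : Subgroup Γ} (hR : IsPGroup p R) :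
    ⁅R, R⁆ ≤ fr R := by
  rw [commutator_le]
  intro x hx y hy
  exact ⟨⁅(⟨x, hx⟩ : R), ⟨y, hy⟩⁆, PGroups.commutatorElement_mem_frattini hR _ _, rfl⟩

/-- A subgroup between `Φ(R)` and `R` is normal in `R`. -/
theorem normalizer_of_fr_le [Finite Γ] {p : ℕ} [Fact p.Prime] {R K : Subgroup Γ}
    (hR : IsPGroup p R) (hK : K ≤ R) (h : fr R ≤ K) : R ≤ normalizer (K : Set Γ) :=
  le_normalizer_iff_commutator_le_left.mpr
    ((commutator_mono hK le_rfl).trans ((commutator_le_fr hR).trans h))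

/-! ### The span of `Q`-conjugates -/

/-- The subgroup generated by the `Q`-conjugates of `M`. -/
def qspan (Q M : Subgroup Γ) : Subgroup Γ :=
  closure {y | ∃ w ∈ Q, ∃ m ∈ M, y = w * m * w⁻¹}

theorem le_qspan (Q M : Subgroup Γ) : M ≤ qspan Q M :=
  fun m hm => subset_closure ⟨1, Q.one_mem, m, hm, by simp⟩

theorem qspan_le {Q M K : Subgroup Γ} (hM : M ≤ K) (hQ : Q ≤ normalizer (K : Set Γ)) :
    qspan Q M ≤ K := by
  rw [qspan, closure_le]
  rintro _ ⟨w, hw, m, hm, rfl⟩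
  exact conj_mem hQ hw (hM hm)

theorem nor_qspan {Q M L : Subgroup Γ} (hQ : L ≤ normalizer (Q : Set Γ))
    (hM : L ≤ normalizer (M : Set Γ)) : L ≤ normalizer (qspan Q M : Set Γ) := by
  rw [le_normalizer_iff]
  intro a ha x hx
  have : qspan Q M ≤ Subgroup.comap (MulAut.conj a).toMonoidHom (qspan Q M) := by
    rw [qspan, closure_le]
    rintro _ ⟨w, hw, m, hm, rfl⟩
    refine subset_closure ⟨a * w * a⁻¹, conj_mem hQ ha hw, a * m * a⁻¹, conj_mem hM ha hm, ?_⟩
    show a * (w * m * w⁻¹) * a⁻¹ = _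
    group
  exact this hx

theorem self_nor_qspan (Q M : Subgroup Γ) : Q ≤ normalizer (qspan Q M : Set Γ) := by
  rw [le_normalizer_iff]
  intro a ha x hx
  have : qspan Q M ≤ Subgroup.comap (MulAut.conj a).toMonoidHom (qspan Q M) := by
    rw [qspan, closure_le]
    rintro _ ⟨w, hw, m, hm, rfl⟩
    refine subset_closure ⟨a * w, mul_mem ha hw, m, hm, ?_⟩
    show a * (w * m * w⁻¹) * a⁻¹ = _
    group
  exact this hx

/-! ### The hypothesis -/

/-- `A`-invariant subgroups of `G`. -/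
structure Inv (G A X : Subgroup Γ) : Prop where
  le : X ≤ G
  nor : A ≤ normalizer (X : Set Γ)

/-- Coprime action of an elementary abelian group with unique invariant Sylow subgroups and fixed
points of odd order. -/
structure Hyp (r : ℕ) (G A : Subgroup Γ) : Prop where
  hr : r.Prime
  comm : ∀ a ∈ A, ∀ b ∈ A, a * b = b * a
  pow : ∀ a ∈ A, a ^ r = 1
  nor : A ≤ normalizer (G : Set Γ)
  cop : r.Coprime (Nat.card G)
  join : ∀ p : ℕ, p.Prime → ∀ S T : Subgroup Γ, Inv G A S → Inv G A T → IsPGroup p S →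
    IsPGroup p T → IsPGroup p ↥(S ⊔ T)
  odd : Odd (Nat.card ↥(G ⊓ centralizer (A : Set Γ)))

/-- The largest invariant `p`-subgroup of `X`. -/
def syl (A : Subgroup Γ) (p : ℕ) (X : Subgroup Γ) : Subgroup Γ :=
  sSup {S : Subgroup Γ | S ≤ X ∧ A ≤ normalizer (S : Set Γ) ∧ IsPGroup p S}

namespace Inv

variable {G A X Y : Subgroup Γ}

theorem inf (hX : Inv G A X) (hY : A ≤ normalizer (Y : Set Γ)) : Inv G A (X ⊓ Y) :=
  ⟨inf_le_left.trans hX.le, Coprime.le_normalizer_inf hX.nor hY⟩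

theorem sup (hX : Inv G A X) (hY : Inv G A Y) : Inv G A (X ⊔ Y) :=
  ⟨sup_le hX.le hY.le, Coprime.le_normalizer_sup hX.nor hY.nor⟩

theorem bot : Inv G A (⊥ : Subgroup Γ) :=
  ⟨bot_le, fun x _ => mem_normalizer_iff.mpr fun y => by simp⟩

theorem trans (hX : Inv G A X) (hY : Inv X A Y) : Inv G A Y := ⟨hY.le.trans hX.le, hY.nor⟩

theorem comm_le (hX : Inv G A X) (hY : A ≤ normalizer (Y : Set Γ))
    (hle : Y ≤ normalizer (X : Set Γ)) : Inv G A ⁅X, Y⁆ :=
  ⟨(le_normalizer_iff_commutator_le_left.mp hle).trans hX.le, nor_commutator hX.nor hY⟩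

theorem mov (hX : Inv G A X) : Inv G A ⁅X, A⁆ := hX.comm_le le_normalizer hX.nor

theorem qc (hX : Inv G A X) (p : ℕ) : Inv G A (qc p X) :=
  ⟨(qc_le X).trans hX.le, hX.nor.trans (normalizer_le_normalizer_qc X)⟩

theorem fr (hX : Inv G A X) : Inv G A (fr X) :=
  ⟨(fr_le X).trans hX.le, hX.nor.trans (normalizer_le_fr X)⟩

theorem syl_inv (hX : Inv G A X) (p : ℕ) : Inv G A (syl A p X) :=
  ⟨(sSup_le fun _ hS => hS.1).trans hX.le, nor_sSup fun _ hS => hS.2.1⟩

end Inv

theorem syl_le (A : Subgroup Γ) (p : ℕ) (X : Subgroup Γ) : syl A p X ≤ X :=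
  sSup_le fun _ hS => hS.1

theorem le_syl {A X S : Subgroup Γ} {p : ℕ} (hS : S ≤ X) (hA : A ≤ normalizer (S : Set Γ))
    (hp : IsPGroup p S) : S ≤ syl A p X :=
  le_sSup ⟨hS, hA, hp⟩

theorem syl_mono {A X Y : Subgroup Γ} {p : ℕ} (h : X ≤ Y) : syl A p X ≤ syl A p Y :=
  sSup_le fun _ hS => le_syl (hS.1.trans h) hS.2.1 hS.2.2

namespace Hyp

variable [Finite Γ] {r : ℕ} {G A : Subgroup Γ} (h : Hyp r G A)
include h

theorem commA : IsMulCommutative A := ⟨⟨fun x y => Subtype.ext (h.comm x x.2 y y.2)⟩⟩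

theorem isP_A : IsPGroup r A := fun a => ⟨1, Subtype.ext (by simpa using h.pow a a.2)⟩

theorem coprime_A {X : Subgroup Γ} (hX : X ≤ G) : (Nat.card A).Coprime (Nat.card X) := by
  haveI := Fact.mk h.hr
  obtain ⟨n, hn⟩ := IsPGroup.iff_card.mp h.isP_A
  rw [hn]
  exact (h.cop.coprime_dvd_right (card_dvd_of_le hX)).pow_left n

theorem coprime_r {X : Subgroup Γ} (hX : X ≤ G) : r.Coprime (Nat.card X) :=
  h.cop.coprime_dvd_right (card_dvd_of_le hX)

theorem coprime_zpowers {X : Subgroup Γ} (hX : X ≤ G) {a : Γ} (ha : a ∈ A) :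
    (Nat.card (zpowers a)).Coprime (Nat.card X) :=
  (h.coprime_A hX).coprime_dvd_left (card_dvd_of_le (zpowers_le.mpr ha))

theorem solvA : Group.IsSolvable A :=
  haveI := h.commA
  Coprime.isSolvable_of_isMulCommutative A

theorem inv_self : Inv G A G := ⟨le_rfl, h.nor⟩

theorem sub {X : Subgroup Γ} (hX : Inv G A X) : Hyp r X A where
  hr := h.hr
  comm := h.comm
  pow := h.pow
  nor := hX.nor
  cop := h.coprime_r hX.le
  join p hp S T hS hT := h.join p hp S T (hX.trans hS) (hX.trans hT)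
  odd := h.odd.of_dvd_nat (card_dvd_of_le (inf_le_inf_right _ hX.le))

theorem nor_singleton {a : Γ} (ha : a ∈ A) :
    A ≤ normalizer ((centralizer ({a} : Set Γ) : Subgroup Γ) : Set Γ) :=
  fun b hb => le_normalizer (mem_centralizer_singleton_iff.mpr (h.comm b hb a ha))

theorem inv_fixed {X : Subgroup Γ} (hX : Inv G A X) {a : Γ} (ha : a ∈ A) :
    Inv G A (X ⊓ centralizer {a}) :=
  hX.inf (h.nor_singleton ha)

theorem inv_centralizer {S : Subgroup Γ} (hS : A ≤ normalizer (S : Set Γ)) :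
    Inv G A (G ⊓ centralizer (S : Set Γ)) :=
  h.inv_self.inf (nor_centralizer hS)

theorem inv_normalizer {S : Subgroup Γ} (hS : A ≤ normalizer (S : Set Γ)) :
    Inv G A (G ⊓ normalizer (S : Set Γ)) :=
  h.inv_self.inf (hS.trans le_normalizer)

theorem nor_zpowers {a : Γ} (ha : a ∈ A) : A ≤ normalizer ((zpowers a : Subgroup Γ) : Set Γ) := by
  intro b hb
  refine centralizer_le_normalizer _ (mem_centralizer_iff.mpr ?_)
  rintro _ ⟨j, rfl⟩
  exact h.comm _ (zpow_mem ha j) b hb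

/-- `A` normalises `⁅X, a⁆`. -/
theorem inv_comm_zpowers {X : Subgroup Γ} (hX : Inv G A X) {a : Γ} (ha : a ∈ A) :
    Inv G A ⁅X, zpowers a⁆ :=
  hX.comm_le (h.nor_zpowers ha) (zpowers_le.mpr (hX.nor ha))

theorem syl_isP {X : Subgroup Γ} (hX : Inv G A X) {p : ℕ} (hp : p.Prime) :
    IsPGroup p (syl A p X) :=
  (sSup_mem_of_sup_closed {S : Subgroup Γ | S ≤ X ∧ A ≤ normalizer (S : Set Γ) ∧ IsPGroup p S}
    ⟨bot_le, Inv.bot.nor (G := G), IsPGroup.of_bot⟩
    fun S hS T hT => ⟨sup_le hS.1 hT.1, Coprime.le_normalizer_sup hS.2.1 hT.2.1,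
      h.join p hp S T ⟨hS.1.trans hX.le, hS.2.1⟩ ⟨hT.1.trans hX.le, hT.2.1⟩ hS.2.2 hT.2.2⟩).2.2

theorem card_syl {X : Subgroup Γ} (hX : Inv G A X) (p : ℕ) [Fact p.Prime] :
    Nat.card (syl A p X) = p ^ (Nat.card X).factorization p := by
  obtain ⟨T, hT⟩ := Coprime.exists_invariant_sylow hX.nor (h.coprime_A hX.le) (Or.inl h.solvA) p
  have hle : (T : Subgroup X).map X.subtype ≤ syl A p X :=
    le_syl (map_subtype_le _) hT (T.2.map _)
  obtain ⟨k, hk⟩ := IsPGroup.iff_card.mp (h.syl_isP hX (p := p) Fact.out)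
  refine le_antisymm ?_ (Coprime.card_sylow_map T ▸ card_le_of_le hle)
  rw [hk]
  exact Nat.pow_le_pow_right (Fact.out : p.Prime).pos
    ((Nat.Prime.pow_dvd_iff_le_factorization Fact.out Nat.card_pos.ne').mp
      (hk ▸ card_dvd_of_le (syl_le A p X)))

/-- A `p`-subgroup of `X` containing `syl` is equal to it. -/
theorem syl_max {X S : Subgroup Γ} (hX : Inv G A X) {p : ℕ} [Fact p.Prime] (hS : S ≤ X)
    (hp : IsPGroup p S) (hle : syl A p X ≤ S) : S = syl A p X := by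
  refine (eq_of_le_of_card_ge hle ?_).symm
  obtain ⟨k, hk⟩ := IsPGroup.iff_card.mp hp
  rw [hk, h.card_syl hX p]
  exact Nat.pow_le_pow_right (Fact.out : p.Prime).pos
    ((Nat.Prime.pow_dvd_iff_le_factorization Fact.out Nat.card_pos.ne').mp
      (hk ▸ card_dvd_of_le hS))

theorem exists_sylow {X : Subgroup Γ} (hX : Inv G A X) (p : ℕ) [Fact p.Prime] :
    ∃ P : Sylow p X, (P : Subgroup X).map X.subtype = syl A p X :=
  Coprime.exists_sylow_of_card (syl_le A p X) (h.card_syl hX p)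

theorem syl_eq_inf {X : Subgroup Γ} (hX : Inv G A X) {p : ℕ} [Fact p.Prime] :
    syl A p X = syl A p G ⊓ X :=
  (h.syl_max hX inf_le_right
    ((h.syl_isP h.inv_self (p := p) Fact.out).to_le inf_le_left)
    (le_inf (syl_mono hX.le) (syl_le A p X))).symm

theorem le_of_syl {X K : Subgroup Γ} (hX : Inv G A X)
    (hK : ∀ p : ℕ, p.Prime → syl A p X ≤ K) : X ≤ K :=
  Coprime.le_of_forall_sylow fun p hp =>
    haveI := Fact.mk hp
    let ⟨P, hP⟩ := h.exists_sylow hX p
    ⟨P, hP ▸ hK p hp⟩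

theorem fixed_nor_syl {X : Subgroup Γ} (hX : Inv G A X) {c : Γ}
    (hc : c ∈ G ⊓ centralizer (A : Set Γ)) (hcX : c ∈ normalizer (X : Set Γ)) (p : ℕ) :
    c ∈ normalizer (syl A p X : Set Γ) := by
  have key : ∀ d ∈ G ⊓ centralizer (A : Set Γ), d ∈ normalizer (X : Set Γ) →
      ∀ x ∈ syl A p X, d * x * d⁻¹ ∈ syl A p X := by
    intro d hd hdX x hx
    have : syl A p X ≤ Subgroup.comap (MulAut.conj d).toMonoidHom (syl A p X) := by
      refine sSup_le fun S hS => map_le_iff_le_comap.mp (le_syl ?_ ?_ (hS.2.2.map _))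
      · rintro _ ⟨y, hy, rfl⟩
        exact (mem_normalizer_iff.mp hdX y).mp (hS.1 hy)
      · rw [le_normalizer_iff]
        rintro a ha _ ⟨y, hy, rfl⟩
        refine ⟨a * y * a⁻¹, conj_mem hS.2.1 ha hy, ?_⟩
        show d * (a * y * a⁻¹) * d⁻¹ = a * (d * y * d⁻¹) * a⁻¹
        have hda : d * a = a * d := (mem_centralizer_iff.mp hd.2 a ha).symm
        have hda' : a⁻¹ * d⁻¹ = d⁻¹ * a⁻¹ := by rw [← mul_inv_rev, hda, mul_inv_rev]
        calc d * (a * y * a⁻¹) * d⁻¹ = (d * a) * y * (a⁻¹ * d⁻¹) := by group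
          _ = (a * d) * y * (d⁻¹ * a⁻¹) := by rw [hda, hda']
          _ = _ := by group
    exact this hx
  exact mem_normalizer_iff.mpr fun x => ⟨key c hc hcX x, fun hx => by
    simpa [mul_assoc] using key c⁻¹ (inv_mem hc) (inv_mem hcX) _ hx⟩

theorem fixed_le_nor_syl {X : Subgroup Γ} (hX : Inv G A X) (p : ℕ) :
    X ⊓ centralizer (A : Set Γ) ≤ normalizer (syl A p X : Set Γ) :=
  fun _ hc => h.fixed_nor_syl hX ⟨hX.le hc.1, hc.2⟩ (le_normalizer hc.1) p

theorem two_inf_fixed {S : Subgroup Γ} (hS : S ≤ G) (h2 : IsPGroup 2 S) :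
    S ⊓ centralizer (A : Set Γ) = ⊥ := by
  haveI : Fact (Nat.Prime 2) := ⟨Nat.prime_two⟩
  refine eq_bot_of_card_eq _ ?_
  obtain ⟨n, hn⟩ := IsPGroup.iff_card.mp (h2.to_inf_left (K := centralizer (A : Set Γ)))
  rcases Nat.eq_zero_or_pos n with rfl | hpos
  · simpa using hn
  · exfalso
    have := h.odd.of_dvd_nat (card_dvd_of_le (inf_le_inf_right _ hS))
    rw [hn] at this
    exact (Nat.not_even_iff_odd.mpr this) ((Nat.even_pow).mpr ⟨even_two, hpos.ne'⟩)

/-- Fixed points of an invariant `p`-group commute with the invariant `q`-groups normalising it. -/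
theorem comm_fixed {p q : ℕ} (hp : p.Prime) (hq : q.Prime) (hne : p ≠ q) {V U : Subgroup Γ}
    (hV : Inv G A V) (hU : Inv G A U) (hVp : IsPGroup p V) (hUq : IsPGroup q U)
    (hUV : U ≤ normalizer (V : Set Γ)) :
    V ⊓ centralizer (A : Set Γ) ≤ centralizer (U : Set Γ) := by
  rw [← commutator_eq_bot_iff_le_centralizer]
  refine eq_bot_of_pGroups hp hq hne hVp (h.syl_isP h.inv_self hq) ?_ ?_
  · exact (commutator_mono inf_le_left le_rfl).trans (le_normalizer_iff_commutator_le_left.mp hUV)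
  · rw [commutator_comm]
    refine (commutator_mono (le_syl hU.le hU.nor hUq) le_rfl).trans
      (le_normalizer_iff_commutator_le_left.mp ?_)
    exact fun c hc => h.fixed_nor_syl h.inv_self ⟨hV.le hc.1, hc.2⟩ (le_normalizer (hV.le hc.1)) q

end Hyp

end Cfsg.Agent.Lib.UniqueSylow82
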