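import Cfsg.Prelude.Def_Transfer
import Cfsg.Agent.Lib.UniqueSylow82.Main
import Cfsg.Agent.Lib.Coprime.Action

/-!
# From automorphism groups to `G ⋊ A` (helper82)
-/

set_option autoImplicit false
set_option linter.style.haveILetI false
set_option linter.unusedSectionVars false

namespace Cfsg.Agent.Lib.UniqueSylow82

open Subgroup SemidirectProduct
open Cfsg.Agent.Lib.Coprime Cfsg.Agent.Lib.Coprime.Action

universe u

variable {G : Type u} [Group G] [Finite G]

theorem smul_def' (A : Subgroup (MulAut G)) (a : A) (x : G) : a • x = (a : MulAut G) x := rfl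

/-- Unique invariant Sylow subgroups and odd fixed points imply solvability. -/
theorem solvable_of_unique_sylow (A : Subgroup (MulAut G)) {r : ℕ} [hr : Fact r.Prime]
    (hA : Cfsg.IsElementaryAbelian r A) (hcop : (Nat.card A).Coprime (Nat.card G))
    (huniq : ∀ p : ℕ, p.Prime → p ∣ Nat.card G →
      ∃! P : Sylow p G, ∀ φ ∈ A, (P : Subgroup G).map (MulEquiv.toMonoidHom φ) = P)
    (hodd : Odd (Nat.card {g : G // ∀ φ ∈ A, φ g = g})) :
    Group.IsSolvable G := by
  haveI : Finite (MulAut G) :=
    Finite.of_injective (fun f : MulAut G => (f : G → G)) DFunLike.coe_injective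
  by_cases htriv : A = ⊥
  · refine OddOrder.FeitThompson.isSolvable_of_odd_card ?_
    rwa [Nat.card_congr (Equiv.subtypeUnivEquiv fun g φ hφ => by
      rw [htriv, mem_bot] at hφ; subst hφ; rfl)] at hodd
  haveI := finite_semi (A := A) (G := G)
  have hcard : Nat.card (grpG A G) = Nat.card G := card_grpG
  have hsolA : Group.IsSolvable A :=
    haveI := hA.1
    isSolvable_of_isMulCommutative A
  have hinv : ∀ (p : ℕ) (P : Sylow p G), (∀ (a : A), ∀ x ∈ (P : Subgroup G), a • x ∈ (P : Subgroup G)) →
      ∀ φ ∈ A, (P : Subgroup G).map (MulEquiv.toMonoidHom φ) = P := by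
    intro p P hP φ hφ
    refine eq_of_le_of_card_ge ?_ (le_of_eq ?_)
    · rintro _ ⟨x, hx, rfl⟩
      exact hP ⟨φ, hφ⟩ x hx
    · exact Nat.card_congr ((P : Subgroup G).equivMapOfInjective _ φ.injective).toEquiv
  have h : Hyp r (grpG A G) (actA A G) :=
    { hr := hr.out
      comm := by
        rintro _ ⟨a, rfl⟩ _ ⟨b, rfl⟩
        haveI := hA.1
        rw [← map_mul, ← map_mul, mul_comm' a b]
      pow := by
        rintro _ ⟨a, rfl⟩
        rw [← map_pow, show a ^ r = 1 from Subtype.ext (by simpa using hA.2 a a.2), map_one]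
      nor := actA_le_normalizer_grpG
      cop := by
        obtain ⟨a, ha, ha1⟩ := A.bot_or_exists_ne_one.resolve_left htriv
        rw [hcard]
        refine hcop.coprime_dvd_left ?_
        rw [← orderOf_eq_prime (hA.2 a ha) ha1, ← Nat.card_zpowers]
        exact card_dvd_of_le (zpowers_le.mpr ha)
      join := by
        intro p hp S T hS hT hSp hTp
        haveI := Fact.mk hp
        by_cases hpG : p ∣ Nat.card G
        swap
        · have key : ∀ U : Subgroup (Semi A G), U ≤ grpG A G → IsPGroup p U → U = ⊥ := by
            intro U hU hUp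
            obtain ⟨n, hn⟩ := IsPGroup.iff_card.mp hUp
            rcases Nat.eq_zero_or_pos n with rfl | hn0
            · exact card_eq_one.mp (by simpa using hn)
            · exact absurd ((dvd_pow_self p hn0.ne').trans (hn ▸ hcard ▸ card_dvd_of_le hU)) hpG
          rw [key S hS.le hSp, key T hT.le hTp, sup_bot_eq]
          exact IsPGroup.of_bot
        obtain ⟨P₀, hP₀, huni⟩ := huniq p hp hpG
        have key : ∀ U : Subgroup (Semi A G), Inv (grpG A G) (actA A G) U → IsPGroup p U →
            U ≤ (P₀ : Subgroup G).map (embG A G) := by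
          intro U hU hUp
          obtain ⟨P, hle, hP⟩ := Cfsg.Agent.Lib.Coprime.exists_invariant_sylow_ge actA_le_normalizer_grpG
              (by rw [card_actA, card_grpG]; exact hcop)
              (solvable_or_grpG (Or.inl hsolA)) p U hU.le hUp hU.nor
          set Q := ((P : Subgroup (grpG A G)).map (grpG A G).subtype).comap (embG A G) with hQ
          have hmap : Q.map (embG A G) = (P : Subgroup (grpG A G)).map (grpG A G).subtype :=
            map_comap_eq_self (map_subtype_le _)
          have hQcard : Nat.card Q = p ^ (Nat.card G).factorization p := by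
            rw [← card_map_embG (A := A) Q, hmap, card_sylow_map, hcard]
          rw [← hmap] at hP
          have heq : Sylow.ofCard Q hQcard = P₀ := huni _ (hinv p _ (by
            rw [Sylow.coe_ofCard]; exact actA_le_normalizer_iff.mp hP))
          rw [← heq, Sylow.coe_ofCard, hmap]
          exact hle
        exact (P₀.2.map (embG A G)).to_le (sup_le (key S hS hSp) (key T hT hTp))
      odd := by
        refine hodd.of_dvd_nat (dvd_of_eq (Nat.card_congr (Equiv.ofBijective
          (fun g : {g : G // ∀ φ ∈ A, φ g = g} =>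
            (⟨embG A G g.1, ⟨g.1, rfl⟩, inl_mem_centralizer_iff.mpr fun a => g.2 a a.2⟩ :
              ↥(grpG A G ⊓ centralizer ((actA A G : Subgroup (Semi A G)) : Set (Semi A G)))))
          ⟨fun g g' hgg => Subtype.ext (inl_injective (congrArg Subtype.val hgg)), ?_⟩)).symm)
        rintro ⟨_, ⟨g, rfl⟩, hg⟩
        exact ⟨⟨g, fun φ hφ => inl_mem_centralizer_iff.mp hg ⟨φ, hφ⟩⟩, rfl⟩ }
  haveI := solvable_of_hyp h
  exact Group.isSolvable_of_isSolvable_injective (f := (inl : G →* Semi A G).rangeRestrict)
    (MonoidHom.rangeRestrict_injective_iff.mpr inl_injective)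

end Cfsg.Agent.Lib.UniqueSylow82
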